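import Groth.Agent.SGA3x.K5.Clopen
import Groth.Agent.SGA3x.K6.ConstFin

/-!
# Points of constant schemes

* `exists_glue`: gluing morphisms `f i : T ⟶ Z` along a locally constant function `T ⟶ I`;
* `idx`: the locally constant function attached to a point of `TwC.const V I`; `idx_comp`, `idx_ext`, `exists_pt`;
* `isQuasiAffine_of_isCompact`: quasi-compact opens of a constant scheme over an affine scheme are quasi-affine.
-/

set_option autoImplicit false
universe u
open CategoryTheory MonoidalCategory CartesianMonoidalCategory MonObj GrpObj AlgebraicGeometry Limits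

namespace K12.ConstPts

open TwC

variable {V : Scheme.{u}}

/-- An open subscheme, as a scheme over the base. -/
noncomputable abbrev opn {T : Over V} (U : T.left.Opens) : Over V := Over.mk (U.ι ≫ T.hom)

/-- The inclusion of an open subscheme. -/
noncomputable abbrev opnι {T : Over V} (U : T.left.Opens) : opn U ⟶ T := Over.homMk U.ι rfl

/-- Morphisms agreeing on an open covering. -/
theorem hom_ext_opens {T Y : Over V} (a b : T ⟶ Y)
    (h : ∀ t : T.left, ∃ U : T.left.Opens, t ∈ U ∧ opnι U ≫ a = opnι U ≫ b) : a = b := by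
  refine Groth.Agent.SGA3x.K5.Clopen.hom_ext_of_etale a b fun t => ?_
  obtain ⟨U, ht, hU⟩ := h t
  exact ⟨opn U, opnι U, inferInstanceAs (Etale U.ι), ⟨⟨t, ht⟩, rfl⟩, hU⟩

/-- A morphism with range in an open subscheme factors. -/
theorem exists_lift_opn {T T' : Over V} (t : T' ⟶ T) (U : T.left.Opens) (h : ∀ x, t.left x ∈ U) :
    ∃ t' : T' ⟶ opn U, t' ≫ opnι U = t := by
  have h1 : Set.range t.left ⊆ Set.range U.ι := by
    rw [Scheme.Opens.range_ι]
    rintro _ ⟨x, rfl⟩
    exact h x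
  refine ⟨Over.homMk (IsOpenImmersion.lift U.ι t.left h1) ?_, ?_⟩
  · change IsOpenImmersion.lift U.ι t.left h1 ≫ U.ι ≫ T.hom = T'.hom
    rw [← Category.assoc, IsOpenImmersion.lift_fac, Over.w]
  · ext1
    exact IsOpenImmersion.lift_fac _ _ _

variable {I : Type u}

/-- **Gluing along a locally constant function.** -/
theorem exists_glue {T Z : Over V} (l : T.left → I) (hl : ∀ i, IsOpen {t | l t = i}) (f : I → (T ⟶ Z)) :
    ∃ a : T ⟶ Z, ∀ (T' : Over V) (t : T' ⟶ T) (i : I), (∀ x : T'.left, l (t.left x) = i) → t ≫ a = t ≫ f i := by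
  let U : I → T.left.Opens := fun i => ⟨{t | l t = i}, hl i⟩
  have hU : ⨆ i, U i = ⊤ := by
    rw [eq_top_iff]
    intro t _
    exact TopologicalSpace.Opens.mem_iSup.mpr ⟨l t, rfl⟩
  let 𝒰 := T.left.openCoverOfIsOpenCover U (.mk hU)
  let g : T.left ⟶ Z.left := 𝒰.glueMorphisms (fun i => (U i).ι ≫ (f i).left) (by
    intro i j
    by_cases hij : i = j
    · subst hij
      have h1 : pullback.fst (𝒰.f i) (𝒰.f i) = pullback.snd (𝒰.f i) (𝒰.f i) := by
        have : Mono (𝒰.f i) := inferInstance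
        rw [← cancel_mono (𝒰.f i)]
        exact pullback.condition
      rw [h1]
    · have h1 : IsEmpty ↥(pullback (𝒰.f i) (𝒰.f j)) := by
        refine ⟨fun x => hij ?_⟩
        have h2 : (𝒰.f i) (pullback.fst (𝒰.f i) (𝒰.f j) x) = (𝒰.f j) (pullback.snd (𝒰.f i) (𝒰.f j) x) := by
          rw [← Scheme.Hom.comp_apply, pullback.condition, Scheme.Hom.comp_apply]
        have h3 : l ((𝒰.f i) (pullback.fst (𝒰.f i) (𝒰.f j) x)) = i :=
          (pullback.fst (𝒰.f i) (𝒰.f j) x : (U i : Scheme.{u})).2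
        have h4 : l ((𝒰.f j) (pullback.snd (𝒰.f i) (𝒰.f j) x)) = j :=
          (pullback.snd (𝒰.f i) (𝒰.f j) x : (U j : Scheme.{u})).2
        rw [← h3, h2, h4]
      exact (isInitialOfIsEmpty (X := pullback (𝒰.f i) (𝒰.f j))).hom_ext _ _)
  have hg : ∀ i, (U i).ι ≫ g = (U i).ι ≫ (f i).left := fun i => 𝒰.ι_glueMorphisms _ _ i
  refine ⟨Over.homMk g ?_, ?_⟩
  · refine 𝒰.hom_ext _ _ fun i => ?_
    change (U i).ι ≫ g ≫ Z.hom = (U i).ι ≫ T.hom
    rw [← Category.assoc, hg, Category.assoc, Over.w]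
  · intro T' t i hi
    obtain ⟨t', rfl⟩ := exists_lift_opn t (U i) hi
    rw [Category.assoc, Category.assoc]
    congr 1
    ext1
    exact hg i

/-- The index of a point of a constant scheme. -/
noncomputable def idx {T : Over V} (a : T ⟶ const V I) (t : T.left) : I :=
  (K6.Const.exists_ι I (a.left t)).choose

theorem idx_spec {T : Over V} (a : T ⟶ const V I) (t : T.left) :
    ∃ x : V, Sigma.ι (fun _ : I => V) (idx a t) x = a.left t :=
  (K6.Const.exists_ι I (a.left t)).choose_spec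

theorem idx_eq_iff {T : Over V} (a : T ⟶ const V I) (t : T.left) (i : I) :
    idx a t = i ↔ a.left t ∈ Set.range (Sigma.ι (fun _ : I => V) i) := by
  obtain ⟨x, hx⟩ := idx_spec a t
  constructor
  · rintro rfl
    exact ⟨x, hx⟩
  · rintro ⟨y, hy⟩
    rw [← hx] at hy
    have h1 := (sigmaι_eq_iff _ _ _ _ _).1 hy
    exact (congrArg Sigma.fst h1).symm

theorem idx_comp {T T' : Over V} (f : T' ⟶ T) (a : T ⟶ const V I) (t : T'.left) :
    idx (f ≫ a) t = idx a (f.left t) := by
  rw [idx_eq_iff]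
  obtain ⟨x, hx⟩ := idx_spec a (f.left t)
  exact ⟨x, hx⟩

theorem isOpen_idx {T : Over V} (a : T ⟶ const V I) (i : I) : IsOpen {t | idx a t = i} := by
  have h1 : {t | idx a t = i} = a.left ⁻¹' Set.range (Sigma.ι (fun _ : I => V) i) := by
    ext t
    exact idx_eq_iff a t i
  rw [h1]
  exact (Sigma.ι (fun _ : I => V) i).isOpenEmbedding.isOpen_range.preimage a.left.continuous

theorem idx_pt {T : Over V} (i : I) (t : T.left) : idx (toUnit T ≫ pt V I i) t = i := by
  rw [idx_eq_iff]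
  exact ⟨(toUnit T).left t, rfl⟩

theorem eq_pt {T : Over V} (a : T ⟶ const V I) (i : I) (h : ∀ t, idx a t = i) : a = toUnit T ≫ pt V I i := by
  have h1 : Set.range a.left ⊆ Set.range (Sigma.ι (fun _ : I => V) i) := by
    rintro _ ⟨t, rfl⟩
    exact (idx_eq_iff a t i).1 (h t)
  have h2 := IsOpenImmersion.lift_fac (Sigma.ι (fun _ : I => V) i) a.left h1
  generalize IsOpenImmersion.lift (Sigma.ι (fun _ : I => V) i) a.left h1 = b at h2
  have h3 : b = T.hom := by
    have h4 : a.left ≫ Sigma.desc (fun _ : I => 𝟙 V) = T.hom := Over.w a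
    have h5 : Sigma.ι (fun _ : I => V) i ≫ Sigma.desc (fun _ : I => 𝟙 V) = 𝟙 V := Sigma.ι_desc _ _
    rw [← h4, ← h2, Category.assoc, h5, Category.comp_id]
  ext1
  rw [← h2, h3]
  rfl

theorem idx_ext {T : Over V} {a b : T ⟶ const V I} (h : ∀ t, idx a t = idx b t) : a = b := by
  refine hom_ext_opens a b fun t => ⟨⟨{t' | idx a t' = idx a t}, isOpen_idx a _⟩, rfl, ?_⟩
  have h1 : ∀ x, idx (opnι (T := T) ⟨{t' | idx a t' = idx a t}, isOpen_idx a _⟩ ≫ a) x = idx a t := by
    intro x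
    rw [idx_comp]
    exact x.2
  have h2 : ∀ x, idx (opnι (T := T) ⟨{t' | idx a t' = idx a t}, isOpen_idx a _⟩ ≫ b) x = idx a t := by
    intro x
    rw [idx_comp, ← h, ← idx_comp]
    exact h1 x
  exact (eq_pt _ _ h1).trans (eq_pt _ _ h2).symm

theorem exists_pt {T : Over V} (l : T.left → I) (hl : ∀ i, IsOpen {t | l t = i}) :
    ∃ a : T ⟶ const V I, ∀ t, idx a t = l t := by
  obtain ⟨a, ha⟩ := exists_glue l hl (fun i => toUnit T ≫ pt V I i)
  refine ⟨a, fun t => ?_⟩
  let U : T.left.Opens := ⟨{t' | l t' = l t}, hl _⟩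
  have h1 := ha (opn U) (opnι U) (l t) fun x => x.2
  have h2 : idx (opnι U ≫ a) ⟨t, rfl⟩ = idx (opnι U ≫ toUnit T ≫ pt V I (l t)) ⟨t, rfl⟩ := by rw [h1]
  rw [idx_comp, idx_comp, idx_pt] at h2
  exact h2

/-- Quasi-compact opens of a constant scheme over an affine scheme are quasi-affine. -/
theorem isQuasiAffine_of_isCompact [IsAffine V] (U : (const V I).left.Opens)
    (hU : IsCompact (U : Set (const V I).left)) : (U : Scheme.{u}).IsQuasiAffine := by
  obtain ⟨J, hJ, hJ'⟩ := K6.ConstFin.exists_finite_of_isCompact (M := I) (S := V) _ hU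
  have : Finite J := hJ
  let j : (∐ fun _ : J => V : Scheme.{u}) ⟶ (∐ fun _ : I => V) := Sigma.desc fun i => Sigma.ι (fun _ : I => V) i.1
  have hj : IsOpenImmersion j := by
    refine isOpenImmersion_sigmaDesc _ _ ?_
    intro a b hab
    rw [Function.onFun, Set.disjoint_left]
    rintro _ ⟨x, rfl⟩ ⟨y, hy⟩
    have h1 := (sigmaι_eq_iff _ _ _ _ _).1 hy
    exact hab (Subtype.ext (congrArg Sigma.fst h1).symm)
  have h1 : Set.range U.ι ⊆ Set.range j := by
    rw [Scheme.Opens.range_ι]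
    refine hJ'.trans ?_
    intro p hp
    obtain ⟨i, hi, x, rfl⟩ := Set.mem_iUnion₂.mp hp
    refine ⟨Sigma.ι (fun _ : J => V) ⟨i, hi⟩ x, ?_⟩
    rw [← Scheme.Hom.comp_apply, Sigma.ι_desc]
  have h2 : IsOpenImmersion (IsOpenImmersion.lift j U.ι h1) := by
    have h3 : IsOpenImmersion (IsOpenImmersion.lift j U.ι h1 ≫ j) := by
      rw [IsOpenImmersion.lift_fac]
      infer_instance
    exact IsOpenImmersion.of_comp _ j
  have h3 : CompactSpace (U : Scheme.{u}) := isCompact_iff_compactSpace.mp hU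
  exact Scheme.IsQuasiAffine.of_isImmersion (IsOpenImmersion.lift j U.ι h1)

end K12.ConstPts
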