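import Groth.Agent.SGA3x.K12.Central

/-!
# Agreement and centrality for families of homomorphisms

`χ : H ⊗ X ⟶ G` a family of morphisms parametrised by `X`, `t : T ⟶ X` a point of the parameter space.

* `AgrAt χ χ' t`, `CenAt χ t`: the families agree, respectively the family is central, over `t`;
* `eqz_unfam_iff`, `cen_unfam_iff`: in terms of the morphisms over `X` attached to the families;
* `unfam_fam`.
-/

set_option autoImplicit false
universe u
open CategoryTheory MonoidalCategory CartesianMonoidalCategory MonObj GrpObj AlgebraicGeometry Limits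

namespace K12.CentFam

open Groth.Agent.Sga3B Groth.Agent.SGA3x.K5.Clopen Central Groth.Agent.Sga3B.BcPts
open Groth.Agent.Sga3B.IsoFam (unfam comp_unfam)

variable {S S' : Scheme.{u}} {H G X : Over S}

/-- The families agree over `t`. -/
def AgrAt (χ χ' : H ⊗ X ⟶ G) {T : Over S} (t : T ⟶ X) : Prop :=
  ∀ (T' : Over S) (b : T' ⟶ T) (x : T' ⟶ H), lift x (b ≫ t) ≫ χ = lift x (b ≫ t) ≫ χ'

/-- The family is central over `t`. -/
def CenAt [GrpObj G] (χ : H ⊗ X ⟶ G) {T : Over S} (t : T ⟶ X) : Prop :=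
  ∀ (T' : Over S) (b : T' ⟶ T) (g : T' ⟶ G) (x : T' ⟶ H),
    g * (lift x (b ≫ t) ≫ χ) = (lift x (b ≫ t) ≫ χ) * g

theorem AgrAt.comp {χ χ' : H ⊗ X ⟶ G} {T T' : Over S} {t : T ⟶ X} (h : AgrAt χ χ' t) (s : T' ⟶ T) :
    AgrAt χ χ' (s ≫ t) := by
  intro T'' b x
  rw [← Category.assoc]
  exact h T'' (b ≫ s) x

theorem CenAt.comp [GrpObj G] {χ : H ⊗ X ⟶ G} {T T' : Over S} {t : T ⟶ X} (h : CenAt χ t) (s : T' ⟶ T) :
    CenAt χ (s ≫ t) := by
  intro T'' b g x
  rw [← Category.assoc]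
  exact h T'' (b ≫ s) g x

/-- pullback of the family -/
theorem agrAt_whisker {X' : Over S} (p : X' ⟶ X) (χ χ' : H ⊗ X ⟶ G) {T : Over S} (t : T ⟶ X') :
    AgrAt (H ◁ p ≫ χ) (H ◁ p ≫ χ') t ↔ AgrAt χ χ' (t ≫ p) := by
  unfold AgrAt
  simp only [lift_whiskerLeft_assoc, Category.assoc]

theorem cenAt_whisker [GrpObj G] {X' : Over S} (p : X' ⟶ X) (χ : H ⊗ X ⟶ G) {T : Over S} (t : T ⟶ X') :
    CenAt (H ◁ p ≫ χ) t ↔ CenAt χ (t ≫ p) := by
  unfold CenAt
  simp only [lift_whiskerLeft_assoc, Category.assoc]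

/-- Flat descent. -/
theorem AgrAt.of_surjective {χ χ' : H ⊗ X ⟶ G} {T V : Over S} {t : T ⟶ X} (v : V ⟶ T) [Flat v.left]
    [Surjective v.left] (h : AgrAt χ χ' (v ≫ t)) : AgrAt χ χ' t := by
  intro Y b x
  obtain ⟨Z, p, q, hp, hpq⟩ : ∃ (Z : Over S) (p : Z ⟶ Y) (q : Z ⟶ V), Epi p ∧ p ≫ b = q ≫ v := by
    have h3 : Epi (pullback.fst b.left v.left) := Flat.epi_of_flat_of_surjective _
    let π : Over.mk (pullback.fst b.left v.left ≫ Y.hom) ⟶ Y := Over.homMk (pullback.fst b.left v.left) rfl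
    refine ⟨_, π, Over.homMk (pullback.snd b.left v.left) ?_, ?_, ?_⟩
    · change pullback.snd b.left v.left ≫ V.hom = pullback.fst b.left v.left ≫ Y.hom
      rw [← Over.w v, ← Over.w b, ← Category.assoc, ← Category.assoc, pullback.condition]
    · have : Epi π.left := h3
      exact Over.epi_of_epi_left _
    · ext1
      exact pullback.condition
  rw [← cancel_epi p, ← Category.assoc, ← Category.assoc, comp_lift, ← Category.assoc, hpq, Category.assoc]
  exact h Z q _

theorem CenAt.of_surjective [GrpObj G] {χ : H ⊗ X ⟶ G} {T V : Over S} {t : T ⟶ X} (v : V ⟶ T) [Flat v.left]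
    [Surjective v.left] (h : CenAt χ (v ≫ t)) : CenAt χ t := by
  intro Y b g x
  obtain ⟨Z, p, q, hp, hpq⟩ : ∃ (Z : Over S) (p : Z ⟶ Y) (q : Z ⟶ V), Epi p ∧ p ≫ b = q ≫ v := by
    have h3 : Epi (pullback.fst b.left v.left) := Flat.epi_of_flat_of_surjective _
    let π : Over.mk (pullback.fst b.left v.left ≫ Y.hom) ⟶ Y := Over.homMk (pullback.fst b.left v.left) rfl
    refine ⟨_, π, Over.homMk (pullback.snd b.left v.left) ?_, ?_, ?_⟩
    · change pullback.snd b.left v.left ≫ V.hom = pullback.fst b.left v.left ≫ Y.hom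
      rw [← Over.w v, ← Over.w b, ← Category.assoc, ← Category.assoc, pullback.condition]
    · have : Epi π.left := h3
      exact Over.epi_of_epi_left _
    · ext1
      exact pullback.condition
  rw [← cancel_epi p, MonObj.comp_mul, MonObj.comp_mul, ← Category.assoc, comp_lift, ← Category.assoc, hpq,
    Category.assoc]
  exact h Z q _ _

theorem eqz_unfam_iff {χ χ' : H ⊗ X ⟶ G} {T : Over S} (t : T ⟶ X) :
    Eqz (unfam χ) (unfam χ') (Over.mk t.left) ↔ AgrAt χ χ' t := by
  constructor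
  · intro hT T' b q
    let T₁ : Over X.left := Over.mk (b ≫ t).left
    let b₁ : T₁ ⟶ Over.mk t.left := Over.homMk b.left rfl
    let e : (Over.map X.hom).obj T₁ ≅ T' := Over.isoMk (Iso.refl _) (by
      change 𝟙 _ ≫ T'.hom = (b ≫ t).left ≫ X.hom
      rw [Over.w, Category.id_comp])
    have he : e.hom ≫ b ≫ t = IsoFam.st T₁ := by
      ext1
      exact Category.id_comp _
    have h3 := hT T₁ b₁ (BcPts.bcEquiv X.hom T₁ H (e.hom ≫ q))
    rw [comp_unfam, comp_unfam] at h3
    have h4 := (BcPts.bcEquiv X.hom _ _).injective h3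
    rw [Equiv.symm_apply_apply, ← he, ← comp_lift, Category.assoc, Category.assoc] at h4
    exact (cancel_epi _).mp h4
  · intro hT T₁ b q
    rw [comp_unfam, comp_unfam]
    congr 1
    let c : (Over.map X.hom).obj T₁ ⟶ T := Over.homMk b.left (by
      have h3 : b.left ≫ t.left = T₁.hom := Over.w b
      rw [← Over.w t, ← Category.assoc, h3, Over.map_obj_hom])
    have h4 : c ≫ t = IsoFam.st T₁ := by
      ext1
      exact Over.w b
    rw [← h4]
    exact hT _ c _

theorem cen_unfam_iff [GrpObj G] {χ : H ⊗ X ⟶ G} {T : Over S} (t : T ⟶ X) :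
    Cen (G := Red.bc X.hom G) (unfam χ : Red.bc X.hom H ⟶ Red.bc X.hom G) (Over.mk t.left) ↔ CenAt χ t := by
  constructor
  · intro hT T' b g q
    let T₁ : Over X.left := Over.mk (b ≫ t).left
    let b₁ : T₁ ⟶ Over.mk t.left := Over.homMk b.left rfl
    let e : (Over.map X.hom).obj T₁ ≅ T' := Over.isoMk (Iso.refl _) (by
      change 𝟙 _ ≫ T'.hom = (b ≫ t).left ≫ X.hom
      rw [Over.w, Category.id_comp])
    have he : e.hom ≫ b ≫ t = IsoFam.st T₁ := by
      ext1
      exact Category.id_comp _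
    have h3 := hT T₁ b₁ (BcPts.bcEquiv X.hom T₁ G (e.hom ≫ g)) (BcPts.bcEquiv X.hom T₁ H (e.hom ≫ q))
    rw [comp_unfam, ← BcPts.bcEquiv_mul, ← BcPts.bcEquiv_mul] at h3
    have h4 := (BcPts.bcEquiv X.hom _ _).injective h3
    rw [Equiv.symm_apply_apply, ← he, ← comp_lift, Category.assoc, ← MonObj.comp_mul, ← MonObj.comp_mul] at h4
    exact (cancel_epi _).mp h4
  · intro hT T₁ b g q
    obtain ⟨g, rfl⟩ := (BcPts.bcEquiv X.hom T₁ G).surjective g
    rw [comp_unfam, ← BcPts.bcEquiv_mul, ← BcPts.bcEquiv_mul]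
    congr 1
    let c : (Over.map X.hom).obj T₁ ⟶ T := Over.homMk b.left (by
      have h3 : b.left ≫ t.left = T₁.hom := Over.w b
      rw [← Over.w t, ← Category.assoc, h3, Over.map_obj_hom])
    have h4 : c ≫ t = IsoFam.st T₁ := by
      ext1
      exact Over.w b
    rw [← h4]
    exact hT _ c _ _

/-- `fam` and `unfam` are inverse to each other. -/
theorem unfam_fam {f : S' ⟶ S} (φ : Red.bc f H ⟶ Red.bc f G) : unfam (T := Over.mk f) (fam φ) = φ := by
  let Y : Over S' := Red.bc f H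
  let t : (Over.map f).obj Y ⟶ Over.mk f := IsoFam.st (T := Over.mk f) Y
  change bcEquiv f Y G (lift ((bcEquiv f Y H).symm (𝟙 _)) t ≫ fam φ) = φ
  rw [lift_fam]
  have h1 : ev φ ((bcEquiv f Y H).symm (𝟙 Y)) t = (bcEquiv f Y G).symm φ := by
    unfold ev
    have h2 : (overIso t).hom = 𝟙 _ := by
      ext1
      rfl
    have h3 : (overIso t).inv = 𝟙 _ := by
      ext1
      rfl
    have h4 : (overIso t).inv ≫ (bcEquiv f Y G).symm (bcEquiv f Y H ((overIso t).hom ≫ (bcEquiv f Y H).symm (𝟙 Y)) ≫ φ) =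
        (bcEquiv f Y G).symm φ := by
      rw [h3, h2]
      erw [Category.id_comp, Category.id_comp, Equiv.apply_symm_apply, Category.id_comp]
    exact h4
  rw [h1, Equiv.apply_symm_apply]

end K12.CentFam
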