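import Mathlib.RingTheory.Flat.Basic
import Mathlib.LinearAlgebra.FreeModule.Basic
import Mathlib.LinearAlgebra.Basis.VectorSpace
import Mathlib.LinearAlgebra.TensorProduct.Quotient
import Mathlib.LinearAlgebra.DirectSum.Finsupp
import Mathlib.LinearAlgebra.TensorProduct.RightExactness

/-!
# Families of maps to flat modules which are injective modulo an ideal

`step`: let `J` be an ideal of `A` with `(A ⧸ J) ⊗ J ^ k` free over `A ⧸ J`, `φ i : M → N i` a family of
`A`-linear maps with `N i` flat such that `M / J M → ∏ N i / J N i` is injective. If `b ∈ J ^ k M` is killed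
by all `φ i` then `b ∈ J ^ (k + 1) M`.
-/

open TensorProduct

namespace K12.DenseAlg

variable {A : Type*} [CommRing A] (J : Ideal A)

theorem one_tmul_eq_zero_iff {P : Type*} [AddCommGroup P] [Module A P] (x : P) :
    ((1 : A ⧸ J) ⊗ₜ[A] x : (A ⧸ J) ⊗[A] P) = 0 ↔ x ∈ J • (⊤ : Submodule A P) := by
  rw [← (quotTensorEquivQuotSMul P J).map_eq_zero_iff]
  have : (quotTensorEquivQuotSMul P J) ((1 : A ⧸ J) ⊗ₜ[A] x) = Submodule.Quotient.mk x := by
    have := quotTensorEquivQuotSMul_mk_tmul (M := P) J 1 x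
    simp
  rw [this, Submodule.Quotient.mk_eq_zero]

theorem exists_tmul_one {M : Type*} [AddCommGroup M] [Module A M] (w : M ⊗[A] (A ⧸ J)) :
    ∃ m : M, w = m ⊗ₜ[A] (1 : A ⧸ J) := by
  induction w using TensorProduct.induction_on with
  | zero => exact ⟨0, by simp⟩
  | tmul m a =>
    obtain ⟨a, rfl⟩ := Ideal.Quotient.mk_surjective a
    refine ⟨a • m, ?_⟩
    rw [TensorProduct.smul_tmul, ← Algebra.algebraMap_eq_smul_one]; rfl
  | add x y hx hy =>
    obtain ⟨m, rfl⟩ := hx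
    obtain ⟨n, rfl⟩ := hy
    exact ⟨m + n, by rw [TensorProduct.add_tmul]⟩

theorem tmul_one_eq_zero_iff {P : Type*} [AddCommGroup P] [Module A P] (x : P) :
    (x ⊗ₜ[A] (1 : A ⧸ J) : P ⊗[A] (A ⧸ J)) = 0 ↔ x ∈ J • (⊤ : Submodule A P) := by
  rw [← one_tmul_eq_zero_iff, ← (TensorProduct.comm A P (A ⧸ J)).map_eq_zero_iff, TensorProduct.comm_tmul]

/-- Elements of `M ⊗ F`, `F` free over `A ⧸ J`, are detected by families of maps which are jointly injective
modulo `J`. -/
theorem eq_zero_of_free {F : Type*} [AddCommGroup F] [Module A F] [Module (A ⧸ J) F]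
    [IsScalarTower A (A ⧸ J) F] [Module.Free (A ⧸ J) F]
    {M : Type*} [AddCommGroup M] [Module A M] {ι : Type*} (N : ι → Type*) [∀ i, AddCommGroup (N i)]
    [∀ i, Module A (N i)] (φ : ∀ i, M →ₗ[A] N i)
    (h0 : ∀ b : M, (∀ i, φ i b ∈ J • (⊤ : Submodule A (N i))) → b ∈ J • (⊤ : Submodule A M))
    (z : M ⊗[A] F) (hz : ∀ i, (φ i).rTensor F z = 0) : z = 0 := by
  classical
  let bs := Module.Free.chooseBasis (A ⧸ J) F
  set Λ := Module.Free.ChooseBasisIndex (A ⧸ J) F
  let e : F ≃ₗ[A] (Λ →₀ (A ⧸ J)) := bs.repr.restrictScalars A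
  -- `M ⊗ (A ⧸ J)` case
  have h1 : ∀ w : M ⊗[A] (A ⧸ J), (∀ i, (φ i).rTensor (A ⧸ J) w = 0) → w = 0 := by
    intro w hw
    obtain ⟨m, rfl⟩ := exists_tmul_one J w
    rw [tmul_one_eq_zero_iff]
    refine h0 m fun i => ?_
    have := hw i
    rwa [LinearMap.rTensor_tmul, tmul_one_eq_zero_iff] at this
  -- coordinates
  let c : Λ → (F →ₗ[A] (A ⧸ J)) := fun l => Finsupp.lapply l ∘ₗ e.toLinearMap
  have h2 : ∀ l, (c l).lTensor M z = 0 := fun l => h1 _ fun i => by
    have : (φ i).rTensor (A ⧸ J) ((c l).lTensor M z) = (c l).lTensor (N i) ((φ i).rTensor F z) := by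
      rw [← LinearMap.comp_apply, ← LinearMap.comp_apply, LinearMap.rTensor_comp_lTensor,
        LinearMap.lTensor_comp_rTensor]
    rw [this, hz i, map_zero]
  -- `M ⊗ (Λ →₀ A ⧸ J) = Λ →₀ M ⊗ (A ⧸ J)`
  have h3 : TensorProduct.finsuppRight A A M (A ⧸ J) Λ (e.toLinearMap.lTensor M z) = 0 := by
    ext l
    have h4 : ∀ y : M ⊗[A] (Λ →₀ (A ⧸ J)),
        TensorProduct.finsuppRight A A M (A ⧸ J) Λ y l = (Finsupp.lapply l).lTensor M y := by
      intro y
      induction y using TensorProduct.induction_on with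
      | zero => simp
      | tmul m f => simp [TensorProduct.finsuppRight_apply_tmul_apply]
      | add x y hx hy => simp only [map_add, Finsupp.add_apply, hx, hy]
    rw [h4, Finsupp.zero_apply, ← LinearMap.comp_apply, ← LinearMap.lTensor_comp]
    exact h2 l
  have h5 := (LinearEquiv.map_eq_zero_iff _).mp h3
  have h6 : e.symm.toLinearMap.lTensor M (e.toLinearMap.lTensor M z) = z := by
    rw [← LinearMap.comp_apply, ← LinearMap.lTensor_comp]
    simp
  rw [← h6, h5, map_zero]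

/-- The multiplication map `P ⊗ I → P`. -/
noncomputable def mu (I : Ideal A) (P : Type*) [AddCommGroup P] [Module A P] : P ⊗[A] ↥I →ₗ[A] P :=
  (TensorProduct.rid A P).toLinearMap ∘ₗ I.subtype.lTensor P

@[local simp] theorem mu_tmul (I : Ideal A) {P : Type*} [AddCommGroup P] [Module A P] (p : P) (r : I) :
    mu I P (p ⊗ₜ r) = (r : A) • p := by
  simp [mu]

theorem mu_injective (I : Ideal A) (P : Type*) [AddCommGroup P] [Module A P] [Module.Flat A P] :
    Function.Injective (mu I P) :=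
  (TensorProduct.rid A P).injective.comp
    (Module.Flat.lTensor_preserves_injective_linearMap _ I.injective_subtype)

theorem mu_natural (I : Ideal A) {P Q : Type*} [AddCommGroup P] [Module A P] [AddCommGroup Q] [Module A Q]
    (f : P →ₗ[A] Q) (z : P ⊗[A] ↥I) : mu I Q (f.rTensor I z) = f (mu I P z) := by
  induction z using TensorProduct.induction_on with
  | zero => simp
  | tmul m f => simp
  | add x y hx hy => simp only [map_add, hx, hy]

theorem exists_mu (I : Ideal A) {P : Type*} [AddCommGroup P] [Module A P] {b : P}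
    (hb : b ∈ I • (⊤ : Submodule A P)) : ∃ β, mu I P β = b := by
  induction hb using Submodule.smul_induction_on' with
  | smul r hr n hn => exact ⟨n ⊗ₜ ⟨r, hr⟩, by simp⟩
  | add x _ y _ hx hy =>
    obtain ⟨p, rfl⟩ := hx
    obtain ⟨q, rfl⟩ := hy
    exact ⟨p + q, by rw [map_add]⟩

theorem mu_mem (I : Ideal A) {P : Type*} [AddCommGroup P] [Module A P] (z : P ⊗[A] ↥I) :
    mu I P z ∈ I • (⊤ : Submodule A P) := by
  induction z using TensorProduct.induction_on with
  | zero => simp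
  | tmul m f => rw [mu_tmul]; exact Submodule.smul_mem_smul f.2 trivial
  | add x y hx hy => rw [map_add]; exact add_mem hx hy

/-- The successive step. -/
theorem step (k : ℕ) [Module.Free (A ⧸ J) ((A ⧸ J) ⊗[A] ↥(J ^ k))]
    {M : Type*} [AddCommGroup M] [Module A M] {ι : Type*} (N : ι → Type*) [∀ i, AddCommGroup (N i)]
    [∀ i, Module A (N i)] [∀ i, Module.Flat A (N i)] (φ : ∀ i, M →ₗ[A] N i)
    (h0 : ∀ b : M, (∀ i, φ i b ∈ J • (⊤ : Submodule A (N i))) → b ∈ J • (⊤ : Submodule A M))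
    (b : M) (hb : b ∈ J ^ k • (⊤ : Submodule A M)) (h : ∀ i, φ i b = 0) :
    b ∈ J ^ (k + 1) • (⊤ : Submodule A M) := by
  obtain ⟨β, rfl⟩ := exists_mu (J ^ k) hb
  have h1 : ∀ i, (φ i).rTensor (↥(J ^ k)) β = 0 := fun i =>
    mu_injective (J ^ k) (N i) (by rw [mu_natural, h i, map_zero])
  -- the image of `β` in `M ⊗ ((A ⧸ J) ⊗ J ^ k)`
  have h2 : (TensorProduct.mk A (A ⧸ J) (↥(J ^ k)) 1).lTensor M β = 0 :=
    eq_zero_of_free J N φ h0 _ fun i => by
      rw [← LinearMap.comp_apply, LinearMap.rTensor_comp_lTensor, ← LinearMap.lTensor_comp_rTensor,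
        LinearMap.comp_apply, h1 i, map_zero]
  have h3 : ∀ γ : M ⊗[A] ↥(J ^ k),
      TensorProduct.leftComm A M (A ⧸ J) (↥(J ^ k)) ((TensorProduct.mk A (A ⧸ J) (↥(J ^ k)) 1).lTensor M γ) =
        (1 : A ⧸ J) ⊗ₜ γ := by
    intro γ
    induction γ using TensorProduct.induction_on with
    | zero => simp
    | tmul m f => simp
    | add x y hx hy => simp only [map_add, hx, hy, TensorProduct.tmul_add]
  have h4 : ((1 : A ⧸ J) ⊗ₜ[A] β : (A ⧸ J) ⊗[A] (M ⊗[A] ↥(J ^ k))) = 0 := by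
    rw [← h3, h2, map_zero]
  rw [one_tmul_eq_zero_iff] at h4
  have h5 : ∀ γ ∈ J • (⊤ : Submodule A (M ⊗[A] ↥(J ^ k))), mu (J ^ k) M γ ∈ J ^ (k + 1) • (⊤ : Submodule A M) := by
    intro γ hγ
    induction hγ using Submodule.smul_induction_on' with
    | smul r hr n hn =>
      rw [map_smul, pow_succ', Submodule.mul_smul]
      exact Submodule.smul_mem_smul hr (mu_mem _ _)
    | add x _ y _ hx hy => rw [map_add]; exact add_mem hx hy
  exact h5 β h4

/-- All powers. -/
theorem mem_pow (hfree : ∀ k : ℕ, Module.Free (A ⧸ J) ((A ⧸ J) ⊗[A] ↥(J ^ k)))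
    {M : Type*} [AddCommGroup M] [Module A M] {ι : Type*} (N : ι → Type*) [∀ i, AddCommGroup (N i)]
    [∀ i, Module A (N i)] [∀ i, Module.Flat A (N i)] (φ : ∀ i, M →ₗ[A] N i)
    (h0 : ∀ b : M, (∀ i, φ i b ∈ J • (⊤ : Submodule A (N i))) → b ∈ J • (⊤ : Submodule A M))
    (b : M) (h : ∀ i, φ i b = 0) (k : ℕ) : b ∈ J ^ k • (⊤ : Submodule A M) := by
  induction k with
  | zero => simp
  | succ k ih =>
    have := hfree k
    exact step J k N φ h0 b ih h

/-- The case of a nilpotent ideal. -/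
theorem eq_zero_of_isNilpotent (hJ : IsNilpotent J)
    (hfree : ∀ k : ℕ, Module.Free (A ⧸ J) ((A ⧸ J) ⊗[A] ↥(J ^ k)))
    {M : Type*} [AddCommGroup M] [Module A M] {ι : Type*} (N : ι → Type*) [∀ i, AddCommGroup (N i)]
    [∀ i, Module A (N i)] [∀ i, Module.Flat A (N i)] (φ : ∀ i, M →ₗ[A] N i)
    (h0 : ∀ b : M, (∀ i, φ i b ∈ J • (⊤ : Submodule A (N i))) → b ∈ J • (⊤ : Submodule A M))
    (b : M) (h : ∀ i, φ i b = 0) : b = 0 := by
  obtain ⟨n, hn⟩ := hJ
  have := mem_pow J hfree N φ h0 b h n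
  rw [hn] at this
  simpa using this

/-- The case of a maximal ideal. -/
theorem mem_pow_of_isMaximal [J.IsMaximal]
    {M : Type*} [AddCommGroup M] [Module A M] {ι : Type*} (N : ι → Type*) [∀ i, AddCommGroup (N i)]
    [∀ i, Module A (N i)] [∀ i, Module.Flat A (N i)] (φ : ∀ i, M →ₗ[A] N i)
    (h0 : ∀ b : M, (∀ i, φ i b ∈ J • (⊤ : Submodule A (N i))) → b ∈ J • (⊤ : Submodule A M))
    (b : M) (h : ∀ i, φ i b = 0) (k : ℕ) : b ∈ J ^ k • (⊤ : Submodule A M) := by
  let _ := Ideal.Quotient.field J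
  exact mem_pow J (fun k => Module.Free.of_divisionRing _ _) N φ h0 b h k

end K12.DenseAlg
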