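import Groth.Agent.Sga3B.DSPts
import Mathlib.AlgebraicGeometry.Morphisms.Etale

/-!
# Kernels of homomorphisms over a base change

`TrivOver ρ u`: the homomorphism `u : H ⟶ G` of group schemes over `S` has trivial kernel on the `S`-schemes whose
structure morphism factors through `ρ : S' ⟶ S`.  This is the same as `u` being a monomorphism after base change
along `ρ` (`trivOver_iff_mono`) and descends along flat morphisms (`TrivOver.of_range`).
-/

set_option autoImplicit false
universe u
open CategoryTheory MonoidalCategory CartesianMonoidalCategory MonObj GrpObj AlgebraicGeometry Limits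

namespace K12.TrivKer

open Groth.Agent.Sga3B.DSPts

variable {S S' S'' : Scheme.{u}} {H G : Over S} [GrpObj H] [GrpObj G]

/-- `u` has trivial kernel on the schemes over `ρ`. -/
def TrivOver (ρ : S' ⟶ S) (u : H ⟶ G) : Prop :=
  ∀ (T : Over S) (t : T.left ⟶ S'), t ≫ ρ = T.hom → ∀ x : T ⟶ H, x ≫ u = 1 → x = 1

/-- A homomorphism of group objects with trivial kernel is a monomorphism. -/
theorem mono_of_ker {C : Type*} [Category C] [CartesianMonoidalCategory C] {A B : C} [GrpObj A] [GrpObj B]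
    (u : A ⟶ B) [IsMonHom u] (h : ∀ (T : C) (x : T ⟶ A), x ≫ u = 1 → x = 1) : Mono u where
  right_cancellation {T} a b hab := by
    have h1 : (a * b⁻¹) ≫ u = 1 := by
      rw [MonObj.mul_comp, GrpObj.inv_comp, hab, mul_inv_cancel]
    have h2 := h T _ h1
    rwa [mul_inv_eq_one] at h2

theorem mono_iff_ker {C : Type*} [Category C] [CartesianMonoidalCategory C] {A B : C} [GrpObj A] [GrpObj B]
    (u : A ⟶ B) [IsMonHom u] : Mono u ↔ ∀ (T : C) (x : T ⟶ A), x ≫ u = 1 → x = 1 := by
  refine ⟨fun _ T x hx => ?_, mono_of_ker u⟩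
  rw [← cancel_mono u, hx, MonObj.one_comp]

theorem TrivOver.comp {ρ : S' ⟶ S} {u : H ⟶ G} (h : TrivOver ρ u) (g : S'' ⟶ S') : TrivOver (g ≫ ρ) u :=
  fun T t ht x hx => h T (t ≫ g) (by rw [Category.assoc, ht]) x hx

theorem trivOver_iff_bc (ρ : S' ⟶ S) (u : H ⟶ G) :
    TrivOver ρ u ↔ ∀ (T : Over S') (x : T ⟶ Red.bc ρ H), x ≫ (Over.pullback ρ).map u = 1 → x = 1 := by
  constructor
  · intro h T x hx
    apply (bcEquiv ρ T H).symm.injective
    rw [map_one]
    refine h ((Over.map ρ).obj T) T.hom rfl _ ?_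
    apply (bcEquiv ρ T G).injective
    rw [← bcEquiv_comp, MulEquiv.apply_symm_apply, hx, map_one]
  · intro h T t ht x hx
    let T' : Over S' := Over.mk t
    let i : (Over.map ρ).obj T' ≅ T := Over.isoMk (Iso.refl _) (by
      change 𝟙 _ ≫ T.hom = t ≫ ρ
      rw [Category.id_comp, ht])
    have h1 : bcEquiv ρ T' H (i.hom ≫ x) = 1 := by
      apply h
      rw [bcEquiv_comp, Category.assoc, hx, comp_one, map_one]
    rw [← cancel_epi i.hom, comp_one]
    exact (MulEquiv.map_eq_one_iff _).mp h1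

instance isMonHom_bc (ρ : S' ⟶ S) (u : H ⟶ G) [IsMonHom u] :
    IsMonHom (M := Red.bc ρ H) (N := Red.bc ρ G) ((Over.pullback ρ).map u) :=
  inferInstanceAs (IsMonHom ((Over.pullback ρ).map u))

theorem trivOver_iff_mono (ρ : S' ⟶ S) (u : H ⟶ G) [IsMonHom u] :
    TrivOver ρ u ↔ Mono ((Over.pullback ρ).map u) := by
  rw [trivOver_iff_bc]
  exact (mono_iff_ker (A := Red.bc ρ H) (B := Red.bc ρ G) ((Over.pullback ρ).map u)).symm

theorem trivOver_iff_mono_left (ρ : S' ⟶ S) (u : H ⟶ G) [IsMonHom u] :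
    TrivOver ρ u ↔ Mono ((Over.pullback ρ).map u).left := by
  rw [trivOver_iff_mono]
  constructor
  · intro h
    exact Over.mono_left_of_mono _
  · intro h
    exact Over.mono_of_mono_left _

/-- Triviality of the kernel of a base change. -/
theorem trivOver_bc_iff (v : S' ⟶ S) (ρ : S'' ⟶ S') (u : H ⟶ G) :
    TrivOver (H := Red.bc v H) (G := Red.bc v G) ρ ((Over.pullback v).map u) ↔ TrivOver (ρ ≫ v) u := by
  constructor
  · intro h T t ht x hx
    let T' : Over S' := Over.mk (t ≫ ρ)
    let i : (Over.map v).obj T' ≅ T := Over.isoMk (Iso.refl _) (by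
      change 𝟙 _ ≫ T.hom = (t ≫ ρ) ≫ v
      rw [Category.id_comp, Category.assoc, ht])
    have h1 : bcEquiv v T' H (i.hom ≫ x) = 1 := by
      refine h T' t rfl _ ?_
      rw [bcEquiv_comp, Category.assoc, hx, comp_one, map_one]
    rw [← cancel_epi i.hom, comp_one]
    exact (MulEquiv.map_eq_one_iff _).mp h1
  · intro h T t ht x hx
    apply (bcEquiv v T H).symm.injective
    rw [map_one]
    refine h ((Over.map v).obj T) t (by rw [← Category.assoc, ht]; rfl) _ ?_
    apply (bcEquiv v T G).injective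
    rw [← bcEquiv_comp, MulEquiv.apply_symm_apply, hx, map_one]

/-- Composition with an isomorphism of groups. -/
theorem TrivOver.iso_comp {H' : Over S} [GrpObj H'] {ρ : S' ⟶ S} {u : H ⟶ G} (e : H' ⟶ H) [IsMonHom e] [IsIso e]
    (h : TrivOver ρ u) : TrivOver ρ (e ≫ u) := by
  intro T t ht x hx
  rw [← cancel_mono e, MonObj.one_comp]
  exact h T t ht _ (by rw [Category.assoc, hx])

theorem TrivOver.of_iso_comp {H' : Over S} [GrpObj H'] {ρ : S' ⟶ S} {u : H ⟶ G} (e : H' ⟶ H) [IsMonHom e] [IsIso e]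
    (h : TrivOver ρ (e ≫ u)) : TrivOver ρ u := by
  intro T t ht x hx
  have h1 := h T t ht (x ≫ inv e) (by rw [Category.assoc, IsIso.inv_hom_id_assoc, hx])
  have h2 : x = (x ≫ inv e) ≫ e := by rw [Category.assoc, IsIso.inv_hom_id, Category.comp_id]
  rw [h2, h1, MonObj.one_comp]

/-- Descent along a morphism whose range contains the range of `ρ`. -/
theorem TrivOver.of_range {ρ : S' ⟶ S} {u : H ⟶ G} {V : Scheme.{u}} (v : V ⟶ S) [Flat v]
    (hv : Set.range ρ ⊆ Set.range v) (h : TrivOver v u) : TrivOver ρ u := by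
  intro T t ht x hx
  have h1 : Surjective (pullback.fst T.hom v) := by
    refine ⟨fun y => ?_⟩
    have h2 : T.hom y ∈ Set.range v := hv ⟨t y, by rw [← ht]; rfl⟩
    obtain ⟨z, hz⟩ := h2
    obtain ⟨w, hw, -⟩ := Scheme.Pullback.exists_preimage_pullback y z hz.symm
    exact ⟨w, hw⟩
  have h3 : Epi (pullback.fst T.hom v) := Flat.epi_of_flat_of_surjective _
  let π : Over.mk (pullback.fst T.hom v ≫ T.hom) ⟶ T := Over.homMk (pullback.fst T.hom v) rfl
  have h4 : π ≫ x = 1 := by
    refine h _ (pullback.snd T.hom v) pullback.condition.symm _ ?_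
    rw [Category.assoc, hx, comp_one]
  have h5 : Epi π := by
    have : Epi π.left := h3
    exact Over.epi_of_epi_left _
  rw [← cancel_epi π, h4, comp_one]

end K12.TrivKer
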