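import Groth.Agent.SGA3x.K12.DenseGeo
import Groth.Agent.Sga3.H817.WeilProj
import Mathlib.AlgebraicGeometry.Morphisms.Finite
import Mathlib.RingTheory.Flat.EquationalCriterion

/-!
# Closed Weil restriction along a morphism with a dense family of finite flat subschemes

`exists_rep`, `exists_index`.
-/

set_option autoImplicit false
set_option maxHeartbeats 400000
universe u

open CategoryTheory AlgebraicGeometry Limits TopologicalSpace Opposite

namespace K12.DenseRep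

open DenseGeo Groth.Agent.Sga3.H817.WeilProj Groth.Agent.Sga3C.CWMain Groth.Agent.Sga3C.CWGlue

/-- Finite flat morphisms to a locally noetherian scheme have locally projective coordinate rings. -/
theorem locProj_of_finite_flat {X S : Scheme.{u}} (f : X ⟶ S) [IsFinite f] [Flat f] [IsLocallyNoetherian S] :
    LocProj f := by
  intro s
  obtain ⟨_, ⟨V, hV, rfl⟩, hsV, -⟩ :=
    S.isBasis_affineOpens.exists_subset_of_mem_open (a := s) (u := Set.univ) trivial isOpen_univ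
  refine ⟨V, hV, hsV, fun x hx => ⟨f ⁻¹ᵁ V, hV.preimage f, le_rfl, hx, ?_⟩⟩
  have hN : IsNoetherianRing Γ(S, V) := IsLocallyNoetherian.component_noetherian ⟨V, hV⟩
  let _ := (f.appLE V (f ⁻¹ᵁ V) le_rfl).hom.toAlgebra
  have h1 : (f.appLE V (f ⁻¹ᵁ V) le_rfl).hom.Finite := by
    rw [← Scheme.Hom.app_eq_appLE]
    exact IsFinite.finite_app f V hV
  have h2 : (f.appLE V (f ⁻¹ᵁ V) le_rfl).hom.Flat :=
    HasRingHomProperty.appLE (P := @Flat) f inferInstance ⟨V, hV⟩ ⟨_, hV.preimage f⟩ le_rfl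
  have h3 : Module.Finite Γ(S, V) Γ(X, f ⁻¹ᵁ V) := h1
  have h4 : Module.Flat Γ(S, V) Γ(X, f ⁻¹ᵁ V) := h2
  have h5 : Module.FinitePresentation Γ(S, V) Γ(X, f ⁻¹ᵁ V) := Module.finitePresentation_of_finite _ _
  exact Module.Flat.projective_of_finitePresentation

variable {S X P W Y : Scheme.{u}} (f : X ⟶ S) (b : P ⟶ S) (c : pullback f b ⟶ W) (j : Y ⟶ W)

/-- The condition `X ×_S P' ⟶ W` factors through `Y`, on points. -/
def Fac {P' : Scheme.{u}} (p : P' ⟶ P) : Prop :=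
  ∀ (Q : Scheme.{u}) (q1 : Q ⟶ X) (q2 : Q ⟶ P') (h : q1 ≫ f = (q2 ≫ p) ≫ b),
    ∃ l : Q ⟶ Y, l ≫ j = pullback.lift q1 (q2 ≫ p) h ≫ c

/-- The condition `Z ×_S P' ⟶ W` factors through `Y`, on points. -/
def FacN {Z : Scheme.{u}} (z : Z ⟶ X) {P' : Scheme.{u}} (p : P' ⟶ P) : Prop :=
  ∀ (Q : Scheme.{u}) (q1 : Q ⟶ Z) (q2 : Q ⟶ P') (h : (q1 ≫ z) ≫ f = (q2 ≫ p) ≫ b),
    ∃ l : Q ⟶ Y, l ≫ j = pullback.lift (q1 ≫ z) (q2 ≫ p) h ≫ c

variable {f b c j}

theorem Fac.facN {P' : Scheme.{u}} {p : P' ⟶ P} (h : Fac f b c j p) {Z : Scheme.{u}} (z : Z ⟶ X) :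
    FacN f b c j z p := fun Q q1 q2 hq => h Q (q1 ≫ z) q2 hq

theorem Fac.comp {P' P'' : Scheme.{u}} {p : P' ⟶ P} (h : Fac f b c j p) (p' : P'' ⟶ P') :
    Fac f b c j (p' ≫ p) := by
  intro Q q1 q2 hq
  obtain ⟨l, hl⟩ := h Q q1 (q2 ≫ p') (by simpa using hq)
  exact ⟨l, by rw [hl]; congr 2⟩

theorem FacN.comp {Z : Scheme.{u}} {z : Z ⟶ X} {P' P'' : Scheme.{u}} {p : P' ⟶ P} (h : FacN f b c j z p)
    (p' : P'' ⟶ P') : FacN f b c j z (p' ≫ p) := by
  intro Q q1 q2 hq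
  obtain ⟨l, hl⟩ := h Q q1 (q2 ≫ p') (by simpa using hq)
  exact ⟨l, by rw [hl]; congr 2⟩

theorem FacN.of_factor {Z Z' : Scheme.{u}} {z : Z ⟶ X} {z' : Z' ⟶ X} (a : Z' ⟶ Z) (ha : a ≫ z = z')
    {P' : Scheme.{u}} {p : P' ⟶ P} (h : FacN f b c j z p) : FacN f b c j z' p := by
  intro Q q1 q2 hq
  obtain ⟨l, hl⟩ := h Q (q1 ≫ a) q2 (by simpa [ha] using hq)
  exact ⟨l, by rw [hl]; congr 2; simp [ha]⟩

theorem bcMap_fst' {Z : Scheme.{u}} (z : Z ⟶ X) (h1 h2) :
    pullback.map (z ≫ f) b f b z (𝟙 _) (𝟙 _) h1 h2 ≫ pullback.fst f b = pullback.fst (z ≫ f) b ≫ z :=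
  pullback.lift_fst _ _ _

theorem bcMap_snd' {Z : Scheme.{u}} (z : Z ⟶ X) (h1 h2) :
    pullback.map (z ≫ f) b f b z (𝟙 _) (𝟙 _) h1 h2 ≫ pullback.snd f b = pullback.snd (z ≫ f) b := by
  rw [pullback.map, pullback.lift_snd, Category.comp_id]

/-- The locus of one finite flat subscheme. -/
theorem exists_repN [IsClosedImmersion j] [IsLocallyNoetherian P] {Z : Scheme.{u}} (z : Z ⟶ X)
    [IsFinite (z ≫ f)] [Flat (z ≫ f)] :
    ∃ (T : Scheme.{u}) (t : T ⟶ P), IsClosedImmersion t ∧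
      ∀ (P' : Scheme.{u}) (p : P' ⟶ P), (∃ p' : P' ⟶ T, p' ≫ t = p) ↔ FacN f b c j z p := by
  let F := pullback.snd (z ≫ f) b
  let m : pullback (z ≫ f) b ⟶ pullback f b := pullback.map (z ≫ f) b f b z (𝟙 _) (𝟙 _) (by simp) (by simp)
  let J : pullback j (m ≫ c) ⟶ pullback (z ≫ f) b := pullback.snd j (m ≫ c)
  obtain ⟨T, t, ht, hT, -⟩ := exists_closed_weilRestriction_of_locProj F J (locProj_of_finite_flat F)
  refine ⟨T, t, ht, fun P' p => (hT P' p).trans ?_⟩
  constructor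
  · rintro ⟨a, ha⟩ Q q1 q2 hq
    have hq' : q1 ≫ z ≫ f = (q2 ≫ p) ≫ b := by simpa using hq
    let w : Q ⟶ pullback F p := pullback.lift (pullback.lift q1 (q2 ≫ p) hq') q2 (pullback.lift_snd _ _ _)
    refine ⟨w ≫ a ≫ pullback.fst j (m ≫ c), ?_⟩
    simp only [Category.assoc]
    rw [pullback.condition, ← Category.assoc a, ha, ← Category.assoc w, pullback.lift_fst, ← Category.assoc]
    congr 1
    apply pullback.hom_ext
    · rw [Category.assoc, bcMap_fst', pullback.lift_fst, pullback.lift_fst_assoc]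
    · rw [Category.assoc, bcMap_snd', pullback.lift_snd, pullback.lift_snd]
  · intro h
    have h1 : ((pullback.fst F p ≫ pullback.fst (z ≫ f) b) ≫ z) ≫ f = (pullback.snd F p ≫ p) ≫ b := by
      rw [← pullback.condition]
      simp only [F, Category.assoc]
      rw [← pullback.condition]
    obtain ⟨l, hl⟩ := h (pullback F p) (pullback.fst F p ≫ pullback.fst (z ≫ f) b) (pullback.snd F p) h1
    refine ⟨pullback.lift l (pullback.fst F p) ?_, pullback.lift_snd _ _ _⟩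
    rw [hl, ← Category.assoc]
    congr 1
    apply pullback.hom_ext
    · rw [pullback.lift_fst, Category.assoc, Category.assoc, bcMap_fst']
    · rw [pullback.lift_snd, Category.assoc, bcMap_snd']
      exact pullback.condition.symm

/-- The intersection of a family of closed subschemes. -/
theorem exists_inter {ι : Type u} {T : ι → Scheme.{u}} (t : ∀ i, T i ⟶ P) (ht : ∀ i, IsClosedImmersion (t i)) :
    ∃ (T₀ : Scheme.{u}) (t₀ : T₀ ⟶ P), IsClosedImmersion t₀ ∧ (∀ (P' : Scheme.{u}) (p : P' ⟶ P),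
      (∃ p' : P' ⟶ T₀, p' ≫ t₀ = p) ↔ ∀ i, ∃ p' : P' ⟶ T i, p' ≫ t i = p) ∧
      t₀.ker = ⨆ i, (t i).ker := by
  let I : P.IdealSheafData := ⨆ i, (t i).ker
  have hker : I.subschemeι.ker = I := Scheme.IdealSheafData.ker_subschemeι I
  refine ⟨I.subscheme, I.subschemeι, inferInstance, fun P' p => ?_, hker⟩
  have key : ∀ {A : Scheme.{u}} (a : A ⟶ P) [IsClosedImmersion a], (∃ p' : P' ⟶ A, p' ≫ a = p) ↔ a.ker ≤ p.ker := by
    intro A a _
    constructor
    · rintro ⟨p', rfl⟩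
      exact Scheme.Hom.le_ker_comp _ _
    · intro h
      exact ⟨IsClosedImmersion.lift a p h, IsClosedImmersion.lift_fac a p h⟩
  rw [key, hker, iSup_le_iff]
  exact forall_congr' fun i => by
    have := ht i
    exact (key (t i)).symm

/-- **Representability.** -/
theorem exists_rep [LocallyOfFiniteType f] [IsLocallyNoetherian P] [IsClosedImmersion j] {ι : Type u}
    {Z : ι → Scheme.{u}} (z : ∀ i, Z i ⟶ X) (hfin : ∀ i, IsFinite (z i ≫ f)) (hflat : ∀ i, Flat (z i ≫ f))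
    (hb : FibDense f z) :
    ∃ (T : Scheme.{u}) (t : T ⟶ P), IsClosedImmersion t ∧
      (∀ (P' : Scheme.{u}) (p : P' ⟶ P), (∃ p' : P' ⟶ T, p' ≫ t = p) ↔ Fac f b c j p) ∧
      (∀ (P' : Scheme.{u}) (p : P' ⟶ P), Fac f b c j p ↔ ∀ i, FacN f b c j (z i) p) := by
  choose Tn tn htn hTn using fun i => exists_repN (f := f) (b := b) (c := c) (j := j) (z i)
  obtain ⟨T, t, ht, hT, -⟩ := exists_inter tn htn
  have h1 : ∀ (P' : Scheme.{u}) (p : P' ⟶ P), (∃ p' : P' ⟶ T, p' ≫ t = p) ↔ ∀ i, FacN f b c j (z i) p :=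
    fun P' p => (hT P' p).trans (forall_congr' fun i => hTn i P' p)
  have hloc : IsLocallyNoetherian T := LocallyOfFiniteType.isLocallyNoetherian t
  -- the universal case
  have h2 : Fac f b c j t := by
    let w : pullback f (t ≫ b) ⟶ pullback f b :=
      pullback.lift (pullback.fst _ _) (pullback.snd f (t ≫ b) ≫ t) (by rw [pullback.condition, Category.assoc])
    obtain ⟨l, hl⟩ := hb.factors (t ≫ b) hflat j (w ≫ c) (by
      intro i
      have h3 := (h1 T t).1 ⟨𝟙 T, Category.id_comp _⟩ i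
      obtain ⟨l, hl⟩ := h3 (pullback (z i ≫ f) (t ≫ b)) (pullback.fst _ _) (pullback.snd _ _) (by
        rw [Category.assoc, pullback.condition, Category.assoc])
      refine ⟨l, ?_⟩
      rw [hl, ← Category.assoc (bcMap f (t ≫ b) z i)]
      congr 1
      apply pullback.hom_ext
      · rw [pullback.lift_fst, Category.assoc, pullback.lift_fst, bcMap_fst]
      · rw [pullback.lift_snd, Category.assoc, pullback.lift_snd, ← Category.assoc, bcMap_snd])
    intro Q q1 q2 hq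
    have hq' : q1 ≫ f = q2 ≫ t ≫ b := by rw [hq, Category.assoc]
    refine ⟨pullback.lift q1 q2 hq' ≫ l, ?_⟩
    rw [Category.assoc, hl, ← Category.assoc]
    congr 1
    apply pullback.hom_ext
    · rw [pullback.lift_fst, Category.assoc, pullback.lift_fst, pullback.lift_fst]
    · rw [pullback.lift_snd, Category.assoc, pullback.lift_snd, ← Category.assoc, pullback.lift_snd]
  have h4 : ∀ (P' : Scheme.{u}) (p : P' ⟶ P), (∃ p' : P' ⟶ T, p' ≫ t = p) → Fac f b c j p := by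
    rintro P' _ ⟨p', rfl⟩
    exact h2.comp p'
  exact ⟨T, t, ht, fun P' p => ⟨h4 P' p, fun h => (h1 P' p).2 fun i => h.facN _⟩,
    fun P' p => ⟨fun h i => h.facN _, fun h => h4 P' p ((h1 P' p).2 h)⟩⟩

/-- In a noetherian scheme a directed family of quasi-coherent ideals has a largest member. -/
theorem exists_max [AlgebraicGeometry.IsNoetherian P] {ι : Type u} [Nonempty ι] (K : ι → P.IdealSheafData)
    (hK : Directed (· ≤ ·) K) : ∃ i₀, ∀ i, K i ≤ K i₀ := by
  classical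
  have hcomp : IsCompact (Set.univ : Set P) := isCompact_univ
  obtain ⟨s, hs⟩ := hcomp.elim_finite_subcover (fun U : P.affineOpens => ((U : P.Opens) : Set P))
    (fun U => U.1.isOpen) (fun x _ => by
      obtain ⟨_, ⟨V, hV, rfl⟩, hsV, -⟩ :=
        P.isBasis_affineOpens.exists_subset_of_mem_open (a := x) (u := Set.univ) trivial isOpen_univ
      exact Set.mem_iUnion.2 ⟨⟨V, hV⟩, hsV⟩)
  have hmax : ∀ U : P.affineOpens, ∃ i, ∀ r, (K i).ideal U ≤ (K r).ideal U → (K r).ideal U = (K i).ideal U := by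
    intro U
    have hN : IsNoetherianRing Γ(P, U) := IsLocallyNoetherian.component_noetherian U
    obtain ⟨_, ⟨i, rfl⟩, hi⟩ := set_has_maximal_iff_noetherian.2 hN (Set.range fun i => (K i).ideal U)
      (Set.range_nonempty _)
    refine ⟨i, fun r hr => ?_⟩
    by_contra hne
    exact hi _ ⟨r, rfl⟩ (lt_of_le_of_ne hr (Ne.symm hne))
  choose im him using hmax
  obtain ⟨i₀, hi₀⟩ := hK.finset_le (s.image im)
  refine ⟨i₀, fun i => ?_⟩
  refine Scheme.IdealSheafData.le_of_iSup_eq_top (fun U : s => U.1) ?_ ?_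
  · rw [eq_top_iff]
    intro x _
    have := hs (Set.mem_univ x)
    simp only [Set.mem_iUnion] at this
    obtain ⟨U, hU, hx⟩ := this
    exact Opens.mem_iSup.2 ⟨⟨U, hU⟩, hx⟩
  · rintro ⟨U, hU⟩
    obtain ⟨r, hr1, hr2⟩ := hK i i₀
    have h1 : (K (im U)).ideal U ≤ (K i₀).ideal U := hi₀ _ (Finset.mem_image_of_mem _ hU) U
    have h2 := him U r (h1.trans (hr2 U))
    exact (hr1 U).trans (h2.le.trans h1)

/-- **One member of the family is enough.** -/
theorem exists_index [LocallyOfFiniteType f] [AlgebraicGeometry.IsNoetherian P] [IsClosedImmersion j] {ι : Type u}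
    [Nonempty ι] {Z : ι → Scheme.{u}} (z : ∀ i, Z i ⟶ X) (hfin : ∀ i, IsFinite (z i ≫ f))
    (hflat : ∀ i, Flat (z i ≫ f)) (hb : FibDense f z)
    (hdir : ∀ i k, ∃ r, (∃ a : Z i ⟶ Z r, a ≫ z r = z i) ∧ ∃ a : Z k ⟶ Z r, a ≫ z r = z k) :
    ∃ i, ∀ (P' : Scheme.{u}) (p : P' ⟶ P), Fac f b c j p ↔ FacN f b c j (z i) p := by
  choose Tn tn htn hTn using fun i => exists_repN (f := f) (b := b) (c := c) (j := j) (z i)
  have key : ∀ i r, (∃ a : Z i ⟶ Z r, a ≫ z r = z i) → (tn i).ker ≤ (tn r).ker := by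
    rintro i r ⟨a, ha⟩
    have h1 := ((hTn r _ (tn r)).1 ⟨𝟙 _, Category.id_comp _⟩).of_factor a ha
    obtain ⟨p', hp'⟩ := (hTn i _ (tn r)).2 h1
    rw [← hp']
    exact Scheme.Hom.le_ker_comp _ _
  obtain ⟨i₀, hi₀⟩ := exists_max (fun i => (tn i).ker) (by
    intro i k
    obtain ⟨r, h1, h2⟩ := hdir i k
    exact ⟨r, key i r h1, key k r h2⟩)
  obtain ⟨T, t, ht, hT, hT'⟩ := exists_rep (f := f) (b := b) (c := c) (j := j) z hfin hflat hb
  refine ⟨i₀, fun P' p => ⟨fun h => h.facN _, fun h => (hT' P' p).2 fun i => ?_⟩⟩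
  obtain ⟨p', rfl⟩ := (hTn i₀ P' p).2 h
  rw [← hTn]
  exact ⟨p' ≫ IsClosedImmersion.lift (tn i) (tn i₀) (hi₀ i), by
    rw [Category.assoc, IsClosedImmersion.lift_fac]⟩

end K12.DenseRep
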