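import Groth.Agent.SGA3x.K12.ConstPts
import Groth.Agent.Sga3B.HomFun898
import Groth.Agent.Sga3B.RepDescent9

/-!
# Homomorphisms between diagonalisable groups

`N` finitely generated, `M` arbitrary.

* `exists_near_fam`: a family of homomorphisms `D(M) ⟶ D(N)` parametrised by `X` is, locally on `X`, of the form
  `D(φ)`, `φ : N →+ M`;
* `exists_representsHom`: `Hom_{V-gr}(D(M), D(N))` is the constant scheme attached to `Hom(N, M)`;
* `exists_representsHom_etale`: étale-local version: the functor of homomorphisms is represented by a twisted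
  constant scheme.
-/

set_option autoImplicit false
universe u
open CategoryTheory MonoidalCategory CartesianMonoidalCategory MonObj GrpObj AlgebraicGeometry Limits

namespace K12.HomDS

open TwC ConstPts
open Groth.Agent.Sga3B Groth.Agent.SGA3x.K5.Clopen

variable {V : Scheme.{u}} {M N : Type} [AddCommGroup M] [AddCommGroup N]

/-- **Families of homomorphisms `D(M) ⟶ D(N)` are locally constant.** -/
theorem exists_near_fam [Module.Finite ℤ N] {X : Over V} {χ : Red.DS V M ⊗ X ⟶ Red.DS V N}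
    (hχ : AutFam.IsHomFamily (Red.DS V M) (Red.DS V N) χ) (x : X.left) :
    ∃ U : X.left.Opens, x ∈ U ∧ ∃ φ : N →+ M, ∀ (T : Over V) (q : T ⟶ Red.DS V M) (t : T ⟶ X),
      (∀ y, t.left y ∈ U) → lift q t ≫ χ = q ≫ Red.DSmap V φ := by
  have h0 := isMonHom_famMap hχ
  let iM := TorusAlgClosed.dsBcIso X.hom M
  let iN := TorusAlgClosed.dsBcIso X.hom N
  let f : Red.DS X.left M ⟶ Red.DS X.left N := iM.inv.hom.hom ≫ famMap χ ≫ iN.hom.hom.hom
  have h1 : IsMonHom iM.inv.hom.hom := inferInstance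
  have h2 : IsMonHom iN.hom.hom.hom := inferInstance
  have hf : IsMonHom f := inferInstance
  obtain ⟨U, hx, φ, hU⟩ := BorLoc613.exists_near f x
  refine ⟨U, hx, φ, fun T q t ht => ?_⟩
  let T₀ : Over X.left := Over.mk t.left
  let e : (Over.map X.hom).obj T₀ ≅ T := Over.isoMk (Iso.refl _) (by
    change 𝟙 _ ≫ T.hom = t.left ≫ X.hom
    rw [Over.w, Category.id_comp])
  have he : e.hom ≫ t = st T₀ := by
    ext1
    exact Category.id_comp _
  let q' : T₀ ⟶ Red.bc X.hom (Red.DS V M) := BcPts.bcEquiv X.hom T₀ _ (e.hom ≫ q)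
  have h3 := hU T₀ (q' ≫ iM.hom.hom.hom) (by rintro _ ⟨y, rfl⟩; exact ht y)
  have h4 : iM.hom.hom.hom ≫ iM.inv.hom.hom = 𝟙 _ :=
    congrArg (fun z => z.hom.hom) iM.hom_inv_id
  have h5 : (Over.pullback X.hom).map (Red.DSmap V φ) ≫ iN.hom.hom.hom = iM.hom.hom.hom ≫ Red.DSmap X.left φ :=
    BorLoc613.dsBcIso_naturality X.hom φ
  have h6 : IsIso iN.hom.hom.hom := inferInstanceAs (IsIso ((Grp.forget _).map iN.hom))
  have h7 : q' ≫ famMap χ = q' ≫ (Over.pullback X.hom).map (Red.DSmap V φ) := by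
    rw [← cancel_mono iN.hom.hom.hom, Category.assoc, Category.assoc, h5]
    have h8 : f = iM.inv.hom.hom ≫ famMap χ ≫ iN.hom.hom.hom := rfl
    rw [h8, Category.assoc, ← Category.assoc iM.hom.hom.hom, h4, Category.id_comp] at h3
    rw [h3, Category.assoc]
  rw [comp_famMap, ← BcPts.bcEquiv_comp] at h7
  have h9 := (BcPts.bcEquiv X.hom _ _).injective h7
  rw [Equiv.symm_apply_apply, ← he, ← comp_lift, Category.assoc, Category.assoc] at h9
  exact (cancel_epi _).mp h9

lemma isMonHom_DSmap (φ : N →+ M) : IsMonHom (Red.DSmap V φ) := IsoFam.isMonHom_of_mul _ fun T x y => by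
  apply (DSPts.dsEquiv T N).symm.injective
  change DSPts.dsChar _ = DSPts.dsChar _
  rw [DSPts.dsChar_DSmap, DSPts.dsChar_mul, DSPts.dsChar_mul, DSPts.dsChar_DSmap, DSPts.dsChar_DSmap,
    MonoidHom.mul_comp]

variable (V M N) in
/-- the index type -/
abbrev Idx (M N : Type) [AddCommGroup M] [AddCommGroup N] : Type u := ULift.{u} (N →+ M)

theorem exists_univ : ∃ υ : Red.DS V M ⊗ const V (Idx.{u} M N) ⟶ Red.DS V N,
    ∀ (T : Over V) (q : T ⟶ Red.DS V M) (t : T ⟶ const V (Idx.{u} M N)) (i : Idx.{u} M N), (∀ x, idx t x = i) →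
      lift q t ≫ υ = q ≫ Red.DSmap V i.down := by
  obtain ⟨υ, hυ⟩ := exists_glue (V := V) (T := Red.DS V M ⊗ const V (Idx.{u} M N)) (Z := Red.DS V N)
    (idx (snd _ _)) (isOpen_idx _) (fun i => fst _ _ ≫ Red.DSmap V i.down)
  refine ⟨υ, fun T q t i hi => ?_⟩
  rw [hυ T (lift q t) i (fun x => by rw [← idx_comp, lift_snd]; exact hi x), lift_fst_assoc]

/-- **`Hom_{V-gr}(D(M), D(N))` is the constant scheme attached to `Hom(N, M)`**, `N` finitely generated. -/
theorem exists_representsHom [Module.Finite ℤ N] :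
    ∃ υ : Red.DS V M ⊗ const V (Idx.{u} M N) ⟶ Red.DS V N,
      AutFam.RepresentsHom (Red.DS V M) (Red.DS V N) (const V (Idx.{u} M N)) υ := by
  obtain ⟨υ, hυ⟩ := exists_univ (V := V) (M := M) (N := N)
  refine ⟨υ, ?_, fun T χ hχ => ?_⟩
  · intro X g₁ g₂ t
    refine hom_ext_opens _ _ fun x => ⟨⟨{x' | idx t x' = idx t x}, isOpen_idx t _⟩, rfl, ?_⟩
    set U : X.left.Opens := ⟨{x' | idx t x' = idx t x}, isOpen_idx t _⟩ with hU
    have h1 : ∀ y, idx (opnι U ≫ t) y = idx t x := by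
      intro y
      rw [idx_comp]
      exact y.2
    have h2 : ∀ g : X ⟶ Red.DS V M, opnι U ≫ lift g t ≫ υ = (opnι U ≫ g) ≫ Red.DSmap V (idx t x).down := by
      intro g
      rw [← Category.assoc, comp_lift, hυ _ _ _ _ h1]
    have h3 : IsMonHom (Red.DSmap V (idx t x).down) := isMonHom_DSmap _
    have h4 := MonObj.mul_comp (opnι U ≫ g₁) (opnι U ≫ g₂) (Red.DSmap V (idx t x).down)
    rw [comp_mul, h2, h2, h2, comp_mul]
    exact h4
  · choose U hU φ hφ using exists_near_fam hχ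
    have hloc : ∀ x y : T.left, y ∈ U x → φ y = φ x := by
      intro x y hy
      let W : T.left.Opens := U x ⊓ U y
      have hyW : y ∈ W := ⟨hy, hU y⟩
      refine eq_of_DSmap (φ y) (φ x) (opn W) ⟨y, hyW⟩ ?_
      intro T' b q
      rw [← hφ y T' q (b ≫ opnι W) (fun z => (b.left z).2.2), ← hφ x T' q (b ≫ opnι W) (fun z => (b.left z).2.1)]
    obtain ⟨a, ha⟩ := exists_pt (T := T) (fun x => (ULift.up (φ x) : Idx.{u} M N)) (by
      intro i
      rw [isOpen_iff_forall_mem_open]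
      rintro x rfl
      exact ⟨U x, fun y hy => congrArg ULift.up (hloc x y hy), (U x).2, hU x⟩)
    have hcomp : ∀ (b : T ⟶ const V (Idx.{u} M N)) (T' : Over V) (q : T' ⟶ Red.DS V M) (t : T' ⟶ T)
        (i : Idx.{u} M N), (∀ x, idx b (t.left x) = i) →
        lift q t ≫ (Red.DS V M ◁ b) ≫ υ = q ≫ Red.DSmap V i.down := by
      intro b T' q t i hi
      rw [lift_whiskerLeft_assoc, hυ _ _ _ i (fun x => by rw [idx_comp]; exact hi x)]
    refine ⟨a, ?_, fun b hb => ?_⟩
    · refine hom_ext_opens _ _ fun z => ?_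
      let x : T.left := (snd (Red.DS V M) T).left z
      let W : (Red.DS V M ⊗ T).left.Opens := (snd (Red.DS V M) T).left ⁻¹ᵁ (U x)
      refine ⟨W, hU x, ?_⟩
      have h1 : ∀ y, (opnι W ≫ snd (Red.DS V M) T).left y ∈ U x := fun y => y.2
      have h2 : opnι W = lift (opnι W ≫ fst _ _) (opnι W ≫ snd _ _) := by
        rw [← comp_lift, lift_fst_snd, Category.comp_id]
      rw [h2, hφ x _ _ _ h1, hcomp a _ _ _ (ULift.up (φ x)) (fun y => by rw [ha]; exact congrArg ULift.up (hloc x _ (h1 y)))]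
    · refine idx_ext fun x => ?_
      have h1 : idx b x = idx a x := by
        let W : T.left.Opens := U x ⊓ ⟨{y | idx b y = idx b x}, isOpen_idx b _⟩
        have hxW : x ∈ W := ⟨hU x, rfl⟩
        rw [ha]
        apply ULift.down_injective
        refine eq_of_DSmap _ _ (opn W) ⟨x, hxW⟩ ?_
        intro T' c q
        have h2 := hcomp b T' q (c ≫ opnι W) (idx b x) (fun z => (c.left z).2.2)
        rw [← h2, hb]
        exact hφ x T' q (c ≫ opnι W) (fun z => (c.left z).2.1)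
      exact h1

section etale

variable {S : Scheme.{u}}

lemma split_bc {H : Over S} [GrpObj H] {S' S'' : Scheme.{u}} (f : S' ⟶ S) (g : S'' ⟶ S')
    (h : Nonempty (Grp.mk (Red.bc f H) ≅ Grp.mk (Red.DS S' M))) :
    Nonempty (Grp.mk (Red.bc (g ≫ f) H) ≅ Grp.mk (Red.DS S'' M)) := by
  obtain ⟨e⟩ := h
  exact ⟨(BcIso.bcCompIso g f H) ≪≫ BcIso.bcMapIso g e ≪≫ TorusAlgClosed.dsBcIso g M⟩

/-- Two étale-locally diagonalisable groups are simultaneously split over affine étale schemes. -/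
theorem exists_split₂ {H G : Over S} [GrpObj H] [GrpObj G]
    (hH : TwC.Locally S TwC.Topology.etale (fun S' f => ∃ (M : Type) (_ : AddCommGroup M),
      Nonempty (Grp.mk (Red.bc f H) ≅ Grp.mk (Red.DS S' M))))
    (hG : TwC.Locally S TwC.Topology.etale (fun S' f => ∃ (M : Type) (_ : AddCommGroup M),
      AddGroup.FG M ∧ Nonempty (Grp.mk (Red.bc f G) ≅ Grp.mk (Red.DS S' M)))) (s : S) :
    ∃ (V : Scheme.{u}) (v : V ⟶ S) (M N : Type) (_ : AddCommGroup M) (_ : AddCommGroup N), IsAffine V ∧ Etale v ∧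
      s ∈ Set.range v ∧ AddGroup.FG N ∧ Nonempty (Grp.mk (Red.bc v H) ≅ Grp.mk (Red.DS V M)) ∧
      Nonempty (Grp.mk (Red.bc v G) ≅ Grp.mk (Red.DS V N)) := by
  obtain ⟨S₁, f₁, hf₁, ⟨x₁, hx₁⟩, M, _, hM⟩ := hH s
  obtain ⟨S₂, f₂, hf₂, ⟨x₂, hx₂⟩, N, _, hN, hN'⟩ := hG s
  obtain ⟨z, hz₁, hz₂⟩ := Scheme.Pullback.exists_preimage_pullback (f := f₁) (g := f₂) x₁ x₂ (hx₁.trans hx₂.symm)
  obtain ⟨w, hw⟩ := (pullback f₁ f₂).affineCover.covers z
  let a := (pullback f₁ f₂).affineCover.f ((pullback f₁ f₂).affineCover.idx z)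
  refine ⟨_, a ≫ pullback.fst f₁ f₂ ≫ f₁, M, N, inferInstance, inferInstance, inferInstance, inferInstance,
    ⟨w, ?_⟩, hN, ?_, ?_⟩
  · have hw' : a w = z := hw
    rw [Scheme.Hom.comp_apply, hw', Scheme.Hom.comp_apply, hz₁]
    exact hx₁
  · rw [← Category.assoc]
    exact split_bc _ _ hM
  · rw [pullback.condition, ← Category.assoc]
    exact split_bc _ _ hN'

/-- The split case, transported along isomorphisms. -/
theorem exists_representsHom_of_split {V : Scheme.{u}} {H G : Over V} [GrpObj H] [GrpObj G] [Module.Finite ℤ N]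
    (eH : Grp.mk H ≅ Grp.mk (Red.DS V M)) (eG : Grp.mk G ≅ Grp.mk (Red.DS V N)) :
    ∃ υ : H ⊗ const V (Idx.{u} M N) ⟶ G, AutFam.RepresentsHom H G (const V (Idx.{u} M N)) υ := by
  obtain ⟨υ, hυ⟩ := exists_representsHom (V := V) (M := M) (N := N)
  let e : H ≅ Red.DS V M := (Grp.forget _).mapIso eH
  let e' : G ≅ Red.DS V N := (Grp.forget _).mapIso eG
  have h1 : IsMonHom e.hom := inferInstanceAs (IsMonHom eH.hom.hom.hom)
  have h2 : IsMonHom e'.hom := inferInstanceAs (IsMonHom eG.hom.hom.hom)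
  exact ⟨_, HomFun898.representsHom_of_iso e e' hυ⟩

/-- **Étale-locally diagonalisable groups**: the functor of homomorphisms `H ⟶ G`, `G` of finite type, is
represented by an étale-locally constant scheme. -/
theorem exists_representsHom_etale (H G : Over S) [GrpObj H] [GrpObj G]
    (hH : TwC.Locally S TwC.Topology.etale (fun S' f => ∃ (M : Type) (_ : AddCommGroup M),
      Nonempty (Grp.mk (Red.bc f H) ≅ Grp.mk (Red.DS S' M))))
    (hG : TwC.Locally S TwC.Topology.etale (fun S' f => ∃ (M : Type) (_ : AddCommGroup M),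
      AddGroup.FG M ∧ Nonempty (Grp.mk (Red.bc f G) ≅ Grp.mk (Red.DS S' M)))) :
    ∃ (A : Over S) (υ : H ⊗ A ⟶ G), AutFam.RepresentsHom H G A υ ∧ TwC.IsTwConst TwC.Topology.etale A := by
  obtain ⟨A, υ, hA⟩ := RepDescent.exists_representsHom_of_etale H G (fun s => by
    obtain ⟨V, v, M, N, _, _, _, hv, hs, hN, ⟨eH⟩, ⟨eG⟩⟩ := exists_split₂ hH hG s
    have hfin : Module.Finite ℤ N := Module.Finite.iff_addGroup_fg.mpr hN
    obtain ⟨υ, hυ⟩ := exists_representsHom_of_split eH eG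
    exact ⟨V, v, hv, hs, _, υ, hυ, fun U hU => isQuasiAffine_of_isCompact U hU⟩)
  refine ⟨A, υ, hA, fun s => ?_⟩
  obtain ⟨V, v, M, N, _, _, _, hv, hs, hN, ⟨eH⟩, ⟨eG⟩⟩ := exists_split₂ hH hG s
  have hfin : Module.Finite ℤ N := Module.Finite.iff_addGroup_fg.mpr hN
  obtain ⟨υ', hυ'⟩ := exists_representsHom_of_split eH eG
  obtain ⟨υ'', hυ''⟩ := RepDescent.representsHom_bc hA v
  exact ⟨V, v, hv, hs, Idx.{u} M N, RepDescent.nonempty_iso_of_representsHom hυ'' hυ'⟩

end etale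

end K12.HomDS
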