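import Groth.Agent.SGA3x.K12.Central
import Groth.Agent.SGA3x.K9.Glue
import Groth.Agent.Sga3B.AlgBc2

/-!
# Factorization through a monomorphism over a base change

`Fac a b T`: the morphism `a : A ⟶ G` factors through `b : B ⟶ G` over the `S`-scheme `T`.

* `Fac.comp`, `Fac.map`, `Fac.of_map`, `Fac.conj`, `Fac.of_conj`: base change and composition;
* `exists_hom`: `Fac a b (Over.mk v)` in terms of the base change along `v`;
* `Fac.descend`: étale descent, `b` a monomorphism;
* `exists_iso`: mutual factorizations give an isomorphism of the base changes.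
-/

set_option autoImplicit false
universe u
open CategoryTheory MonoidalCategory CartesianMonoidalCategory MonObj GrpObj AlgebraicGeometry Limits

namespace K12.FacMono

open Groth.Agent.Sga3B

variable {S S' : Scheme.{u}} {A B G : Over S}

/-- `a` factors through `b` over `T`. -/
def Fac (a : A ⟶ G) (b : B ⟶ G) (T : Over S) : Prop :=
  ∀ (Y : Over S) (_ : Y ⟶ T) (x : Y ⟶ A), ∃ x' : Y ⟶ B, x' ≫ b = x ≫ a

variable {a : A ⟶ G} {b : B ⟶ G}

theorem Fac.comp {T T' : Over S} (t : T' ⟶ T) (h : Fac a b T) : Fac a b T' :=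
  fun Y y => h Y (y ≫ t)

theorem Fac.map (v : S' ⟶ S) {T : Over S'} (h : Fac a b ((Over.map v).obj T)) :
    Fac ((Over.pullback v).map a) ((Over.pullback v).map b) T := by
  intro Y y x
  obtain ⟨x', hx'⟩ := h _ ((Over.map v).map y) ((BcPts.bcEquiv v Y A).symm x)
  refine ⟨BcPts.bcEquiv v Y B x', ?_⟩
  rw [← BcPts.bcEquiv_comp, hx', BcPts.bcEquiv_comp, Equiv.apply_symm_apply]

theorem Fac.of_map (v : S' ⟶ S) {T : Over S} (t : T ⟶ Over.mk v)
    (h : Fac ((Over.pullback v).map a) ((Over.pullback v).map b) (Over.mk t.left)) : Fac a b T := by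
  intro Y y x
  let y'' : Over.mk (y ≫ t).left ⟶ Over.mk t.left := Over.homMk y.left (by simp)
  obtain ⟨x', hx'⟩ := h _ y'' (BcPts.bcEquiv v _ A ((BcPts.overIso (y ≫ t)).hom ≫ x))
  refine ⟨(BcPts.overIso (y ≫ t)).inv ≫ (BcPts.bcEquiv v _ B).symm x', ?_⟩
  rw [Category.assoc, Iso.inv_comp_eq, ← Category.assoc]
  apply (BcPts.bcEquiv v _ G).injective
  rw [BcPts.bcEquiv_comp, Equiv.apply_symm_apply, BcPts.bcEquiv_comp, hx']

theorem Fac.conj {A' B' G' : Over S} {T : Over S} (h : Fac a b T) (e : A' ⟶ A) (e' : B' ⟶ B) [IsIso e'] (g : G ⟶ G') :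
    Fac (e ≫ a ≫ g) (e' ≫ b ≫ g) T := by
  intro Y y x
  obtain ⟨x', hx'⟩ := h Y y (x ≫ e)
  refine ⟨x' ≫ inv e', ?_⟩
  rw [Category.assoc, IsIso.inv_hom_id_assoc, ← Category.assoc, hx']
  simp only [Category.assoc]

theorem Fac.pre {A' B' : Over S} {T : Over S} (h : Fac a b T) (e : A' ⟶ A) (e' : B' ⟶ B) [IsIso e'] :
    Fac (e ≫ a) (e' ≫ b) T := by
  have h1 := h.conj e e' (𝟙 G)
  simpa using h1

theorem Fac.of_pre {A' B' : Over S} {T : Over S} (e : A' ⟶ A) [IsIso e] (e' : B' ⟶ B) [IsIso e']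
    (h : Fac (e ≫ a) (e' ≫ b) T) : Fac a b T := by
  have h1 := h.pre (inv e) (inv e')
  simpa using h1

theorem fac_of_hom {T : Over S} (h : A ⟶ B) (hh : h ≫ b = a) : Fac a b T := by
  intro Y _ x
  exact ⟨x ≫ h, by rw [Category.assoc, hh]⟩

/-- Factorization over the base. -/
theorem fac_mk_iff (v : S' ⟶ S) : Fac a b (Over.mk v) ↔
    ∃ h : Red.bc v A ⟶ Red.bc v B, h ≫ (Over.pullback v).map b = (Over.pullback v).map a := by
  constructor
  · intro h
    have h1 : Fac ((Over.pullback v).map a) ((Over.pullback v).map b) (Over.mk (𝟙 S')) :=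
      Fac.map v (h.comp (Over.homMk (V := Over.mk v) (𝟙 S' : ((Over.map v).obj (Over.mk (𝟙 S'))).left ⟶ S') (by simp)))
    obtain ⟨x', hx'⟩ := h1 (Red.bc v A) (Over.homMk (Red.bc v A).hom (by simp)) (𝟙 _)
    exact ⟨x', hx'.trans (Category.id_comp _)⟩
  · rintro ⟨h, hh⟩
    exact Fac.of_map v (𝟙 _) (fac_of_hom h hh)

/-- The base change of a monomorphism. -/
theorem mono_map (v : S' ⟶ S) (b : B ⟶ G) [Mono b] : Mono ((Over.pullback v).map b) := by
  have : (Over.pullback v).PreservesMonomorphisms :=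
    Functor.preservesMonomorphisms_of_adjunction (Over.mapPullbackAdj v)
  infer_instance

/-- Étale descent of a factorization, over the base. -/
theorem exists_hom_of_etale [Mono b] {V : Scheme.{u}} (v : V ⟶ S) [Etale v] [Surjective v]
    (h : Fac a b (Over.mk v)) : ∃ f : A ⟶ B, f ≫ b = a := by
  have hL := K9.Glue.covers_single v fun W hW => AlgBc.qc_cover_of_isOpenMap v v.isOpenMap W hW
  choose F hF using h
  obtain ⟨f, hf, -⟩ := hL.existsUnique_glue (T := A) (Y := B) (fun T' t ht => F T' ht.some t) (by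
    intro T' T'' r t h' h''
    rw [← cancel_mono b, Category.assoc, hF, hF, Category.assoc])
  refine ⟨f, hL.hom_ext fun T' t ht => ?_⟩
  rw [← Category.assoc, hf T' t ht, hF]

/-- **Étale descent of factorizations through a monomorphism.** -/
theorem Fac.descend [Mono b] {T V : Over S} (v : V ⟶ T) [Etale v.left] [Surjective v.left] (h : Fac a b V) :
    Fac a b T := by
  have h1 : Fac ((Over.pullback T.hom).map a) ((Over.pullback T.hom).map b) (Over.mk v.left) :=
    Fac.map T.hom (h.comp (Over.homMk (𝟙 V.left) (by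
      change 𝟙 _ ≫ V.hom = v.left ≫ T.hom
      rw [Over.w, Category.id_comp])))
  have h2 := mono_map T.hom b
  obtain ⟨f, hf⟩ := exists_hom_of_etale v.left h1
  exact Fac.of_map T.hom (T := T) (Over.homMk (V := Over.mk T.hom) (𝟙 T.left) (Category.id_comp _)) (fac_of_hom f hf)

/-- Mutual factorizations give an isomorphism. -/
theorem exists_iso (v : S' ⟶ S) [Mono a] [Mono b] (h : Fac a b (Over.mk v)) (h' : Fac b a (Over.mk v)) :
    ∃ ψ : Red.bc v A ≅ Red.bc v B, ψ.hom ≫ (Over.pullback v).map b = (Over.pullback v).map a := by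
  have h1 := mono_map v a
  have h2 := mono_map v b
  obtain ⟨f, hf⟩ := (fac_mk_iff v).1 h
  obtain ⟨g, hg⟩ := (fac_mk_iff v).1 h'
  refine ⟨⟨f, g, ?_, ?_⟩, hf⟩
  · refine (cancel_mono ((Over.pullback v).map a)).1 ?_
    rw [Category.assoc, hg, hf]
    exact (Category.id_comp _).symm
  · refine (cancel_mono ((Over.pullback v).map b)).1 ?_
    rw [Category.assoc, hf, hg]
    exact (Category.id_comp _).symm

end K12.FacMono
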