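import Groth.Agent.SGA3x.K12.CentApprox
import Groth.Agent.SGA3x.K12.Fac
import Groth.Agent.SGA3x.K12.HomDS

/-!
# Central subgroups of multiplicative type which agree at a point

`H₁`, `H₂` of multiplicative type and of finite type, `G` an arbitrary group scheme over `S`, and `S` locally
noetherian or `G` of finite presentation.  `i₁ : H₁ ⟶ G` a homomorphism, `i₂ : H₂ ⟶ G` a monomorphism of groups.

* `exists_nhd_fac`: if at a point `s` the homomorphism `i₁` is central and factors through `i₂` then `i₁` factors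
  through `i₂` in a neighbourhood of `s`;
* `exists_nhd_eqz`: if two homomorphisms `H ⟶ G` agree at `s`, where they are central, then they agree in a neighbourhood
  of `s`.
-/

set_option autoImplicit false
universe u
open CategoryTheory MonoidalCategory CartesianMonoidalCategory MonObj GrpObj AlgebraicGeometry Limits

namespace K12.CentNhd

open Groth.Agent Groth.Agent.Sga3B Groth.Agent.SGA3x.K5.Clopen Central FacMono

/-- A family with values in a subgroup is a family of homomorphisms. -/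
theorem isHomFamily_of_mono {S : Scheme.{u}} {A B G X : Over S} [GrpObj A] [GrpObj B] [GrpObj G] (a : A ⟶ G)
    (b : B ⟶ G) [IsMonHom a] [IsMonHom b] [Mono b] (χ : A ⊗ X ⟶ B) (h : χ ≫ b = fst _ _ ≫ a) :
    AutFam.IsHomFamily A B χ := by
  intro T g₁ g₂ t
  rw [← cancel_mono b, MonObj.mul_comp]
  simp only [Category.assoc, h, lift_fst_assoc]
  exact MonObj.mul_comp g₁ g₂ a

/-- Noetherian or of finite presentation. -/
def NoFp {S : Scheme.{u}} (G : Over S) : Prop :=
  IsLocallyNoetherian S ∨ (LocallyOfFinitePresentation G.hom ∧ QuasiCompact G.hom ∧ QuasiSeparated G.hom)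

theorem NoFp.bc {S V : Scheme.{u}} {G : Over S} (h : NoFp G) (v : V ⟶ S) [LocallyOfFiniteType v] : NoFp (Red.bc v G) := by
  obtain h | ⟨h1, h2, h3⟩ := h
  · exact Or.inl (LocallyOfFiniteType.isLocallyNoetherian v)
  · exact Or.inr ⟨inferInstanceAs (LocallyOfFinitePresentation (pullback.snd _ _)),
      inferInstanceAs (QuasiCompact (pullback.snd _ _)), inferInstanceAs (QuasiSeparated (pullback.snd _ _))⟩

/-- The affine case. -/
theorem exists_away {C : Type u} [CommRing C] {M : Type} [AddCommGroup M] [AddGroup.FG M]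
    {G : Over (Spec (CommRingCat.of C))} [GrpObj G] (hG : NoFp G)
    (u v : Red.DS (Spec (CommRingCat.of C)) M ⟶ G) [IsMonHom u] [IsMonHom v] (p : Ideal C) [p.IsPrime]
    (hE : Eqz u v (Over.mk (Spec.map (CommRingCat.ofHom (algebraMap C p.ResidueField)))))
    (hc : Cen u (Over.mk (Spec.map (CommRingCat.ofHom (algebraMap C p.ResidueField))))) :
    ∃ f, f ∉ p ∧ Eqz u v (Over.mk (Spec.map (CommRingCat.ofHom (algebraMap C (Localization.Away f))))) := by
  obtain hG | ⟨h1, h2, h3⟩ := hG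
  · have : IsNoetherianRing C := isLocallyNoetherian_Spec.mp hG
    exact CentEq.exists_away u v p hE hc
  · exact CentApprox.exists_away u v p hE hc

/-- The morphism of `S`-schemes between the spectra of residue fields. -/
noncomputable def resMor {S : Scheme.{u}} {C : Type u} [CommRing C] (v : Spec (CommRingCat.of C) ⟶ S)
    (y : Spec (CommRingCat.of C)) :
    (Over.map v).obj (Over.mk (Spec.map (CommRingCat.ofHom (algebraMap C y.asIdeal.ResidueField)))) ⟶
      Over.mk (S.fromSpecResidueField (v y)) :=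
  Over.homMk (Spec.map (Scheme.Spec.residueFieldIso (.of C) y).hom ≫ Spec.map (v.residueFieldMap y)) (by
    change (Spec.map (Scheme.Spec.residueFieldIso (.of C) y).hom ≫ Spec.map (v.residueFieldMap y)) ≫
          S.fromSpecResidueField (v y) = Spec.map (CommRingCat.ofHom (algebraMap C y.asIdeal.ResidueField)) ≫ v
    rw [Category.assoc, Scheme.Hom.SpecMap_residueFieldMap_fromSpecResidueField,
        ← Scheme.Spec.map_residueFieldIso_inv_eq_fromSpecResidueField, Category.assoc, ← Spec.map_comp_assoc,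
        Iso.inv_hom_id, Spec.map_id, Category.id_comp])

/-- The affine split case: factorization. -/
theorem exists_away_fac {C : Type u} [CommRing C] {M N : Type} [AddCommGroup M] [AddCommGroup N] [AddGroup.FG M]
    [AddGroup.FG N] {G : Over (Spec (CommRingCat.of C))} [GrpObj G] (hG : NoFp G)
    (a : Red.DS (Spec (CommRingCat.of C)) M ⟶ G) (b : Red.DS (Spec (CommRingCat.of C)) N ⟶ G) [IsMonHom a]
    [IsMonHom b] [Mono b] (p : Ideal C) [p.IsPrime]
    (hF : Fac a b (Over.mk (Spec.map (CommRingCat.ofHom (algebraMap C p.ResidueField)))))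
    (hc : Cen a (Over.mk (Spec.map (CommRingCat.ofHom (algebraMap C p.ResidueField))))) :
    ∃ f, f ∉ p ∧ Fac a b (Over.mk (Spec.map (CommRingCat.ofHom (algebraMap C (Localization.Away f))))) := by
  let X : Over (Spec (CommRingCat.of C)) := Over.mk (Spec.map (CommRingCat.ofHom (algebraMap C p.ResidueField)))
  obtain ⟨χ, hχ⟩ := hF (Red.DS _ M ⊗ X) (snd _ _) (fst _ _)
  have hχ' := isHomFamily_of_mono a b χ hχ
  have h1 : Nonempty X.left := inferInstanceAs (Nonempty (PrimeSpectrum p.ResidueField))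
  have h2 : Subsingleton X.left := inferInstanceAs (Subsingleton (PrimeSpectrum p.ResidueField))
  have hN : Module.Finite ℤ N := Module.Finite.iff_addGroup_fg.mpr inferInstance
  obtain ⟨U, hU, φ, hφ⟩ := HomDS.exists_near_fam hχ' h1.some
  have h3 := HomDS.isMonHom_DSmap (V := Spec (CommRingCat.of C)) φ
  have hE : Eqz a (Red.DSmap _ φ ≫ b) X := by
    intro T t q
    have h4 := hφ T q t (fun y => by rw [Subsingleton.elim (t.left y) h1.some]; exact hU)
    rw [← Category.assoc, ← h4, Category.assoc, hχ, lift_fst_assoc]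
  obtain ⟨f, hf, hE'⟩ := exists_away hG a (Red.DSmap _ φ ≫ b) p hE hc
  refine ⟨f, hf, fun Y y x => ⟨x ≫ Red.DSmap _ φ, ?_⟩⟩
  rw [Category.assoc]
  exact (hE' Y y x).symm

/-- The open image of an étale morphism, and the factorization through it. -/
theorem exists_range {V S : Scheme.{u}} (w : V ⟶ S) [Etale w] :
    ∃ (U : S.Opens) (w' : Over.mk w ⟶ Over.mk U.ι), (U : Set S) = Set.range w ∧ Etale w'.left ∧ Surjective w'.left := by
  let U : S.Opens := ⟨Set.range w, w.isOpenMap.isOpen_range⟩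
  have h1 : Set.range w ⊆ Set.range U.ι := by
    rw [Scheme.Opens.range_ι]
    rfl
  let w' : V ⟶ U := IsOpenImmersion.lift U.ι w h1
  have hw : w' ≫ U.ι = w := IsOpenImmersion.lift_fac _ _ _
  refine ⟨U, Over.homMk w' hw, rfl, ?_, ?_⟩
  · have h2 : Etale (w' ≫ U.ι) := by rw [hw]; infer_instance
    exact Etale.of_comp w' U.ι
  · refine ⟨?_⟩
    rintro ⟨_, x, rfl⟩
    refine ⟨x, ?_⟩
    apply U.ι.isOpenEmbedding.injective
    change U.ι (w' x) = _
    rw [← Scheme.Hom.comp_apply, hw]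
    rfl

variable {S : Scheme.{u}} {H₁ H₂ G : Over S} [GrpObj H₁] [GrpObj H₂] [GrpObj G]

/-- Simultaneous splitting over an affine étale scheme. -/
theorem exists_etale_split₂ (h₁ : SGA3x.IsMultTypeFT H₁) (h₂ : SGA3x.IsMultTypeFT H₂) (s : S) :
    ∃ (C : Type u) (_ : CommRing C) (v : Spec (CommRingCat.of C) ⟶ S) (M N : Type) (_ : AddCommGroup M)
      (_ : AddCommGroup N), Etale v ∧ s ∈ Set.range v ∧ AddGroup.FG M ∧ AddGroup.FG N ∧
      Nonempty (Grp.mk (Red.bc v H₁) ≅ Grp.mk (Red.DS (Spec (CommRingCat.of C)) M)) ∧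
      Nonempty (Grp.mk (Red.bc v H₂) ≅ Grp.mk (Red.DS (Spec (CommRingCat.of C)) N)) := by
  obtain ⟨B, _, v, M, _, hv, ⟨x, hx⟩, hM, ⟨e⟩⟩ := _root_.K10.MTLoc.exists_etale_split h₁ s
  obtain ⟨C, _, w, N, _, hw, ⟨y, hy⟩, hN, ⟨e'⟩⟩ :=
    _root_.K10.MTLoc.exists_etale_split (_root_.K10.MTLoc.bc v h₂) x
  refine ⟨C, inferInstance, w ≫ v, M, N, inferInstance, inferInstance, inferInstance, ⟨y, ?_⟩, hM, hN, ⟨?_⟩, ⟨?_⟩⟩
  · rw [Scheme.Hom.comp_apply, hy, hx]
  · exact (BcIso.bcCompIso w v H₁) ≪≫ BcIso.bcMapIso w e ≪≫ TorusAlgClosed.dsBcIso w M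
  · exact (BcIso.bcCompIso w v H₂) ≪≫ e'

/-- **Factorization near a point.** -/
theorem exists_nhd_fac (hG : NoFp G) (h₁ : SGA3x.IsMultTypeFT H₁) (h₂ : SGA3x.IsMultTypeFT H₂) (i₁ : H₁ ⟶ G)
    [IsMonHom i₁] (i₂ : H₂ ⟶ G) [IsMonHom i₂] [Mono i₂] (s : S)
    (hc : Cen i₁ (Over.mk (S.fromSpecResidueField s))) (hF : Fac i₁ i₂ (Over.mk (S.fromSpecResidueField s))) :
    ∃ U : S.Opens, s ∈ U ∧ Fac i₁ i₂ (Over.mk U.ι) := by
  obtain ⟨C, _, v, M, N, _, _, hv, ⟨y, rfl⟩, hM, hN, ⟨e₁⟩, ⟨e₂⟩⟩ := exists_etale_split₂ h₁ h₂ s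
  let ε₁ : Red.DS (Spec (CommRingCat.of C)) M ⟶ Red.bc v H₁ := e₁.inv.hom.hom
  let ε₂ : Red.DS (Spec (CommRingCat.of C)) N ⟶ Red.bc v H₂ := e₂.inv.hom.hom
  have i1 : IsMonHom ε₁ := inferInstance
  have i2 : IsMonHom ε₂ := inferInstance
  have i3 : IsIso ε₁ := inferInstanceAs (IsIso ((Grp.forget _).map e₁.inv))
  have i4 : IsIso ε₂ := inferInstanceAs (IsIso ((Grp.forget _).map e₂.inv))
  let b₁ : Red.bc v H₁ ⟶ Red.bc v G := (Over.pullback v).map i₁
  let b₂ : Red.bc v H₂ ⟶ Red.bc v G := (Over.pullback v).map i₂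
  have i5 : IsMonHom b₁ := inferInstance
  have i6 : IsMonHom b₂ := inferInstance
  have i7 : Mono b₂ := mono_map v i₂
  obtain ⟨f, hf, hff⟩ := exists_away_fac (hG.bc v) (ε₁ ≫ b₁) (ε₂ ≫ b₂) y.asIdeal
    (Fac.pre (Fac.map v (hF.comp (resMor v y))) ε₁ ε₂) (Cen.pre (Cen.map v (hc.comp (resMor v y))) ε₁)
  let q : Spec (CommRingCat.of (Localization.Away f)) ⟶ Spec (CommRingCat.of C) :=
    Spec.map (CommRingCat.ofHom (algebraMap C (Localization.Away f)))
  have h3 : Fac b₁ b₂ (Over.mk q) := Fac.of_pre ε₁ ε₂ hff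
  have h4 : Fac i₁ i₂ (Over.mk (q ≫ v)) :=
    Fac.of_map v (Over.homMk (V := Over.mk v) (U := Over.mk (q ≫ v)) q rfl) h3
  obtain ⟨U, w', hU, h5, h6⟩ := exists_range (q ≫ v)
  refine ⟨U, ?_, Fac.descend w' h4⟩
  change v y ∈ (U : Set S)
  rw [hU]
  obtain ⟨z, hz⟩ : y ∈ Set.range q := by
    change y ∈ Set.range (PrimeSpectrum.comap (algebraMap C (Localization.Away f)))
    rw [PrimeSpectrum.localization_away_comap_range (Localization.Away f) f]
    exact hf
  exact ⟨z, by rw [Scheme.Hom.comp_apply, hz]⟩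

/-- **Agreement near a point.** -/
theorem exists_nhd_eqz {H : Over S} [GrpObj H] (hG : NoFp G) (hH : SGA3x.IsMultTypeFT H) (u v : H ⟶ G)
    [IsMonHom u] [IsMonHom v] (s : S) (hc : Cen u (Over.mk (S.fromSpecResidueField s)))
    (hE : Eqz u v (Over.mk (S.fromSpecResidueField s))) :
    ∃ U : S.Opens, s ∈ U ∧ Eqz u v (Over.mk U.ι) := by
  obtain ⟨C, _, w, M, _, hw, ⟨y, rfl⟩, hM, ⟨e⟩⟩ := _root_.K10.MTLoc.exists_etale_split hH s
  have : AddGroup.FG M := hM
  let ε : Red.DS (Spec (CommRingCat.of C)) M ⟶ Red.bc w H := e.inv.hom.hom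
  have i1 : IsMonHom ε := inferInstance
  have i3 : IsIso ε := inferInstanceAs (IsIso ((Grp.forget _).map e.inv))
  let b₁ : Red.bc w H ⟶ Red.bc w G := (Over.pullback w).map u
  let b₂ : Red.bc w H ⟶ Red.bc w G := (Over.pullback w).map v
  have i5 : IsMonHom b₁ := inferInstance
  have i6 : IsMonHom b₂ := inferInstance
  obtain ⟨f, hf, hff⟩ := exists_away (hG.bc w) (ε ≫ b₁) (ε ≫ b₂) y.asIdeal
    (by simpa using (Eqz.map w (hE.comp (resMor w y))).conj ε (𝟙 _)) (Cen.pre (Cen.map w (hc.comp (resMor w y))) ε)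
  let q : Spec (CommRingCat.of (Localization.Away f)) ⟶ Spec (CommRingCat.of C) :=
    Spec.map (CommRingCat.ofHom (algebraMap C (Localization.Away f)))
  have h3 : Eqz b₁ b₂ (Over.mk q) := Eqz.of_conj (asIso ε).symm (Iso.refl _) (by simpa using hff)
  have h4 : Eqz u v (Over.mk (q ≫ w)) :=
    Eqz.of_map w (Over.homMk (V := Over.mk w) (U := Over.mk (q ≫ w)) q rfl) h3
  obtain ⟨U, w', hU, h5, h6⟩ := exists_range (q ≫ w)
  refine ⟨U, ?_, eqz_of_surjective w' h4⟩
  change w y ∈ (U : Set S)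
  rw [hU]
  obtain ⟨z, hz⟩ : y ∈ Set.range q := by
    change y ∈ Set.range (PrimeSpectrum.comap (algebraMap C (Localization.Away f)))
    rw [PrimeSpectrum.localization_away_comap_range (Localization.Away f) f]
    exact hf
  exact ⟨z, by rw [Scheme.Hom.comp_apply, hz]⟩

end K12.CentNhd
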