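import Groth.Agent.SGA3x.K12.TorsAgree

/-!
# Central homomorphisms from a diagonalisable group which agree at a point

`M` finitely generated, `C` noetherian, `G` an arbitrary group scheme over `Spec C`, `u v : D(M) ⟶ G` homomorphisms.

* `eq_of_local`: `C` local; if `u` and `v` agree over the residue field, where `u` is central, then `u = v`;
* `exists_away`: if `u` and `v` agree over `κ(p)`, where `u` is central, then they agree over `C_f` for some `f ∉ p`.
-/

set_option autoImplicit false
universe u
open CategoryTheory MonoidalCategory CartesianMonoidalCategory MonObj GrpObj AlgebraicGeometry Limits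

namespace K12.CentEq

open Groth.Agent Groth.Agent.Sga3.H827 Groth.Agent.Sga3B.DSPts Groth.Agent.Sga3B.InfConj
  Groth.Agent.Sga3B.InfConjFam KerPts Groth.Agent.Sga3A.FibRes Groth.Agent.SGA3x.K5.Clopen Central TorsAgree

variable {C : Type u} [CommRing C] {M : Type} [AddCommGroup M] {G : Over (Spec (CommRingCat.of C))}

/-- the closed point -/
noncomputable abbrev cl (C : Type u) [CommRing C] [IsLocalRing C] : Over (Spec (CommRingCat.of C)) :=
  Over.mk (Spec.map (CommRingCat.ofHom (IsLocalRing.residue C)))

/-- **Rigidity over the infinitesimal neighbourhoods of the closed point.** -/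
theorem eqz_nb [IsLocalRing C] [GrpObj G] {H : Over (Spec (CommRingCat.of C))} [GrpObj H]
    (hH : K21.MultLoc.IsMult H) (u v : H ⟶ G) [IsMonHom u] [IsMonHom v]
    (hE : Eqz u v (cl C)) (hc : Cen u (cl C)) (k : ℕ) : Eqz u v (nb C k) := by
  let J : Ideal C := (IsLocalRing.maximalIdeal C) ^ (k + 1)
  let q : Spec (CommRingCat.of (C ⧸ J)) ⟶ Spec (CommRingCat.of C) :=
    Spec.map (CommRingCat.ofHom (Ideal.Quotient.mk J))
  let J' : Ideal (C ⧸ J) := (IsLocalRing.maximalIdeal C).map (Ideal.Quotient.mk J)
  have hJ' : IsNilpotent J' := by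
    refine ⟨k + 1, ?_⟩
    rw [← Ideal.map_pow, Ideal.zero_eq_bot]
    exact Ideal.map_quotient_self _
  let ψ : IsLocalRing.ResidueField C →+* (C ⧸ J) ⧸ J' :=
    Ideal.Quotient.lift _ ((Ideal.Quotient.mk J').comp (Ideal.Quotient.mk J)) (by
      intro x hx
      exact Ideal.Quotient.eq_zero_iff_mem.2 (Ideal.mem_map_of_mem _ hx))
  let T : Over (Spec (CommRingCat.of (C ⧸ J))) := Over.mk (Spec.map (CommRingCat.ofHom (Ideal.Quotient.mk J')))
  let t : (Over.map q).obj T ⟶ cl C := Over.homMk (Spec.map (CommRingCat.ofHom ψ)) (by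
    change Spec.map (CommRingCat.ofHom ψ) ≫ Spec.map (CommRingCat.ofHom (IsLocalRing.residue C)) =
      Spec.map (CommRingCat.ofHom (Ideal.Quotient.mk J')) ≫ Spec.map (CommRingCat.ofHom (Ideal.Quotient.mk J))
    rw [← Spec.map_comp, ← Spec.map_comp, ← CommRingCat.ofHom_comp, ← CommRingCat.ofHom_comp]
    rfl)
  have h1 : Cen (G := Red.bc q G) ((Over.pullback q).map u : Red.bc q H ⟶ Red.bc q G) T := Cen.map q (hc.comp t)
  have h2 : Eqz ((Over.pullback q).map u) ((Over.pullback q).map v) T := Eqz.map q (hE.comp t)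
  rw [eqz_mk_iff]
  exact CentNil.eq_of_mod J' hJ' (H := Red.bc q H) (G := Red.bc q G) (K21.MultLoc.isMult_bc q hH) _ _ h1 h2

/-- Every point of `D(M)` comes from the universal one. -/
lemma eq_of_univPt {a b : Red.DS (Spec (CommRingCat.of C)) M ⟶ G} (h : univPt C M ≫ a = univPt C M ≫ b) : a = b := by
  obtain ⟨t, ht⟩ := exists_eq_comp_charPt (𝟙 (Red.DS (Spec (CommRingCat.of C)) M))
  rw [← Category.id_comp a, ← Category.id_comp b, ht, Category.assoc, Category.assoc, h]

/-- **Agreement on the torsion points**, for an arbitrary group scheme. -/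
theorem eq_of_tors [AddGroup.FG M] [GrpObj G] {a b : Red.DS (Spec (CommRingCat.of C)) M ⟶ G} (h : Tors a b) :
    a = b := by
  apply eq_of_univPt
  ext1
  let A := MonoidAlgebra C (Multiplicative M)
  refine Agree.eq_of_points (A := A) (univPt C M ≫ a).left (univPt C M ≫ b).left ?_ (K := ℕ)
    (fun l => RingHom.ker (qAlg C M (l + 1))) ?_ ?_
  · intro t
    let k := t.asIdeal.ResidueField
    refine ⟨Spec (CommRingCat.of k), Spec.map (CommRingCat.ofHom (algebraMap A k)), ?_, ?_⟩
    · change t ∈ Set.range (PrimeSpectrum.comap (algebraMap A k))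
      refine ⟨⊥, ?_⟩
      apply PrimeSpectrum.ext
      exact (RingHom.ker_eq_comap_bot (algebraMap A k)).symm.trans t.asIdeal.ker_algebraMap_residueField
    · have h1 := eqz_of_torsion_of_field h (algebraMap C k)
      let y : pt C k ⟶ pt C A := ptMap (IsScalarTower.toAlgHom C A k)
      have h2 := h1 (pt C k) (𝟙 _) (y ≫ univPt C M)
      rw [Category.assoc, Category.assoc] at h2
      exact congrArg (fun f => Over.Hom.left f) h2
  · rw [eq_bot_iff]
    intro x hx
    rw [Ideal.mem_iInf] at hx
    refine (Ideal.mem_bot).2 (eq_zero_of_qma x fun l hl => ?_)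
    obtain ⟨l, rfl⟩ := Nat.exists_eq_succ_of_ne_zero hl.ne'
    exact hx l
  · intro l
    let I : Ideal A := RingHom.ker (qAlg C M (l + 1))
    let χ : Multiplicative M →* A ⧸ I := (Ideal.Quotient.mk I : A →* A ⧸ I).comp (MonoidAlgebra.of C _)
    have h1 := h.charPt_comp (E := A ⧸ I) χ (l + 1) l.succ_pos (by
      intro m
      have h2 : MonoidAlgebra.of C (Multiplicative M) (m ^ (l + 1)) - 1 ∈ I := by
        rw [RingHom.mem_ker, map_sub, map_one, sub_eq_zero]
        refine Eq.trans ?_ (qPt_pow (C := C) (M := M) (l + 1) m)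
        simp [qPt, qAlg, qma]
      have h3 := Ideal.Quotient.eq_zero_iff_mem.2 h2
      rw [map_sub, map_one, sub_eq_zero] at h3
      exact h3)
    have h4 : charPt (C := C) χ = ptMap (Ideal.Quotient.mkₐ C I) ≫ univPt C M := by
      unfold univPt
      rw [ptMap_charPt]
      rfl
    rw [h4, Category.assoc, Category.assoc] at h1
    exact congrArg (fun f => Over.Hom.left f) h1

/-- **Central homomorphisms over a noetherian local ring.** -/
theorem eq_of_local [IsLocalRing C] [IsNoetherianRing C] [GrpObj G] [AddGroup.FG M]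
    (u v : Red.DS (Spec (CommRingCat.of C)) M ⟶ G) [IsMonHom u] [IsMonHom v]
    (hE : Eqz u v (cl C)) (hc : Cen u (cl C)) : u = v :=
  eq_of_tors (tors_of_local (eqz_nb (K21.MultLoc.isMult_DS M) u v hE hc))

/-- **Central homomorphisms over a localization.** -/
theorem eqz_localization [IsNoetherianRing C] [GrpObj G] [AddGroup.FG M]
    (u v : Red.DS (Spec (CommRingCat.of C)) M ⟶ G) [IsMonHom u] [IsMonHom v] (p : Ideal C) [p.IsPrime]
    (hE : Eqz u v (Over.mk (Spec.map (CommRingCat.ofHom (algebraMap C p.ResidueField)))))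
    (hc : Cen u (Over.mk (Spec.map (CommRingCat.ofHom (algebraMap C p.ResidueField))))) :
    Eqz u v (Over.mk (Spec.map (CommRingCat.ofHom (algebraMap C (Localization.AtPrime p))))) := by
  let C' := Localization.AtPrime p
  have hC' : IsNoetherianRing C' := IsLocalization.isNoetherianRing p.primeCompl _ ‹_›
  let q : Spec (CommRingCat.of C') ⟶ Spec (CommRingCat.of C) := Spec.map (CommRingCat.ofHom (algebraMap C C'))
  let i := (Sga3B.TorusAlgClosed.dsBcIso q M).inv.hom.hom
  have hi : IsMonHom i := inferInstance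
  have hi' : IsIso i := inferInstanceAs (IsIso ((Grp.forget _).map (Sga3B.TorusAlgClosed.dsBcIso q M).inv))
  let t : (Over.map q).obj (cl C') ⟶ Over.mk (Spec.map (CommRingCat.ofHom (algebraMap C p.ResidueField))) :=
    Over.homMk (𝟙 _) (by
      change 𝟙 _ ≫ Spec.map (CommRingCat.ofHom (algebraMap C p.ResidueField)) =
        Spec.map (CommRingCat.ofHom (IsLocalRing.residue C')) ≫ Spec.map (CommRingCat.ofHom (algebraMap C C'))
      rw [← Spec.map_comp, ← CommRingCat.ofHom_comp, Category.id_comp]
      rfl)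
  have h1 : i ≫ (Over.pullback q).map u = i ≫ (Over.pullback q).map v := by
    refine eq_of_local (G := Red.bc q G) _ _ ?_ ?_
    · have h2 := (Eqz.map q (hE.comp t)).conj i (𝟙 _)
      simpa using h2
    · exact Cen.pre (Cen.map q (hc.comp t)) i
  rw [eqz_mk_iff]
  exact (cancel_epi i).1 h1

/-- **Central homomorphisms near a point**, affine noetherian case. -/
theorem exists_away [IsNoetherianRing C] [GrpObj G] [AddGroup.FG M]
    (u v : Red.DS (Spec (CommRingCat.of C)) M ⟶ G) [IsMonHom u] [IsMonHom v] (p : Ideal C) [p.IsPrime]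
    (hE : Eqz u v (Over.mk (Spec.map (CommRingCat.ofHom (algebraMap C p.ResidueField)))))
    (hc : Cen u (Over.mk (Spec.map (CommRingCat.ofHom (algebraMap C p.ResidueField))))) :
    ∃ f, f ∉ p ∧ Eqz u v (Over.mk (Spec.map (CommRingCat.ofHom (algebraMap C (Localization.Away f))))) := by
  let A := MonoidAlgebra C (Multiplicative M)
  have hA : IsNoetherianRing A := by
    have h0 : Monoid.FG (Multiplicative M) := by
      have h1 : Group.FG (Multiplicative M) := inferInstance
      exact Monoid.fg_of_group_fg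
    exact Algebra.FiniteType.isNoetherianRing C _
  obtain ⟨f, hf, hT⟩ := Agree.exists_away (R := C) (A := A) (univPt C M ≫ u).left (univPt C M ≫ v).left p (by
    intro E _ _ _ _ hE'
    let C' := Localization.AtPrime p
    let ψ : C' →+* E := IsLocalization.lift (M := p.primeCompl) (g := algebraMap C E) (fun r => hE' r.1 r.2)
    have hψ : ψ.comp (algebraMap C C') = algebraMap C E := IsLocalization.lift_comp _
    let t : pt C E ⟶ Over.mk (Spec.map (CommRingCat.ofHom (algebraMap C (Localization.AtPrime p)))) :=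
      Over.homMk (Spec.map (CommRingCat.ofHom ψ)) (by
        change Spec.map (CommRingCat.ofHom ψ) ≫ Spec.map (CommRingCat.ofHom (algebraMap C C')) =
          Spec.map (CommRingCat.ofHom (algebraMap C E))
        rw [← Spec.map_comp, ← CommRingCat.ofHom_comp, hψ])
    have h1 := eqz_localization u v p hE hc (pt C E) t (ptMap (IsScalarTower.toAlgHom C A E) ≫ univPt C M)
    rw [Category.assoc, Category.assoc] at h1
    exact congrArg (fun f => Over.Hom.left f) h1)
  refine ⟨f, hf, fun T t x => ?_⟩
  obtain ⟨y, rfl⟩ := exists_eq_comp_charPt x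
  rw [Category.assoc, Category.assoc]
  ext1
  refine hT T.left y.left fun z hz => ?_
  have h1 : T.hom = y.left ≫ Spec.map (CommRingCat.ofHom (algebraMap C A)) := (Over.w y).symm
  have h2 : T.hom = t.left ≫ Spec.map (CommRingCat.ofHom (algebraMap C (Localization.Away f))) := (Over.w t).symm
  have h3 : f ∈ (T.hom z : PrimeSpectrum C).asIdeal := by
    rw [h1, Scheme.Hom.comp_apply]
    exact hz
  rw [h2, Scheme.Hom.comp_apply] at h3
  have h4 : algebraMap C (Localization.Away f) f ∈ (t.left z : PrimeSpectrum (Localization.Away f)).asIdeal := h3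
  exact (t.left z : PrimeSpectrum (Localization.Away f)).2.ne_top
    (Ideal.eq_top_of_isUnit_mem _ h4 (IsLocalization.Away.algebraMap_isUnit f))

end K12.CentEq
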