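import Groth.Agent.SGA3x.K12.CentFam
import Groth.Agent.SGA3x.K12.CentEq
import Groth.Agent.Sga3.H767.FamRing
import Groth.Agent.Sga3.H806.ApproxProp

/-!
# Central homomorphisms from a diagonalisable group which agree at a point, groups of finite presentation

`M` finitely generated, `C` an arbitrary ring, `G` a group scheme over `Spec C` of finite presentation,
`u v : D(M) ⟶ G` homomorphisms.

* `exists_away`: if `u` and `v` agree over `κ(p)`, where `u` is central, then they agree over `C_f` for some `f ∉ p`.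
-/

set_option autoImplicit false
universe u
open CategoryTheory MonoidalCategory CartesianMonoidalCategory MonObj GrpObj AlgebraicGeometry Limits TensorProduct

namespace K12.CentApprox

open Groth.Agent Groth.Agent.SGA3x.K5.Clopen Central CentFam Groth.Agent.Sga3B.BcPts
open Groth.Agent.Sga3B.IsoFam (unfam comp_unfam isMonHom_unfam isHomFamily_fam)
open Groth.Agent.Sga3.H767.FamLim Groth.Agent.Sga3.H767.FamRing

lemma exists_away_hom {W R : Type u} [CommRing W] [CommRing R] (b : W →+* R) (f : W) :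
    ∃ γ : Localization.Away f →+* Localization.Away (b f),
      γ.comp (algebraMap W (Localization.Away f)) = (algebraMap R (Localization.Away (b f))).comp b := by
  have hy : Submonoid.powers f ≤ (Submonoid.powers (b f)).comap b := by
    rintro _ ⟨n, rfl⟩
    exact ⟨n, (map_pow b f n).symm⟩
  exact ⟨IsLocalization.map (Localization.Away (b f)) b hy, IsLocalization.map_comp hy⟩

lemma exists_residue_hom {W R : Type u} [CommRing W] [CommRing R] (b : W →+* R) (p : Ideal R) [p.IsPrime]
    (P : Ideal W) [P.IsPrime] (hP : P = p.comap b) :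
    ∃ β : P.ResidueField →+* p.ResidueField,
      β.comp (algebraMap W P.ResidueField) = (algebraMap R p.ResidueField).comp b :=
  ⟨Ideal.ResidueField.map P p b hP, RingHom.ext fun w => Ideal.ResidueField.map_algebraMap P p b hP w⟩

/-- Composition with an isomorphism of groups. -/
theorem _root_.K12.Central.Cen.post {S : Scheme.{u}} {H G G' : Over S} [GrpObj G] [GrpObj G'] {u : H ⟶ G}
    {T : Over S} (h : Cen u T) (e : G ⟶ G') [IsMonHom e] [IsIso e] : Cen (u ≫ e) T := by
  intro Y b g x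
  have h1 := congrArg (fun z => z ≫ e) (h Y b (g ≫ inv e) x)
  change (g ≫ inv e * x ≫ u) ≫ e = (x ≫ u * g ≫ inv e) ≫ e at h1
  rw [MonObj.mul_comp, MonObj.mul_comp, Category.assoc, Category.assoc, IsIso.inv_hom_id, Category.comp_id] at h1
  exact h1

/-- **Families**, over a noetherian parameter ring. -/
theorem exists_away_fam {A W : Type u} [CommRing A] [CommRing W] [IsNoetherianRing W] [Algebra A W] {M : Type}
    [AddCommGroup M] [AddGroup.FG M] {G : Over (Spec (CommRingCat.of A))} [GrpObj G]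
    (χ χ' : Red.DS (Spec (CommRingCat.of A)) M ⊗ sp A W ⟶ G)
    (h : AutFam.IsHomFamily (Red.DS (Spec (CommRingCat.of A)) M) G χ)
    (h' : AutFam.IsHomFamily (Red.DS (Spec (CommRingCat.of A)) M) G χ') (p : Ideal W) [p.IsPrime]
    (hE : AgrAt χ χ' (Over.homMk (Spec.map (CommRingCat.ofHom (algebraMap W p.ResidueField))) rfl :
      Over.mk (Spec.map (CommRingCat.ofHom (algebraMap W p.ResidueField)) ≫ (sp A W).hom) ⟶ sp A W))
    (hc : CenAt χ (Over.homMk (Spec.map (CommRingCat.ofHom (algebraMap W p.ResidueField))) rfl :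
      Over.mk (Spec.map (CommRingCat.ofHom (algebraMap W p.ResidueField)) ≫ (sp A W).hom) ⟶ sp A W)) :
    ∃ f, f ∉ p ∧ AgrAt χ χ' (Over.homMk (Spec.map (CommRingCat.ofHom (algebraMap W (Localization.Away f)))) rfl :
      Over.mk (Spec.map (CommRingCat.ofHom (algebraMap W (Localization.Away f))) ≫ (sp A W).hom) ⟶ sp A W) := by
  let q : Spec (CommRingCat.of W) ⟶ Spec (CommRingCat.of A) := (sp A W).hom
  let i := (Sga3B.TorusAlgClosed.dsBcIso q M).inv.hom.hom
  have hi : IsMonHom i := inferInstance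
  have hi' : IsIso i := inferInstanceAs (IsIso ((Grp.forget _).map (Sga3B.TorusAlgClosed.dsBcIso q M).inv))
  have h1 : IsMonHom (unfam χ) := isMonHom_unfam h
  have h2 : IsMonHom (unfam χ') := isMonHom_unfam h'
  rw [← eqz_unfam_iff] at hE
  rw [← cen_unfam_iff] at hc
  obtain ⟨f, hf, hE'⟩ := CentEq.exists_away (G := Red.bc q G) (i ≫ unfam χ) (i ≫ unfam χ') p
    (by simpa using hE.conj i (𝟙 _)) (Cen.pre hc i)
  refine ⟨f, hf, ?_⟩
  rw [← eqz_unfam_iff]
  exact Eqz.of_conj (asIso i).symm (Iso.refl _) (by simpa using hE')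

variable {R : Type u} [CommRing R] {M : Type} [AddCommGroup M] {G : Over (Spec (CommRingCat.of R))} [GrpObj G]

/-- **Central homomorphisms near a point**, groups of finite presentation. -/
theorem exists_away [LocallyOfFinitePresentation G.hom] [QuasiCompact G.hom] [QuasiSeparated G.hom] [AddGroup.FG M]
    (u v : Red.DS (Spec (CommRingCat.of R)) M ⟶ G) [IsMonHom u] [IsMonHom v] (p : Ideal R) [p.IsPrime]
    (hE : Eqz u v (Over.mk (Spec.map (CommRingCat.ofHom (algebraMap R p.ResidueField)))))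
    (hc : Cen u (Over.mk (Spec.map (CommRingCat.ofHom (algebraMap R p.ResidueField))))) :
    ∃ f, f ∉ p ∧ Eqz u v (Over.mk (Spec.map (CommRingCat.ofHom (algebraMap R (Localization.Away f))))) := by
  obtain ⟨R₀, G₀, _, hR₀, hG₁, hG₂, hG₃, ⟨e⟩⟩ := Sga3.H806.ApproxProp.exists_noetherian G
  let q₀ : Spec (CommRingCat.of R) ⟶ Spec (CommRingCat.of R₀) := Spec.map (CommRingCat.ofHom R₀.val.toRingHom)
  let Z := Red.DS (Spec (CommRingCat.of R₀)) M
  let d : Red.bc q₀ Z ⟶ Red.DS (Spec (CommRingCat.of R)) M := (Sga3B.TorusAlgClosed.dsBcIso q₀ M).hom.hom.hom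
  let ε : G ⟶ Red.bc q₀ G₀ := e.inv.hom.hom
  have hd : IsMonHom d := inferInstance
  have hd' : IsIso d := inferInstanceAs (IsIso ((Grp.forget _).map (Sga3B.TorusAlgClosed.dsBcIso q₀ M).hom))
  have hε : IsMonHom ε := inferInstance
  have hε' : IsIso ε := inferInstanceAs (IsIso ((Grp.forget _).map e.inv))
  let φ : Red.bc q₀ Z ⟶ Red.bc q₀ G₀ := d ≫ u ≫ ε
  let ψ : Red.bc q₀ Z ⟶ Red.bc q₀ G₀ := d ≫ v ≫ ε
  have hφ : IsMonHom φ := inferInstance
  have hψ : IsMonHom ψ := inferInstance
  let χ : Z ⊗ sp R₀ R ⟶ G₀ := fam φ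
  let χ' : Z ⊗ sp R₀ R ⟶ G₀ := fam ψ
  have hχ : AutFam.IsHomFamily Z G₀ χ := isHomFamily_fam φ
  have hχ' : AutFam.IsHomFamily Z G₀ χ' := isHomFamily_fam ψ
  have hZ : QuasiCompact Z.hom := inferInstanceAs (QuasiCompact (pullback.snd _ _))
  have hZ' : QuasiSeparated Z.hom := inferInstanceAs (QuasiSeparated (pullback.snd _ _))
  -- the families come from a noetherian parameter ring
  obtain ⟨W₁, _, _, b₁, ω₁, hW₁, hω₁, e₁⟩ := exists_finitePresentation χ hχ
  obtain ⟨W₂, _, _, b₂, ω₂, hW₂, hω₂, e₂⟩ := exists_finitePresentation χ' hχ'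
  let W := W₁ ⊗[R₀] W₂
  have hW : IsNoetherianRing W := by
    have h1 : Algebra.FiniteType ℤ R₀ := R₀.fg_iff_finiteType.mp hR₀
    have h2 : IsNoetherianRing R₀ := Algebra.FiniteType.isNoetherianRing ℤ R₀
    have h3 : Algebra.FiniteType W₁ W := Algebra.FiniteType.baseChange W₁
    have h4 : Algebra.FiniteType R₀ W := Algebra.FiniteType.trans (S := W₁) inferInstance h3
    exact Algebra.FiniteType.isNoetherianRing R₀ W
  let b : W →ₐ[R₀] R := Algebra.TensorProduct.lift b₁ b₂ (fun _ _ => Commute.all _ _)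
  let ω : Z ⊗ sp R₀ W ⟶ G₀ := Z ◁ spMap (Algebra.TensorProduct.includeLeft : W₁ →ₐ[R₀] W) ≫ ω₁
  let ω' : Z ⊗ sp R₀ W ⟶ G₀ := Z ◁ spMap (Algebra.TensorProduct.includeRight : W₂ →ₐ[R₀] W) ≫ ω₂
  have hω : AutFam.IsHomFamily Z G₀ ω := isHomFamily_whisker _ hω₁ _
  have hω' : AutFam.IsHomFamily Z G₀ ω' := isHomFamily_whisker _ hω₂ _
  have he : Z ◁ spMap b ≫ ω = χ := by
    change Z ◁ spMap b ≫ Z ◁ spMap _ ≫ ω₁ = χ
    rw [← whiskerLeft_comp_assoc, spMap_comp, Algebra.TensorProduct.lift_comp_includeLeft, e₁]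
  have he' : Z ◁ spMap b ≫ ω' = χ' := by
    change Z ◁ spMap b ≫ Z ◁ spMap _ ≫ ω₂ = χ'
    have h1 : b.comp Algebra.TensorProduct.includeRight = b₂ := by
      refine AlgHom.ext fun w => ?_
      exact (Algebra.TensorProduct.lift_tmul b₁ b₂ (fun _ _ => Commute.all _ _) 1 w).trans
        (by rw [map_one, _root_.one_mul])
    rw [← whiskerLeft_comp_assoc, spMap_comp, h1, e₂]
  let P : Ideal W := p.comap b
  have hP : P.IsPrime := inferInstance
  -- agreement and centrality at `P`
  let tp : Over.mk (Spec.map (CommRingCat.ofHom (algebraMap R p.ResidueField)) ≫ (sp R₀ R).hom) ⟶ sp R₀ R :=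
    Over.homMk (Spec.map (CommRingCat.ofHom (algebraMap R p.ResidueField))) rfl
  let tP : Over.mk (Spec.map (CommRingCat.ofHom (algebraMap W P.ResidueField)) ≫ (sp R₀ W).hom) ⟶ sp R₀ W :=
    Over.homMk (Spec.map (CommRingCat.ofHom (algebraMap W P.ResidueField))) rfl
  obtain ⟨β, hβ₀⟩ := exists_residue_hom b.toRingHom p P rfl
  have hβ : CommRingCat.ofHom (algebraMap W P.ResidueField) ≫ CommRingCat.ofHom β =
      CommRingCat.ofHom b.toRingHom ≫ CommRingCat.ofHom (algebraMap R p.ResidueField) :=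
    CommRingCat.hom_ext hβ₀
  let s : Over.mk (Spec.map (CommRingCat.ofHom (algebraMap R p.ResidueField)) ≫ (sp R₀ R).hom) ⟶
      Over.mk (Spec.map (CommRingCat.ofHom (algebraMap W P.ResidueField)) ≫ (sp R₀ W).hom) :=
    Over.homMk (Spec.map (CommRingCat.ofHom β)) (by
      change Spec.map (CommRingCat.ofHom β) ≫ Spec.map (CommRingCat.ofHom (algebraMap W P.ResidueField)) ≫ (sp R₀ W).hom =
        Spec.map (CommRingCat.ofHom (algebraMap R p.ResidueField)) ≫ (sp R₀ R).hom
      rw [← Spec.map_comp_assoc, hβ, Spec.map_comp_assoc]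
      congr 1
      exact Over.w (spMap b))
  have hs : s ≫ tP = tp ≫ spMap b := by
    ext1
    change Spec.map (CommRingCat.ofHom β) ≫ Spec.map (CommRingCat.ofHom (algebraMap W P.ResidueField)) =
      Spec.map (CommRingCat.ofHom (algebraMap R p.ResidueField)) ≫ Spec.map (CommRingCat.ofHom b.toRingHom)
    rw [← Spec.map_comp, hβ, Spec.map_comp]
  have hs1 : Flat s.left := by
    change Flat (Spec.map (CommRingCat.ofHom β))
    rw [Flat.SpecMap_iff]
    let _ : Algebra P.ResidueField p.ResidueField := β.toAlgebra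
    change Module.Flat P.ResidueField p.ResidueField
    infer_instance
  have hs2 : Surjective s.left := by
    have h1 : Subsingleton (Spec (CommRingCat.of P.ResidueField)) :=
      inferInstanceAs (Subsingleton (PrimeSpectrum P.ResidueField))
    have h2 : Nonempty (Spec (CommRingCat.of p.ResidueField)) :=
      inferInstanceAs (Nonempty (PrimeSpectrum p.ResidueField))
    exact ⟨fun y => ⟨h2.some, h1.elim _ _⟩⟩
  have hE1 : AgrAt χ χ' tp := by
    rw [← eqz_unfam_iff]
    change Eqz (unfam (T := Over.mk q₀) (fam φ)) (unfam (T := Over.mk q₀) (fam ψ)) (Over.mk tp.left)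
    rw [unfam_fam, unfam_fam]
    exact hE.conj d ε
  have hc1 : CenAt χ tp := by
    rw [← cen_unfam_iff]
    change Cen (G := Red.bc q₀ G₀) (unfam (T := Over.mk q₀) (fam φ)) (Over.mk tp.left)
    rw [unfam_fam]
    exact Cen.pre (Cen.post hc ε) d
  rw [← he, ← he', agrAt_whisker, ← hs] at hE1
  rw [← he, cenAt_whisker, ← hs] at hc1
  obtain ⟨f, hf, hff⟩ := exists_away_fam ω ω' hω hω' P (AgrAt.of_surjective s hE1) (CenAt.of_surjective s hc1)
  refine ⟨b f, hf, ?_⟩
  let tf : Over.mk (Spec.map (CommRingCat.ofHom (algebraMap W (Localization.Away f))) ≫ (sp R₀ W).hom) ⟶ sp R₀ W :=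
    Over.homMk (Spec.map (CommRingCat.ofHom (algebraMap W (Localization.Away f)))) rfl
  let tb : Over.mk (Spec.map (CommRingCat.ofHom (algebraMap R (Localization.Away (b f)))) ≫ (sp R₀ R).hom) ⟶
      sp R₀ R :=
    Over.homMk (Spec.map (CommRingCat.ofHom (algebraMap R (Localization.Away (b f))))) rfl
  obtain ⟨γ, hγ₀⟩ := exists_away_hom b.toRingHom f
  have hγ : CommRingCat.ofHom (algebraMap W (Localization.Away f)) ≫ CommRingCat.ofHom γ =
      CommRingCat.ofHom b.toRingHom ≫ CommRingCat.ofHom (algebraMap R (Localization.Away (b f))) :=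
    CommRingCat.hom_ext hγ₀
  let r : Over.mk (Spec.map (CommRingCat.ofHom (algebraMap R (Localization.Away (b f)))) ≫ (sp R₀ R).hom) ⟶
      Over.mk (Spec.map (CommRingCat.ofHom (algebraMap W (Localization.Away f))) ≫ (sp R₀ W).hom) :=
    Over.homMk (Spec.map (CommRingCat.ofHom γ)) (by
      change Spec.map (CommRingCat.ofHom γ) ≫ Spec.map (CommRingCat.ofHom (algebraMap W (Localization.Away f))) ≫ (sp R₀ W).hom =
        Spec.map (CommRingCat.ofHom (algebraMap R (Localization.Away (b f)))) ≫ (sp R₀ R).hom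
      rw [← Spec.map_comp_assoc, hγ, Spec.map_comp_assoc]
      congr 1
      exact Over.w (spMap b))
  have hr : r ≫ tf = tb ≫ spMap b := by
    ext1
    change Spec.map (CommRingCat.ofHom γ) ≫ Spec.map (CommRingCat.ofHom (algebraMap W (Localization.Away f))) =
      Spec.map (CommRingCat.ofHom (algebraMap R (Localization.Away (b f)))) ≫ Spec.map (CommRingCat.ofHom b.toRingHom)
    rw [← Spec.map_comp, hγ, Spec.map_comp]
  have h1 : AgrAt χ χ' tb := by
    rw [← he, ← he', agrAt_whisker, ← hr]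
    exact AgrAt.comp hff r
  rw [← eqz_unfam_iff] at h1
  change Eqz (unfam (T := Over.mk q₀) (fam φ)) (unfam (T := Over.mk q₀) (fam ψ)) (Over.mk tb.left) at h1
  rw [unfam_fam, unfam_fam] at h1
  refine Eqz.of_conj (asIso d).symm (asIso ε) ?_
  exact h1

end K12.CentApprox
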