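import Groth.Agent.SGA3x.K12.SecDim
import Groth.Agent.TopDim.K284.Basic
import Mathlib.AlgebraicGeometry.Morphisms.FinitePresentation

/-!
# The dimension of the closure of a family of sections in the fibres

`dim_le`: for a morphism `f : Y ⟶ S` locally of finite type, a family of sections and a specialization `s₁ ⤳ s₀` the
dimension of the closure of the family in the fibre at `s₀` is at most the dimension at `s₁`.
-/

set_option autoImplicit false
universe u

open CategoryTheory AlgebraicGeometry Topology TopologicalSpace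

namespace K12.SecDimGeo

open SecDim

lemma comap_pnt {R A : Type u} [CommRing R] [CommRing A] [Algebra R A] {p : PrimeSpectrum R}
    (α : A →ₐ[R] p.asIdeal.ResidueField) :
    PrimeSpectrum.comap (algebraMap R A) (pnt (α : A →+* p.asIdeal.ResidueField)) = p := by
  apply PrimeSpectrum.ext
  ext x
  change α (algebraMap R A x) = 0 ↔ _
  rw [α.commutes, Ideal.algebraMap_residueField_eq_zero]

variable {S Y : Scheme.{u}} (f : Y ⟶ S) {I : Type*} (a : I → (S ⟶ Y))

/-- The closure of a family of sections in a fibre. -/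
def C (s : S) : Set Y := f.base ⁻¹' {s} ∩ closure (Set.range fun i => (a i).base s)

/-- The sections through a chart: homomorphisms of algebras. -/
theorem exists_algHom {R B A : Type u} [CommRing R] [CommRing B] [Algebra R B] [CommRing A] [Algebra R A]
    [IsLocalRing A] (eV : Spec (CommRingCat.of R) ⟶ S) [IsOpenImmersion eV]
    (eU : Spec (CommRingCat.of B) ⟶ Y) [IsOpenImmersion eU]
    (hcomm : eU ≫ f = Spec.map (CommRingCat.ofHom (algebraMap R B)) ≫ eV) (b : S ⟶ Y) (hb : b ≫ f = 𝟙 S)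
    (h : (Spec.map (CommRingCat.ofHom (algebraMap R A)) ≫ eV ≫ b) (IsLocalRing.closedPoint A) ∈ Set.range eU) :
    ∃ φ : B →ₐ[R] A, Spec.map (CommRingCat.ofHom (φ : B →+* A)) ≫ eU =
      Spec.map (CommRingCat.ofHom (algebraMap R A)) ≫ eV ≫ b := by
  let τ : Spec (CommRingCat.of A) ⟶ Y := Spec.map (CommRingCat.ofHom (algebraMap R A)) ≫ eV ≫ b
  have hr : Set.range τ ⊆ Set.range eU := by
    rintro _ ⟨z, rfl⟩
    have h1 : z ⤳ IsLocalRing.closedPoint A := IsLocalRing.specializes_closedPoint z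
    exact (h1.map τ.continuous).mem_open eU.isOpenEmbedding.isOpen_range h
  obtain ⟨ρ, hρ⟩ := Spec.map_surjective (IsOpenImmersion.lift eU τ hr)
  have h1 : Spec.map ρ ≫ eU = τ := by
    rw [hρ, IsOpenImmersion.lift_fac]
  have h2 : CommRingCat.ofHom (algebraMap R B) ≫ ρ = CommRingCat.ofHom (algebraMap R A) := by
    apply Spec.map_injective
    rw [← cancel_mono eV, Spec.map_comp, Category.assoc, ← hcomm, ← Category.assoc, h1]
    simp only [τ, Category.assoc, hb, Category.comp_id]
  exact ⟨{ toRingHom := ρ.hom, commutes' := fun r => congr(($h2).hom r) }, h1⟩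

variable (ha : ∀ i, a i ≫ f = 𝟙 S)

include ha in
/-- The comparison over a chart. -/
theorem chart {s₀ s₁ : S} (h : s₁ ⤳ s₀) {R B : Type u} [CommRing R] [CommRing B] [Algebra R B]
    [Algebra.FiniteType R B] (eV : Spec (CommRingCat.of R) ⟶ S) [IsOpenImmersion eV]
    (eU : Spec (CommRingCat.of B) ⟶ Y) [IsOpenImmersion eU]
    (hcomm : eU ≫ f = Spec.map (CommRingCat.ofHom (algebraMap R B)) ≫ eV) (p₀ : PrimeSpectrum R)
    (hp₀ : eV p₀ = s₀) :
    topologicalKrullDim ↥{y : ↥(C f a s₀) | y.1 ∈ Set.range eU} ≤ topologicalKrullDim ↥(C f a s₁) := by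
  classical
  -- the point `p₁`
  obtain ⟨p₁, hp₁⟩ : s₁ ∈ Set.range eV := by
    have h1 : s₀ ∈ Set.range eV := ⟨p₀, hp₀⟩
    exact h.mem_open eV.isOpenEmbedding.isOpen_range h1
  have hle : p₁.asIdeal ≤ p₀.asIdeal := by
    rw [PrimeSpectrum.asIdeal_le_asIdeal, PrimeSpectrum.le_iff_specializes]
    rw [← hp₀, ← hp₁] at h
    exact eV.isOpenEmbedding.isInducing.specializes_iff.1 h
  let A := Localization.AtPrime p₀.asIdeal
  let α₀ : A →ₐ[R] p₀.asIdeal.ResidueField := IsScalarTower.toAlgHom R A p₀.asIdeal.ResidueField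
  let α₁ : A →ₐ[R] p₁.asIdeal.ResidueField :=
    IsLocalization.liftAlgHom (M := p₀.asIdeal.primeCompl) (f := Algebra.ofId R _) fun r => by
      rw [isUnit_iff_ne_zero, Ne, Algebra.ofId_apply, Ideal.algebraMap_residueField_eq_zero]
      exact fun hr => r.2 (hle hr)
  let τ : Spec (CommRingCat.of A) ⟶ S := Spec.map (CommRingCat.ofHom (algebraMap R A)) ≫ eV
  -- the points of `Spec A`
  have hτ : ∀ (p : PrimeSpectrum R) (α : A →ₐ[R] p.asIdeal.ResidueField),
      τ (pnt (α : A →+* p.asIdeal.ResidueField)) = eV p := by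
    intro p α
    change (Spec.map (CommRingCat.ofHom (algebraMap R A)) ≫ eV) _ = _
    rw [Scheme.Hom.comp_apply]
    exact congrArg eV (comap_pnt α)
  have hcl : τ (IsLocalRing.closedPoint A) = s₀ := by
    rw [← hp₀, ← hτ p₀ α₀]
    congr 1
    apply PrimeSpectrum.ext
    exact (IsLocalRing.ker_residue (R := A)).symm
  -- the sections through the chart
  let I' := {i : I // (a i).base s₀ ∈ Set.range eU}
  have hφ : ∀ i : I', ∃ φ : B →ₐ[R] A, Spec.map (CommRingCat.ofHom (φ : B →+* A)) ≫ eU = τ ≫ a i := by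
    intro i
    obtain ⟨φ, hφ⟩ := exists_algHom f (A := A) eV eU hcomm (a i) (ha i) (by
      rw [← Category.assoc, Scheme.Hom.comp_apply]
      change (a i) (τ (IsLocalRing.closedPoint A)) ∈ _
      rw [hcl]
      exact i.2)
    exact ⟨φ, by rw [hφ, Category.assoc]⟩
  choose φ hφ using hφ
  have key : ∀ (i : I') (p : PrimeSpectrum R) (α : A →ₐ[R] p.asIdeal.ResidueField),
      eU (pnt ((α.comp (φ i) : B →ₐ[R] p.asIdeal.ResidueField) : B →+* p.asIdeal.ResidueField)) = (a i) (eV p) := by
    intro i p α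
    rw [← hτ p α, ← Scheme.Hom.comp_apply, ← hφ i, Scheme.Hom.comp_apply]
    rfl
  have hfib : ∀ z : Spec (CommRingCat.of B), f (eU z) = eV (PrimeSpectrum.comap (algebraMap R B) z) := by
    intro z
    rw [← Scheme.Hom.comp_apply, hcomm, Scheme.Hom.comp_apply]
    rfl
  refine le_trans ?_ ((dim_le p₀ p₁ φ α₁).trans ?_)
  · -- the chart embeds in the affine closure
    have h1 : ∀ y : {y : ↥(C f a s₀) | y.1 ∈ Set.range eU}, ∃ z : ↥(cl p₀ fun i => α₀.comp (φ i)), eU z.1 = y.1.1 := by
      rintro ⟨⟨y, hy, hy'⟩, z, hz⟩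
      have hz' : eU z = y := hz
      refine ⟨⟨z, ?_, ?_⟩, hz⟩
      · have h2 : f (eU z) = s₀ := by rw [hz']; exact hy
        rw [hfib, ← hp₀] at h2
        exact eV.isOpenEmbedding.injective h2
      · rw [← hz'] at hy'
        have h3 := eU.isOpenEmbedding.isOpen_range.inter_closure ⟨⟨z, rfl⟩, hy'⟩
        have h5 : ∀ T : Set (Spec (CommRingCat.of B)), eU z ∈ closure (eU '' T) → z ∈ closure T := fun T hT => by
          rw [eU.isOpenEmbedding.isInducing.closure_eq_preimage_closure_image]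
          exact hT
        refine h5 _ (closure_mono ?_ h3)
        rintro _ ⟨hw, i, rfl⟩
        refine ⟨_, ⟨⟨i, hw⟩, rfl⟩, ?_⟩
        change eU (pnt ((α₀.comp (φ ⟨i, hw⟩) : B →ₐ[R] p₀.asIdeal.ResidueField) : B →+* p₀.asIdeal.ResidueField)) = _
        rw [key, hp₀]
    choose m hm using h1
    have h2 : IsInducing m := by
      have h3 : IsInducing (fun z : ↥(cl p₀ fun i => α₀.comp (φ i)) => eU z.1) :=
        eU.isOpenEmbedding.isInducing.comp IsInducing.subtypeVal
      rw [← h3.of_comp_iff]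
      have h4 : (fun z : ↥(cl p₀ fun i => α₀.comp (φ i)) => eU z.1) ∘ m = fun y => y.1.1 := funext hm
      rw [h4]
      exact IsInducing.subtypeVal.comp IsInducing.subtypeVal
    exact h2.topologicalKrullDim_le
  · -- the affine closure embeds in the closure
    let m : ↥(cl p₁ fun i => α₁.comp (φ i)) → ↥(C f a s₁) := fun z => ⟨eU z.1, by
      refine ⟨?_, ?_⟩
      · change f (eU z.1) = s₁
        rw [hfib, ← hp₁]
        exact congrArg eV z.2.1
      · refine closure_mono ?_ (image_closure_subset_closure_image eU.continuous ⟨z.1, z.2.2, rfl⟩)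
        rintro _ ⟨_, ⟨i, rfl⟩, rfl⟩
        refine ⟨i.1, ?_⟩
        change (a i.1) s₁ = eU _
        rw [key, hp₁]⟩
    have h2 : IsInducing m := by
      rw [← IsInducing.subtypeVal.of_comp_iff]
      exact eU.isOpenEmbedding.isInducing.comp IsInducing.subtypeVal
    exact h2.topologicalKrullDim_le

include ha in
/-- **The dimension of the closure of a family of sections does not drop under generization.** -/
theorem dim_le [LocallyOfFiniteType f] {s₀ s₁ : S} (h : s₁ ⤳ s₀) :
    topologicalKrullDim ↥(C f a s₀) ≤ topologicalKrullDim ↥(C f a s₁) := by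
  rw [K284.TopDim.dim_eq_iSup_localDim]
  refine iSup_le fun x => ?_
  obtain ⟨V, hV, hs₀V, -⟩ := exists_isAffineOpen_mem_and_subset (X := S) (x := s₀) (U := ⊤) trivial
  have hx : f x.1 = s₀ := x.2.1
  obtain ⟨U, hU, hxU, hUV⟩ := exists_isAffineOpen_mem_and_subset (X := Y) (x := x.1) (U := f ⁻¹ᵁ V) (by
    change f x.1 ∈ V
    rw [hx]
    exact hs₀V)
  let _ : Algebra Γ(S, V) Γ(Y, U) := (f.appLE V U hUV).hom.toAlgebra
  have hft : Algebra.FiniteType Γ(S, V) Γ(Y, U) := f.finiteType_appLE hV hU hUV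
  have h1 := chart f a ha h (R := Γ(S, V)) (B := Γ(Y, U)) hV.fromSpec hU.fromSpec
    (IsAffineOpen.SpecMap_appLE_fromSpec f hV hU hUV).symm (hV.primeIdealOf ⟨s₀, hs₀V⟩) (hV.fromSpec_primeIdealOf _)
  refine le_trans ?_ h1
  let W : Opens ↥(C f a s₀) := ⟨{y | y.1 ∈ Set.range hU.fromSpec},
    hU.fromSpec.isOpenEmbedding.isOpen_range.preimage continuous_subtype_val⟩
  refine K284.TopDim.localDim_le x W ?_
  change x.1 ∈ Set.range hU.fromSpec
  rw [hU.range_fromSpec]
  exact hxU

end K12.SecDimGeo
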