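import Groth.Agent.SGA3x.K12.TrivKer
import Groth.Agent.Sga3.H827.KerData
import Groth.Agent.SGA3x.K10.MTLoc

/-!
# Neighbourhoods on which a homomorphism from a group of multiplicative type is a monomorphism

`H` of multiplicative type and of finite type, `G` separated over `S`, and `S` locally noetherian or `G` locally of
finite presentation.

* `exists_local`: the kernel of `D(M) ⟶ G` is Zariski-locally on an affine base the kernel of `D(M) ⟶ D(N)`;
* `exists_away`: if the kernel is trivial at a point then it is trivial in a neighbourhood;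
* `exists_nhd_mono`: a homomorphism `H ⟶ G` which is a monomorphism at a point is a monomorphism nearby.
-/

set_option autoImplicit false
universe u
open CategoryTheory MonoidalCategory CartesianMonoidalCategory MonObj GrpObj AlgebraicGeometry Limits

namespace K12.MonoNhd

open Groth.Agent Groth.Agent.Sga3.H827 Groth.Agent.Sga3B.DSPts Groth.Agent.Sga3B.InfConj
  Groth.Agent.Sga3B.InfConjFam KerAlg1 KerAlg4 KerPts KerLoc TrivKer

section ideal

variable {C : Type u} [CommRing C] {A : Type u} [CommRing A] [Algebra C A]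

/-- **Equalizer ideal**, without finiteness. -/
theorem exists_ideal {G : Over (Spec (CommRingCat.of C))} [IsSeparated G.hom] (a b : pt C A ⟶ G) :
    ∃ J : Ideal A, ∀ (T : Over (Spec (CommRingCat.of C))) (t : T ⟶ pt C A),
      t ≫ a = t ≫ b ↔ ∀ j ∈ J, gl t j = 0 := by
  obtain ⟨Z, z, hz, hZ, -⟩ := Sga3.H797.HomFin.exists_eq a b
  obtain ⟨I, e, he⟩ := (IsClosedImmersion.Spec_iff (R := CommRingCat.of A) (f := z.left)).1 hz
  refine ⟨I, fun T t => ?_⟩
  rw [← hZ]
  constructor
  · rintro ⟨t', rfl⟩ j hj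
    have h1 : gl (t' ≫ z) = ((CommRingCat.ofHom (Ideal.Quotient.mk I)) ≫
        (Scheme.ΓSpecIso (CommRingCat.of (A ⧸ I))).inv ≫ (t'.left ≫ e.hom).appTop).hom := by
      unfold gl
      congr 1
      rw [Over.comp_left, he, ← Category.assoc t'.left, Scheme.Hom.comp_appTop (t'.left ≫ e.hom),
        ← Scheme.ΓSpecIso_inv_naturality_assoc]
    rw [h1]
    change ((Scheme.ΓSpecIso (CommRingCat.of (A ⧸ I))).inv ≫ (t'.left ≫ e.hom).appTop).hom (Ideal.Quotient.mk I j) = 0
    rw [Ideal.Quotient.eq_zero_iff_mem.2 hj, map_zero]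
  · intro h
    let ρ : A ⧸ I →+* Γ(T.left, ⊤) := Ideal.Quotient.lift I (gl t) h
    have h1 : (T.left.toSpecΓ ≫ Spec.map (CommRingCat.ofHom ρ) ≫ e.inv) ≫ z.left = t.left := by
      rw [he, Category.assoc, Category.assoc, Iso.inv_hom_id_assoc, ← Spec.map_comp, ← toSpecΓ_gl t,
        ← CommRingCat.ofHom_comp]
      rfl
    refine ⟨Over.homMk (T.left.toSpecΓ ≫ Spec.map (CommRingCat.ofHom ρ) ≫ e.inv) ?_, ?_⟩
    · rw [← Over.w z, ← Category.assoc, h1, Over.w]
    · ext1
      exact h1

end ideal

variable {C : Type u} [CommRing C] {M : Type} [AddCommGroup M]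
  {G : Over (Spec (CommRingCat.of C))} [GrpObj G] (h : Red.DS (Spec (CommRingCat.of C)) M ⟶ G)

theorem exists_kerIdeal [IsSeparated G.hom] :
    ∃ J : Ideal (MonoidAlgebra C (Multiplicative M)), IsIdealOf h J := by
  obtain ⟨J, h1⟩ := exists_ideal (univPt C M ≫ h) 1
  refine ⟨J, fun T x => ?_⟩
  obtain ⟨t, rfl⟩ := exists_eq_comp_charPt x
  rw [Category.assoc]
  have h2 := h1 T t
  rw [comp_one] at h2
  rw [h2]
  refine forall₂_congr fun j _ => ?_
  rw [gl_single]

theorem exists_kerIdeal_fg [IsSeparated G.hom] [AddGroup.FG M]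
    (hC : IsNoetherianRing C ∨ LocallyOfFinitePresentation G.hom) :
    ∃ J : Ideal (MonoidAlgebra C (Multiplicative M)), J.FG ∧ IsIdealOf h J := by
  obtain hC | hC := hC
  · obtain ⟨J, hJ⟩ := exists_kerIdeal h
    have h0 : Monoid.FG (Multiplicative M) := by
      have h1 : Group.FG (Multiplicative M) := inferInstance
      exact Monoid.fg_of_group_fg
    have h1 : IsNoetherianRing (MonoidAlgebra C (Multiplicative M)) :=
      Algebra.FiniteType.isNoetherianRing C _
    exact ⟨J, IsNoetherian.noetherian J, hJ⟩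
  · exact KerLoc.exists_kerIdeal h

/-- The kernel of `D(M) ⟶ G` is Zariski-locally diagonalisable. -/
theorem exists_local [IsMonHom h] [AddGroup.FG M] [IsSeparated G.hom]
    (hC : IsNoetherianRing C ∨ LocallyOfFinitePresentation G.hom) (p : Ideal C) [p.IsPrime] :
    ∃ f, f ∉ p ∧ ∃ N : AddSubgroup M, ∀ (T : Over (Spec (CommRingCat.of C))),
      (letI := algT T; IsUnit (algebraMap C Γ(T.left, ⊤) f)) → ∀ x : T ⟶ Red.DS (Spec (CommRingCat.of C)) M,
        x ≫ h = 1 ↔ ∀ n ∈ N, dsChar x (Multiplicative.ofAdd n) = 1 := by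
  obtain ⟨J, hfg, hJ⟩ := exists_kerIdeal_fg h hC
  have : Group.FG (Multiplicative M) := inferInstance
  obtain ⟨f, hf, N, hN⟩ := KerAlg4.exists_local hfg (isKer hJ) (isRig hJ) p
  refine ⟨f, hf, Subgroup.toAddSubgroup' N, fun T hT x => ?_⟩
  let _ := algT T
  exact (hJ T x).trans (hN Γ(T.left, ⊤) hT (dsChar x))

lemma isUnit_pt {E : Type u} [CommRing E] [Algebra C E] {f : C} (hf : IsUnit (algebraMap C E f)) :
    letI := algT (pt C E); IsUnit (algebraMap C Γ((pt C E).left, ⊤) f) := by
  have h1 := Scheme.ΓSpecIso_inv_naturality (CommRingCat.ofHom (algebraMap C E))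
  change IsUnit (((Scheme.ΓSpecIso (CommRingCat.of C)).inv ≫
    (Spec.map (CommRingCat.ofHom (algebraMap C E))).appTop).hom f)
  rw [← h1]
  exact hf.map (Scheme.ΓSpecIso (CommRingCat.of E)).inv.hom

lemma isUnit_away {f : C} {T : Over (Spec (CommRingCat.of C))}
    (t : T.left ⟶ Spec (CommRingCat.of (Localization.Away f)))
    (ht : t ≫ Spec.map (CommRingCat.ofHom (algebraMap C (Localization.Away f))) = T.hom) :
    letI := algT T; IsUnit (algebraMap C Γ(T.left, ⊤) f) := by
  have h1 := Scheme.ΓSpecIso_inv_naturality (CommRingCat.ofHom (algebraMap C (Localization.Away f)))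
  have h2 : ((Scheme.ΓSpecIso (CommRingCat.of C)).inv ≫ T.hom.appTop).hom f =
      ((Scheme.ΓSpecIso (CommRingCat.of (Localization.Away f))).inv ≫ t.appTop).hom (algebraMap C (Localization.Away f) f) := by
    rw [← ht, Scheme.Hom.comp_appTop]
    exact congr(($h1 ≫ t.appTop).hom f).symm
  change IsUnit (((Scheme.ΓSpecIso (CommRingCat.of C)).inv ≫ T.hom.appTop).hom f)
  rw [h2]
  exact (IsLocalization.Away.algebraMap_isUnit f).map _

lemma charPt_injective {E : Type u} [CommRing E] [Algebra C E] :
    Function.Injective (charPt (C := C) (M := M) (E := E)) := by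
  intro χ χ' hχ
  have h1 := (dsEquiv (pt C E) M).injective hχ
  ext m
  exact gPt_injective C E (DFunLike.congr_fun h1 m)

lemma charPt_one {E : Type u} [CommRing E] [Algebra C E] : charPt (C := C) (1 : Multiplicative M →* E) = 1 := by
  unfold charPt
  rw [MonoidHom.comp_one]
  exact map_one (dsEquiv (pt C E) M)

/-- **A kernel which is trivial at a point is trivial nearby.** -/
theorem exists_away [IsMonHom h] [AddGroup.FG M] [IsSeparated G.hom]
    (hC : IsNoetherianRing C ∨ LocallyOfFinitePresentation G.hom) (p : Ideal C) [p.IsPrime]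
    (hp : TrivOver (Spec.map (CommRingCat.ofHom (algebraMap C p.ResidueField))) h) :
    ∃ f, f ∉ p ∧ TrivOver (Spec.map (CommRingCat.ofHom (algebraMap C (Localization.Away f)))) h := by
  obtain ⟨f, hf, N, hN⟩ := exists_local h hC p
  have hN' : ∀ m : M, m ∈ N := by
    intro m
    let κ := p.ResidueField
    let χ : Multiplicative M →* MonoidAlgebra κ (Multiplicative (M ⧸ N)) :=
      (MonoidAlgebra.of κ (Multiplicative (M ⧸ N))).comp (AddMonoidHom.toMultiplicative (QuotientAddGroup.mk' N))
    have hu : IsUnit (algebraMap C (MonoidAlgebra κ (Multiplicative (M ⧸ N))) f) := by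
      rw [IsScalarTower.algebraMap_apply C κ]
      refine IsUnit.map _ (isUnit_iff_ne_zero.mpr ?_)
      rwa [Ne, Ideal.algebraMap_residueField_eq_zero]
    have h1 : charPt (C := C) χ ≫ h = 1 := by
      rw [hN _ (isUnit_pt hu)]
      intro n hn
      change dsChar (dsEquiv _ M _) _ = _
      rw [dsChar_dsEquiv]
      change gPt C _ (χ (Multiplicative.ofAdd n)) = 1
      have h2 : χ (Multiplicative.ofAdd n) = MonoidAlgebra.of κ (Multiplicative (M ⧸ N))
        (Multiplicative.ofAdd (QuotientAddGroup.mk' N n)) := rfl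
      have h3 : QuotientAddGroup.mk' N n = 0 := (QuotientAddGroup.eq_zero_iff n).mpr hn
      rw [h2, h3, ofAdd_zero, map_one, map_one]
    have h2 := hp _ (Spec.map (CommRingCat.ofHom (algebraMap κ (MonoidAlgebra κ (Multiplicative (M ⧸ N)))))) (by
      rw [← Spec.map_comp, ← CommRingCat.ofHom_comp, ← IsScalarTower.algebraMap_eq]
      rfl) _ h1
    have h3 : χ = 1 := charPt_injective (C := C) (h2.trans charPt_one.symm)
    have h4 : MonoidAlgebra.of κ (Multiplicative (M ⧸ N)) (Multiplicative.ofAdd (QuotientAddGroup.mk' N m)) =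
      MonoidAlgebra.of κ (Multiplicative (M ⧸ N)) 1 := (DFunLike.congr_fun h3 (Multiplicative.ofAdd m)).trans (map_one _).symm
    have h5 := MonoidAlgebra.of_injective h4
    exact (QuotientAddGroup.eq_zero_iff m).mp (congrArg Multiplicative.toAdd h5)
  refine ⟨f, hf, fun T t ht x hx => ?_⟩
  have h1 := (hN T (isUnit_away t ht) x).1 hx
  apply (dsEquiv T M).symm.injective
  rw [map_one]
  change dsChar x = 1
  refine MonoidHom.ext fun m => ?_
  exact h1 m.toAdd (hN' _)

section glob

variable {S : Scheme.{u}} {H G : Over S} [GrpObj H] [GrpObj G]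

/-- **Neighbourhoods on which a homomorphism from a group of multiplicative type is a monomorphism.** -/
theorem exists_nhd (hH : SGA3x.IsMultTypeFT H) [IsSeparated G.hom]
    (hG : IsLocallyNoetherian S ∨ LocallyOfFinitePresentation G.hom) (u : H ⟶ G) [IsMonHom u] (s : S)
    (hs : TrivOver (S.fromSpecResidueField s) u) : ∃ U : S.Opens, s ∈ U ∧ TrivOver U.ι u := by
  obtain ⟨B, _, v, M, _, hv, ⟨y, rfl⟩, hM, ⟨e⟩⟩ := K10.MTLoc.exists_etale_split hH s
  have : AddGroup.FG M := hM
  let i : Red.DS (Spec (CommRingCat.of B)) M ⟶ Red.bc v H := e.inv.hom.hom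
  have hi : IsMonHom i := inferInstanceAs (IsMonHom e.inv.hom.hom)
  have hi' : IsIso i := inferInstanceAs (IsIso ((Grp.forget _).map e.inv))
  let φ : Red.DS (Spec (CommRingCat.of B)) M ⟶ Red.bc v G := i ≫ (Over.pullback v).map u
  have hφ : IsMonHom φ := inferInstance
  have h1 : IsSeparated (Red.bc v G).hom := inferInstanceAs (IsSeparated (pullback.snd _ _))
  have h2 : IsNoetherianRing B ∨ LocallyOfFinitePresentation (Red.bc v G).hom := by
    obtain hG | hG := hG
    · left
      have h3 : IsLocallyNoetherian (Spec (CommRingCat.of B)) := LocallyOfFiniteType.isLocallyNoetherian v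
      exact isLocallyNoetherian_Spec.mp h3
    · right
      exact inferInstanceAs (LocallyOfFinitePresentation (pullback.snd _ _))
  have h3 : TrivOver (Spec.map (CommRingCat.ofHom (algebraMap B y.asIdeal.ResidueField))) φ := by
    apply TrivOver.iso_comp
    rw [trivOver_bc_iff]
    have h4 : Spec.map (CommRingCat.ofHom (algebraMap B y.asIdeal.ResidueField)) ≫ v =
        (Spec.map (Scheme.Spec.residueFieldIso (.of B) y).hom ≫ Spec.map (v.residueFieldMap y)) ≫
          S.fromSpecResidueField (v y) := by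
      rw [Category.assoc, Scheme.Hom.SpecMap_residueFieldMap_fromSpecResidueField,
        ← Scheme.Spec.map_residueFieldIso_inv_eq_fromSpecResidueField, Category.assoc, ← Spec.map_comp_assoc,
        Iso.inv_hom_id, Spec.map_id, Category.id_comp]
    rw [h4]
    exact hs.comp _
  obtain ⟨f, hf, hφf⟩ := exists_away φ h2 y.asIdeal h3
  have h4 := (trivOver_bc_iff v _ u).1 (TrivOver.of_iso_comp i hφf)
  let w : Spec (CommRingCat.of (Localization.Away f)) ⟶ S :=
    Spec.map (CommRingCat.ofHom (algebraMap B (Localization.Away f))) ≫ v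
  have h5 : Etale w := inferInstance
  refine ⟨⟨Set.range w, w.isOpenMap.isOpen_range⟩, ?_, ?_⟩
  · obtain ⟨z, hz⟩ : y ∈ Set.range (Spec.map (CommRingCat.ofHom (algebraMap B (Localization.Away f)))) := by
      change y ∈ Set.range (PrimeSpectrum.comap (algebraMap B (Localization.Away f)))
      rw [PrimeSpectrum.localization_away_comap_range (Localization.Away f) f]
      exact hf
    exact ⟨z, by rw [Scheme.Hom.comp_apply, hz]⟩
  · refine TrivOver.of_range w ?_ h4
    rw [Scheme.Opens.range_ι]
    rfl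

end glob

end K12.MonoNhd
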