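import Groth.Prelude.Def_SGA3x
import Mathlib.CategoryTheory.Monoidal.Cartesian.Mon
import Mathlib.CategoryTheory.Monoidal.Cartesian.Grp

/-!
# The kernel of the `n`-th power map, on points
-/

set_option autoImplicit false
set_option maxHeartbeats 400000
universe u

open CategoryTheory MonoidalCategory CartesianMonoidalCategory MonObj GrpObj AlgebraicGeometry Limits

namespace K12.DensePow

variable {S : Scheme.{u}} (H : Over S) [GrpObj H]

/-- The kernel of the `n`-th power map, mapping to `H`. -/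
noncomputable abbrev z (n : ℕ) : pullback η[H].left (𝟙 H ^ n : H ⟶ H).left ⟶ H.left :=
  pullback.snd η[H].left (𝟙 H ^ n : H ⟶ H).left

variable {H}

theorem pow_eq_one_iff {X : Over S} (h : X ⟶ H) (n : ℕ) :
    h ^ n = 1 ↔ ∃ l : X.left ⟶ pullback η[H].left (𝟙 H ^ n : H ⟶ H).left, l ≫ z H n = h.left := by
  have e0 : h ≫ (𝟙 H ^ n) = h ^ n := by rw [MonObj.comp_pow, Category.comp_id]
  have e1 : (1 : X ⟶ H) = toUnit X ≫ η := rfl
  constructor
  · intro hn
    refine ⟨pullback.lift (toUnit X).left h.left ?_, pullback.lift_snd _ _ _⟩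
    rw [← Over.comp_left, ← Over.comp_left, e0, hn, e1]
  · rintro ⟨l, hl⟩
    rw [← e0, e1]
    ext1
    rw [Over.comp_left, Over.comp_left, ← hl, Category.assoc, ← pullback.condition, ← Category.assoc]
    congr 1
    have h1 : ∀ {A : Scheme.{u}} (a : A ⟶ (𝟙_ (Over S)).left), a = a ≫ (𝟙_ (Over S)).hom := fun a =>
      (Category.comp_id _).symm
    have h2 : η[H].left ≫ H.hom = (𝟙_ (Over S)).hom := Over.w _
    have h3 : (𝟙 H ^ n : H ⟶ H).left ≫ H.hom = H.hom := Over.w _
    have h4 : (toUnit X).left ≫ (𝟙_ (Over S)).hom = X.hom := Over.w _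
    rw [h1 (l ≫ _), h1 (toUnit X).left, h4, ← h2, Category.assoc, ← Category.assoc (pullback.fst _ _),
      pullback.condition, Category.assoc, h3, ← Category.assoc, hl]
    exact Over.w h

theorem exists_factor (n m : ℕ) : ∃ a : pullback η[H].left (𝟙 H ^ n : H ⟶ H).left ⟶
    pullback η[H].left (𝟙 H ^ (n * m) : H ⟶ H).left, a ≫ z H (n * m) = z H n := by
  let X : Over S := Over.mk (z H n ≫ H.hom)
  let ζ : X ⟶ H := Over.homMk (z H n) rfl
  have h1 : ζ ^ n = 1 := (pow_eq_one_iff ζ n).2 ⟨𝟙 _, Category.id_comp _⟩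
  have h2 : ζ ^ (n * m) = 1 := by rw [pow_mul, h1, one_pow]
  exact (pow_eq_one_iff ζ (n * m)).1 h2

end K12.DensePow
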