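import Groth.Agent.SGA3x.K12.NormMain
import Groth.Agent.SGA3.K207.SubTorMain

/-!
# The underlying set of a subtorus with given torsion

If `T` is a subtorus of `G` with torsion `M k`, and the fibres of `M k` are the torsion subgroups of subtori `T_s` whose
underlying sets are the traces of `E`, then the underlying set of `T` is `E`.
-/

set_option autoImplicit false
universe u
open CategoryTheory MonoidalCategory CartesianMonoidalCategory MonObj GrpObj AlgebraicGeometry Limits
open Groth.Agent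

namespace K12.RangeE

variable {S : Scheme.{u}} [IsLocallyNoetherian S] {G : Over S} [GrpObj G] {q : ℕ}

omit [IsLocallyNoetherian S] in
/-- The fibre of a subtorus with given torsion. -/
theorem range_fibre (hq : 1 < q) {T : Over S} [GrpObj T] (j : T ⟶ G) [IsMonHom j] [Mono j] (hT : Red.IsTorus T)
    (M : ℕ → Over S) (m : ∀ k, M k ⟶ G)
    (hm : ∀ k, ∃ g : M k ⟶ T, g ≫ j = m k ∧ AlgGrp.IsKernel g ((𝟙 T : T ⟶ T) ^ (q ^ k)))
    {k : Type u} [Field k] (c : Spec (CommRingCat.of k) ⟶ S) {T' : Over (Spec (CommRingCat.of k))} [GrpObj T']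
    (j' : T' ⟶ Red.bc c G) [IsMonHom j'] [Mono j'] (hT' : Red.IsTorus T')
    (hm' : ∀ k, ∃ g : Red.bc c (M k) ⟶ T', g ≫ j' = (Over.pullback c).map (m k) ∧
      AlgGrp.IsKernel g ((𝟙 T' : T' ⟶ T') ^ (q ^ k))) :
    Set.range j'.left = pullback.fst G.hom c ⁻¹' Set.range j.left := by
  have h1 : IsLocallyNoetherian (Spec (CommRingCat.of k)) := inferInstance
  obtain ⟨φ, hφ⟩ := K207.SubTor.exists_iso (G := Red.bc c G) hq ((Over.pullback c).map j : Red.bc c T ⟶ Red.bc c G) j'
    (Sga3B.TorusBc.isTorus_bc c hT) hT' (fun k => Red.bc c (M k)) (fun k => (Over.pullback c).map (m k))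
    (fun k => by
      obtain ⟨g, hg, hker⟩ := hm k
      exact ⟨(Over.pullback c).map g, by rw [← Functor.map_comp, hg], K207.SubTor.torsion_bc c hker⟩) hm'
  rw [← NormKit.range_map c j, ← hφ, Over.comp_left, Scheme.Hom.comp_base, TopCat.coe_comp, Set.range_comp,
    Set.range_eq_univ.mpr φ.hom.left.surjective, Set.image_univ]

/-- **The underlying set of the subtorus.** -/
theorem main (hq : 1 < q) (E : Set G.left)
    (Ts : ∀ s : S, Over (Spec (S.residueField s))) (grpT : ∀ s, GrpObj (Ts s))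
    (js : ∀ s, Ts s ⟶ Red.bc (S.fromSpecResidueField s) G)
    (hjs : ∀ s, IsMonHom (js s) ∧ Mono (js s) ∧ Red.IsTorus (Ts s) ∧
      Set.range ((js s).left ≫ pullback.fst G.hom (S.fromSpecResidueField s)).base = E ∩ G.hom.base ⁻¹' {s})
    (M : ℕ → Over S) (m : ∀ k, M k ⟶ G)
    (hfib : ∀ (s : S) (k : ℕ), ∃ g : Red.bc (S.fromSpecResidueField s) (M k) ⟶ Ts s,
      g ≫ js s = (Over.pullback (S.fromSpecResidueField s)).map (m k) ∧
        AlgGrp.IsKernel g ((𝟙 (Ts s) : Ts s ⟶ Ts s) ^ (q ^ k)))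
    {T : Over S} [GrpObj T] (j : T ⟶ G) [IsMonHom j] [Mono j] (hT : Red.IsTorus T)
    (hm : ∀ k, ∃ g : M k ⟶ T, g ≫ j = m k ∧ AlgGrp.IsKernel g ((𝟙 T : T ⟶ T) ^ (q ^ k))) :
    Set.range j.left.base = E := by
  have key : ∀ s : S, pullback.fst G.hom (S.fromSpecResidueField s) ⁻¹' Set.range j.left =
      pullback.fst G.hom (S.fromSpecResidueField s) ⁻¹' E := by
    intro s
    obtain ⟨h1, h2, h3, h4⟩ := hjs s
    rw [← NormMain.range_of_point (js s) h4]
    exact (range_fibre hq j hT M m hm (k := S.residueField s) (S.fromSpecResidueField s) (js s) h3 (hfib s)).symm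
  ext x
  obtain ⟨y, hy, -⟩ := Scheme.Pullback.exists_preimage_pullback (f := G.hom)
    (g := S.fromSpecResidueField (G.hom x)) x (IsLocalRing.closedPoint (S.residueField (G.hom x)))
    (Scheme.fromSpecResidueField_apply (G.hom x) _).symm
  have h := Set.ext_iff.1 (key (G.hom x)) y
  simp only [Set.mem_preimage, hy] at h
  exact h

end K12.RangeE
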