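import Groth.Agent.SGA3x.K12.NormMain
import Groth.Agent.SGA3x.K12.RangeE
import Groth.Agent.SGA3x.K207.Main

/-!
# Subtori over a normal base: the existence of the torus

`exist`: the existence of a torus with a given coherent family of torsion subgroups, from helper207's
`K207.Main.exists_torus` and `K12.RangeE.main`.
-/

set_option autoImplicit false
universe u
open CategoryTheory MonoidalCategory CartesianMonoidalCategory MonObj GrpObj AlgebraicGeometry Limits

namespace K12.NormFin

theorem exist : NormMain.Exist.{u} := by
  intro A _ _ q hq hqu G _ _ _ E Ts grpT js hjs M grp m hm hcoh hfib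
  have hmm : ∀ k, IsMonHom (m k) := fun k => (hm k).1
  obtain ⟨T, _, j, h1, h2, h3, h4⟩ := K207.Main.exists_torus hq hqu M grp m hm hcoh (fun s => by
    obtain ⟨h1, h2, h3, -⟩ := hjs s
    exact (K18.TorSpec.has_iff hmm _).2 ⟨Ts s, grpT s, js s, h1, h2, h3, hfib s⟩)
  exact ⟨T, inferInstance, j, h1, h2, h3, RangeE.main hq E Ts grpT js hjs M m hfib j h3 h4⟩

end K12.NormFin
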