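import Mathlib.AlgebraicGeometry.SpreadingOut
import Mathlib.AlgebraicGeometry.Noetherian
import Mathlib.AlgebraicGeometry.Morphisms.Immersion
import Mathlib.RingTheory.Filtration
import Mathlib.RingTheory.IntegralClosure.IntegralRestrict
import Mathlib.AlgebraicGeometry.Morphisms.Flat

/-!
# Agreement of two morphisms `Spec A ⟶ X`, `X` an arbitrary scheme

* `eq_of_iInf`: `A` local, the morphisms agree modulo ideals with intersection zero;
* `eq_of_pow`: `A` finite over a noetherian local ring `(R, 𝔪)`, the morphisms agree modulo all `𝔪 ^ k`;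
* `eq_of_points`: the morphisms agree at all points and modulo ideals with intersection zero;
* `exists_away`: `A` noetherian, an `R`-algebra: if the morphisms agree over `R_𝔭` then they agree over some `R_f`,
  `f ∉ 𝔭`.
-/

set_option autoImplicit false
universe u
open CategoryTheory AlgebraicGeometry Limits

namespace K12.Agree

/-- Local rings: agreement modulo ideals with intersection zero. -/
theorem eq_of_iInf {A : Type u} [CommRing A] [IsLocalRing A] {X : Scheme.{u}} (a b : Spec (.of A) ⟶ X) {K : Type*}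
    [Nonempty K] (I : K → Ideal A) (hI : ⨅ k, I k = ⊥) (hI' : ∀ k, I k ≠ ⊤)
    (h : ∀ k, Spec.map (CommRingCat.ofHom (Ideal.Quotient.mk (I k))) ≫ a =
      Spec.map (CommRingCat.ofHom (Ideal.Quotient.mk (I k))) ≫ b) : a = b := by
  obtain ⟨k₀⟩ := ‹Nonempty K›
  let t : Spec (.of A) := IsLocalRing.closedPoint A
  have hpt : a t = b t := by
    obtain ⟨z, hz⟩ : t ∈ Set.range (Spec.map (CommRingCat.ofHom (Ideal.Quotient.mk (I k₀)))) := by
      change t ∈ Set.range (PrimeSpectrum.comap (Ideal.Quotient.mk (I k₀)))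
      rw [range_comap_of_surjective _ _ Ideal.Quotient.mk_surjective, Ideal.mk_ker]
      exact IsLocalRing.le_maximalIdeal (hI' k₀)
    rw [← hz, ← Scheme.Hom.comp_apply, h k₀, Scheme.Hom.comp_apply]
  obtain ⟨U, hU, htU, -⟩ := exists_isAffineOpen_mem_and_subset (X := X) (x := a t) (U := ⊤) trivial
  have hr : ∀ c : Spec (.of A) ⟶ X, c t ∈ U → Set.range c ⊆ Set.range U.ι := by
    intro c hc
    rw [Scheme.Opens.range_ι]
    rintro _ ⟨y, rfl⟩
    have h1 : y ⤳ t := IsLocalRing.specializes_closedPoint y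
    exact (h1.map c.continuous).mem_open U.2 hc
  have hra := hr a htU
  have hrb := hr b (hpt ▸ htU)
  have : IsAffine U := hU
  let a' := IsOpenImmersion.lift U.ι a hra
  let b' := IsOpenImmersion.lift U.ι b hrb
  have ha : a' ≫ U.ι = a := IsOpenImmersion.lift_fac _ _ _
  have hb : b' ≫ U.ι = b := IsOpenImmersion.lift_fac _ _ _
  let α := Spec.preimage (a' ≫ U.toScheme.isoSpec.hom)
  let β := Spec.preimage (b' ≫ U.toScheme.isoSpec.hom)
  have hα : Spec.map α = a' ≫ U.toScheme.isoSpec.hom := Spec.map_preimage _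
  have hβ : Spec.map β = b' ≫ U.toScheme.isoSpec.hom := Spec.map_preimage _
  have h1 : ∀ k, α ≫ CommRingCat.ofHom (Ideal.Quotient.mk (I k)) = β ≫ CommRingCat.ofHom (Ideal.Quotient.mk (I k)) := by
    intro k
    apply Spec.map_injective
    rw [Spec.map_comp, Spec.map_comp, hα, hβ, ← cancel_mono (U.toScheme.isoSpec.inv ≫ U.ι)]
    simp only [Category.assoc, Iso.hom_inv_id_assoc, ha, hb]
    exact h k
  have h2 : α = β := by
    ext c
    rw [← sub_eq_zero, ← Ideal.mem_bot, ← hI, Ideal.mem_iInf]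
    intro k
    rw [← Ideal.Quotient.eq_zero_iff_mem, map_sub, sub_eq_zero]
    exact congr(($(h1 k)).hom c)
  have h3 : a' ≫ U.toScheme.isoSpec.hom = b' ≫ U.toScheme.isoSpec.hom := by rw [← hα, ← hβ, h2]
  rw [← ha, ← hb, (cancel_mono _).mp h3]

/-- Agreement on a localization of a noetherian ring spreads out to a neighbourhood. -/
theorem exists_nhd {A : Type u} [CommRing A] [IsNoetherianRing A] {X : Scheme.{u}} (a b : Spec (.of A) ⟶ X)
    (n : Spec (.of A)) (h : Spec.map (CommRingCat.ofHom (algebraMap A (Localization.AtPrime n.asIdeal))) ≫ a =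
      Spec.map (CommRingCat.ofHom (algebraMap A (Localization.AtPrime n.asIdeal))) ≫ b) :
    ∃ U : (Spec (.of A)).Opens, n ∈ U ∧ U.ι ≫ a = U.ι ≫ b := by
  have hS : IsLocallyNoetherian (Spec (.of A)) := by
    have : IsNoetherianRing (CommRingCat.of A) := ‹IsNoetherianRing A›
    infer_instance
  refine spread_out_unique_of_isGermInjective' a b ?_
  have h1 : (Spec (.of A)).fromSpecStalk n = Spec.map (Spec.stalkIso (.of A) n).inv ≫
      Spec.map (CommRingCat.ofHom (algebraMap A (Localization.AtPrime n.asIdeal))) := by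
    rw [Spec.fromSpecStalk_eq, ← Spec.map_comp]
    congr 1
    exact (Spec.algebraMap_stalkIso_inv (R := .of A) n).symm
  rw [h1, Category.assoc, Category.assoc, h]

/-- Morphisms agreeing on an open covering. -/
theorem eq_of_opens {T X : Scheme.{u}} (a b : T ⟶ X) (h : ∀ t : T, ∃ U : T.Opens, t ∈ U ∧ U.ι ≫ a = U.ι ≫ b) :
    a = b := by
  choose U hU hab using h
  have h1 : ⨆ t, U t = ⊤ := by
    rw [eq_top_iff]
    intro t _
    exact TopologicalSpace.Opens.mem_iSup.mpr ⟨t, hU t⟩
  exact (T.openCoverOfIsOpenCover U (.mk h1)).hom_ext _ _ fun t => hab t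

/-- Finite algebras over noetherian local rings: agreement modulo the powers of the maximal ideal. -/
theorem eq_of_pow {R A : Type u} [CommRing R] [IsLocalRing R] [IsNoetherianRing R] [CommRing A] [Algebra R A]
    [Module.Finite R A] {X : Scheme.{u}} (a b : Spec (.of A) ⟶ X)
    (h : ∀ k : ℕ, Spec.map (CommRingCat.ofHom (Ideal.Quotient.mk (((IsLocalRing.maximalIdeal R) ^ (k + 1)).map (algebraMap R A)))) ≫ a =
      Spec.map (CommRingCat.ofHom (Ideal.Quotient.mk (((IsLocalRing.maximalIdeal R) ^ (k + 1)).map (algebraMap R A)))) ≫ b) :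
    a = b := by
  have hA : IsNoetherianRing A := IsNoetherianRing.of_finite R A
  have key : ∀ n : Spec (.of A), n.asIdeal.IsMaximal → ∃ U : (Spec (.of A)).Opens, n ∈ U ∧ U.ι ≫ a = U.ι ≫ b := by
    intro n hn
    refine exists_nhd a b n ?_
    let O := Localization.AtPrime n.asIdeal
    have hO : IsNoetherianRing O := IsLocalization.isNoetherianRing n.asIdeal.primeCompl _ hA
    let I : Ideal O := ((IsLocalRing.maximalIdeal R).map (algebraMap R A)).map (algebraMap A O)
    have hI : I ≤ IsLocalRing.maximalIdeal O := by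
      have h1 : (n.asIdeal.comap (algebraMap R A)).IsMaximal := Ideal.isMaximal_comap_of_isIntegral_of_isMaximal n.asIdeal
      have h2 : IsLocalRing.maximalIdeal R = n.asIdeal.comap (algebraMap R A) :=
        (IsLocalRing.eq_maximalIdeal h1).symm
      rw [Ideal.map_le_iff_le_comap, Ideal.map_le_iff_le_comap, h2]
      intro x hx
      change algebraMap A O (algebraMap R A x) ∈ IsLocalRing.maximalIdeal O
      exact (IsLocalization.AtPrime.to_map_mem_maximal_iff O n.asIdeal _).mpr hx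
    have hI' : I ≠ ⊤ := fun h0 => (IsLocalRing.maximalIdeal.isMaximal O).ne_top (top_le_iff.mp (h0 ▸ hI))
    refine eq_of_iInf (K := ℕ) _ _ (fun k => I ^ (k + 1)) ?_ ?_ ?_
    · rw [← Ideal.iInf_pow_eq_bot_of_isLocalRing I hI']
      refine le_antisymm (le_iInf fun k => ?_) (le_iInf fun k => iInf_le (fun i : ℕ => I ^ i) (k + 1))
      exact (iInf_le (fun i : ℕ => I ^ (i + 1)) k).trans (Ideal.pow_le_pow_right k.le_succ)
    · intro k h0
      have h1 : I ^ (k + 1) ≤ I := Ideal.pow_le_self k.succ_ne_zero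
      rw [h0] at h1
      exact hI' (top_le_iff.mp h1)
    · intro k
      let J : Ideal A := ((IsLocalRing.maximalIdeal R) ^ (k + 1)).map (algebraMap R A)
      have hJ : J ≤ (I ^ (k + 1)).comap (algebraMap A O) := by
        have h0 : J.map (algebraMap A O) = I ^ (k + 1) := by
          simp only [J, I, Ideal.map_pow]
          exact Ideal.map_pow _ _ _
        exact Ideal.map_le_iff_le_comap.mp h0.le
      let ψ : A ⧸ J →+* O ⧸ I ^ (k + 1) := Ideal.quotientMap (I ^ (k + 1)) (algebraMap A O) hJ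
      have h1 : Spec.map (CommRingCat.ofHom (Ideal.Quotient.mk (I ^ (k + 1)))) ≫
          Spec.map (CommRingCat.ofHom (algebraMap A O)) =
          Spec.map (CommRingCat.ofHom ψ) ≫ Spec.map (CommRingCat.ofHom (Ideal.Quotient.mk J)) := by
        rw [← Spec.map_comp, ← Spec.map_comp, ← CommRingCat.ofHom_comp, ← CommRingCat.ofHom_comp]
        rfl
      rw [← Category.assoc, ← Category.assoc]
      erw [h1]
      rw [Category.assoc, Category.assoc, h k]
  refine eq_of_opens a b fun t => ?_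
  obtain ⟨n, hn, htn⟩ := Ideal.exists_le_maximal t.asIdeal t.2.ne_top
  obtain ⟨U, hU, hab⟩ := key ⟨n, hn.isPrime⟩ hn
  refine ⟨U, ?_, hab⟩
  have h1 : t ⤳ (⟨n, hn.isPrime⟩ : Spec (.of A)) :=
    (PrimeSpectrum.le_iff_specializes (R := A) t ⟨n, hn.isPrime⟩).mp htn
  exact h1.mem_open U.2 hU

/-- Agreement at all points and modulo ideals with intersection zero. -/
theorem eq_of_points {A : Type u} [CommRing A] {X : Scheme.{u}} (a b : Spec (.of A) ⟶ X)
    (hpt : ∀ t : Spec (.of A), ∃ (Y : Scheme.{u}) (y : Y ⟶ Spec (.of A)), t ∈ Set.range y ∧ y ≫ a = y ≫ b)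
    {K : Type*} (I : K → Ideal A) (hI : ⨅ k, I k = ⊥)
    (h : ∀ k, Spec.map (CommRingCat.ofHom (Ideal.Quotient.mk (I k))) ≫ a =
      Spec.map (CommRingCat.ofHom (Ideal.Quotient.mk (I k))) ≫ b) : a = b := by
  let z := equalizer.ι a b
  have hr : Set.range z = Set.univ := by
    rw [Set.eq_univ_iff_forall]
    intro t
    obtain ⟨Y, y, ⟨w, rfl⟩, hy⟩ := hpt t
    refine ⟨equalizer.lift y hy w, ?_⟩
    rw [← Scheme.Hom.comp_apply, equalizer.lift_ι]
  have hz : IsClosedImmersion z := IsClosedImmersion.of_isPreimmersion z (by rw [hr]; exact isClosed_univ)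
  obtain ⟨J, e, he⟩ := (IsClosedImmersion.Spec_iff (R := CommRingCat.of A) (f := z)).1 hz
  have hJ : ∀ k, J ≤ I k := by
    intro k x hx
    have h1 := equalizer.lift_ι _ (h k)
    change equalizer.lift _ (h k) ≫ z = _ at h1
    rw [he, ← Category.assoc] at h1
    obtain ⟨ρ, hρ⟩ := Spec.map_surjective (equalizer.lift _ (h k) ≫ e.hom)
    rw [← hρ, ← Spec.map_comp] at h1
    have h2 := Spec.map_injective h1
    have h3 := congr(($h2).hom x)
    rw [← Ideal.Quotient.eq_zero_iff_mem]
    refine h3.symm.trans ?_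
    change ρ.hom (Ideal.Quotient.mk J x) = 0
    rw [Ideal.Quotient.eq_zero_iff_mem.mpr hx, map_zero]
  have hJ' : J = ⊥ := le_bot_iff.mp (hI ▸ le_iInf hJ)
  have h1 : IsIso (Spec.map (CommRingCat.ofHom (Ideal.Quotient.mk J))) := by
    have h2 : Function.Bijective (Ideal.Quotient.mk J) := by
      refine ⟨?_, Ideal.Quotient.mk_surjective⟩
      rw [injective_iff_map_eq_zero]
      intro x hx
      rw [Ideal.Quotient.eq_zero_iff_mem, hJ'] at hx
      exact hx
    have h3 : IsIso (CommRingCat.ofHom (Ideal.Quotient.mk J)) :=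
      (ConcreteCategory.isIso_iff_bijective _).mpr h2
    infer_instance
  have h4 : IsIso z := by
    rw [he]
    infer_instance
  rw [← cancel_epi z]
  exact equalizer.condition a b

/-- **Spreading out the agreement over a localization of the base.** -/
theorem exists_away {R A : Type u} [CommRing R] [CommRing A] [IsNoetherianRing A] [Algebra R A] {X : Scheme.{u}}
    (a b : Spec (.of A) ⟶ X) (p : Ideal R) [p.IsPrime]
    (h : ∀ (E : Type u) [CommRing E] [Algebra A E] [Algebra R E] [IsScalarTower R A E],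
      (∀ r, r ∉ p → IsUnit (algebraMap R E r)) →
      Spec.map (CommRingCat.ofHom (algebraMap A E)) ≫ a = Spec.map (CommRingCat.ofHom (algebraMap A E)) ≫ b) :
    ∃ f, f ∉ p ∧ ∀ (T : Scheme.{u}) (t : T ⟶ Spec (.of A)),
      (∀ y, algebraMap R A f ∉ (t y : PrimeSpectrum A).asIdeal) → t ≫ a = t ≫ b := by
  have key : ∀ q : Spec (.of A), (∀ r, r ∉ p → algebraMap R A r ∉ q.asIdeal) →
      ∃ U : (Spec (.of A)).Opens, q ∈ U ∧ U.ι ≫ a = U.ι ≫ b := by
    intro q hq
    refine exists_nhd a b q ?_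
    exact h (Localization.AtPrime q.asIdeal) fun r hr => by
      rw [IsScalarTower.algebraMap_apply R A]
      exact IsLocalization.map_units _ (⟨_, hq r hr⟩ : q.asIdeal.primeCompl)
  let W : (Spec (.of A)).Opens := ⨆ U : {U : (Spec (.of A)).Opens // U.ι ≫ a = U.ι ≫ b}, U.1
  have hW : W.ι ≫ a = W.ι ≫ b := by
    refine eq_of_opens _ _ fun t => ?_
    obtain ⟨⟨U, hU⟩, htU⟩ := TopologicalSpace.Opens.mem_iSup.mp t.2
    refine ⟨W.ι ⁻¹ᵁ U, htU, ?_⟩
    have h1 : Set.range ((W.ι ⁻¹ᵁ U).ι ≫ W.ι) ⊆ Set.range U.ι := by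
      rw [Scheme.Opens.range_ι]
      rintro _ ⟨y, rfl⟩
      exact y.2
    have h2 := IsOpenImmersion.lift_fac U.ι ((W.ι ⁻¹ᵁ U).ι ≫ W.ι) h1
    rw [← Category.assoc, ← Category.assoc, ← h2, Category.assoc, Category.assoc, hU]
  obtain ⟨I, hI⟩ := (PrimeSpectrum.isClosed_iff_zeroLocus_ideal (R := A) _).mp W.2.isClosed_compl
  have hf : ¬ Disjoint (I : Set A) (p.primeCompl.map (algebraMap R A) : Set A) := by
    intro hdisj
    obtain ⟨q, hq, hIq, hdq⟩ := Ideal.exists_le_prime_disjoint I (p.primeCompl.map (algebraMap R A)) hdisj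
    have h1 : (⟨q, hq⟩ : PrimeSpectrum A) ∈ PrimeSpectrum.zeroLocus (I : Set A) := hIq
    rw [← hI] at h1
    refine h1 ?_
    obtain ⟨U, hqU, hU⟩ := key ⟨q, hq⟩ fun r hr hrq => Set.disjoint_left.mp hdq hrq ⟨r, hr, rfl⟩
    exact TopologicalSpace.Opens.mem_iSup.mpr ⟨⟨U, hU⟩, hqU⟩
  obtain ⟨x, hxI, ⟨f, hf, rfl⟩⟩ := Set.not_disjoint_iff.mp hf
  refine ⟨f, hf, fun T t ht => ?_⟩
  have h1 : Set.range t ⊆ Set.range W.ι := by
    rw [Scheme.Opens.range_ι]
    rintro _ ⟨y, rfl⟩
    by_contra hy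
    have h2 : (t y : PrimeSpectrum A) ∈ PrimeSpectrum.zeroLocus (I : Set A) := by
      rw [← hI]
      exact hy
    exact ht y (h2 hxI)
  have h2 := IsOpenImmersion.lift_fac W.ι t h1
  rw [← h2, Category.assoc, Category.assoc, hW]

end K12.Agree
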