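import Groth.Agent.SGA3x.K7.ActTriv
import Groth.Agent.SGA3x.K8.CentralNil
import Groth.Agent.SGA3x.K5.Clopen
import Groth.Agent.Fcompl.H545.SpecKer

/-!
# Homomorphisms which agree modulo a nilpotent ideal and are central modulo this ideal

`R` a ring, `J` a nilpotent ideal, `H` of multiplicative type (of arbitrary type) and `G` an arbitrary group scheme
over `Spec R`.

* `central_of_mod`: a homomorphism `H ⟶ G` which is central modulo `J` is central;
* `eq_of_mod`: two homomorphisms `H ⟶ G` which agree modulo `J`, where they are central, are equal.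
-/

set_option autoImplicit false
universe u
open CategoryTheory MonoidalCategory CartesianMonoidalCategory MonObj GrpObj AlgebraicGeometry Limits

namespace K12.CentNil

open K21.MultLoc

variable {R : Type u} [CommRing R] (J : Ideal R) (hJ : IsNilpotent J)
  {H G : Over (Spec (CommRingCat.of R))} [GrpObj H] [GrpObj G] (hH : IsMult H)

include hJ hH

/-- **Centrality lifts along nilpotent ideals.** -/
theorem central_of_mod (u : H ⟶ G) [IsMonHom u]
    (h0 : ∀ (Y : Over (Spec (CommRingCat.of R)))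
      (_ : Y ⟶ (Over.mk (Spec.map (CommRingCat.ofHom (Ideal.Quotient.mk J))) : Over (Spec (CommRingCat.of R))))
      (g : Y ⟶ G) (h : Y ⟶ H), g * (h ≫ u) = (h ≫ u) * g)
    (Y : Over (Spec (CommRingCat.of R))) (g : Y ⟶ G) (h : Y ⟶ H) : g * (h ≫ u) = (h ≫ u) * g := by
  let i₀ : Spec (CommRingCat.of (R ⧸ J)) ⟶ Spec (CommRingCat.of R) :=
    Spec.map (CommRingCat.ofHom (Ideal.Quotient.mk J))
  have hci : IsClosedImmersion i₀ := IsClosedImmersion.spec_of_surjective _ Ideal.Quotient.mk_surjective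
  have hnil : ∀ x : Spec (CommRingCat.of R), ∃ U : (Spec (CommRingCat.of R)).affineOpens,
      x ∈ (U : (Spec (CommRingCat.of R)).Opens) ∧ IsNilpotent (i₀.ker.ideal U) := by
    intro x
    refine ⟨⟨⊤, isAffineOpen_top _⟩, trivial, ?_⟩
    have h1 : i₀.ker.ideal ⟨⊤, isAffineOpen_top _⟩ = _ :=
      Groth.Agent.Fcompl.H545.SpecKer.ideal_top_ker_specMap (CommRingCat.ofHom (Ideal.Quotient.mk J))
    rw [h1]
    obtain ⟨n, hn⟩ := hJ
    refine ⟨n, ?_⟩
    rw [CommRingCat.hom_ofHom, Ideal.mk_ker, ← Ideal.map_pow, hn, Ideal.zero_eq_bot, Ideal.map_bot, Ideal.zero_eq_bot]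
  have key := K7.ActTriv.act_eq_snd i₀ hnil hH (K7.ActTriv.conjAct u) (by
    intro Y p g h
    change lift g h ≫ ((fst H G ≫ u) * snd H G * (fst H G ≫ u)⁻¹) = h
    rw [MonObj.comp_mul, MonObj.comp_mul, GrpObj.comp_inv, ← Category.assoc, lift_fst, lift_snd, ← h0 Y p h g]
    group)
  have h1 := congrArg (fun z => lift h g ≫ z) key
  change lift h g ≫ ((fst H G ≫ u) * snd H G * (fst H G ≫ u)⁻¹) = lift h g ≫ snd H G at h1
  rw [MonObj.comp_mul, MonObj.comp_mul, GrpObj.comp_inv, ← Category.assoc, lift_fst, lift_snd,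
    mul_inv_eq_iff_eq_mul] at h1
  exact h1.symm

/-- **Rigidity of central homomorphisms.** -/
theorem eq_of_mod (u v : H ⟶ G) [IsMonHom u] [IsMonHom v]
    (h0 : ∀ (Y : Over (Spec (CommRingCat.of R)))
      (_ : Y ⟶ (Over.mk (Spec.map (CommRingCat.ofHom (Ideal.Quotient.mk J))) : Over (Spec (CommRingCat.of R))))
      (g : Y ⟶ G) (h : Y ⟶ H), g * (h ≫ u) = (h ≫ u) * g)
    (h1 : ∀ (Y : Over (Spec (CommRingCat.of R)))
      (_ : Y ⟶ (Over.mk (Spec.map (CommRingCat.ofHom (Ideal.Quotient.mk J))) : Over (Spec (CommRingCat.of R))))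
      (h : Y ⟶ H), h ≫ u = h ≫ v) : u = v := by
  obtain ⟨n, hn⟩ := id hJ
  refine K8.CentralNil.eq_of_pow n J ?_ H G hH u v (central_of_mod J hJ hH u h0) h1
  exact le_bot_iff.1 ((Ideal.pow_le_pow_right Nat.lt_two_pow_self.le).trans hn.le)

end K12.CentNil
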