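import Groth.Agent.SGA3x.K5.Clopen
import Groth.Agent.SGA3x.K21.MultLoc

/-!
# Centrality of a homomorphism over a base change

`Cen u T`: the homomorphism `u : H ⟶ G` of group schemes over `S` is central over the `S`-scheme `T`.
Base change, composition and flat descent for `Cen` and for `Eqz` (agreement of two morphisms over `T`).
-/

set_option autoImplicit false
universe u
open CategoryTheory MonoidalCategory CartesianMonoidalCategory MonObj GrpObj AlgebraicGeometry Limits

namespace K12.Central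

open Groth.Agent.Sga3B Groth.Agent.SGA3x.K5.Clopen

variable {S S' : Scheme.{u}} {H G : Over S} [GrpObj G]

/-- `u` is central over `T`. -/
def Cen (u : H ⟶ G) (T : Over S) : Prop :=
  ∀ (Y : Over S) (_ : Y ⟶ T) (g : Y ⟶ G) (h : Y ⟶ H), g * (h ≫ u) = (h ≫ u) * g

theorem Cen.comp {u : H ⟶ G} {T T' : Over S} (t : T' ⟶ T) (h : Cen u T) : Cen u T' :=
  fun Y b => h Y (b ≫ t)

theorem Cen.pre {H' : Over S} {u : H ⟶ G} {T : Over S} (h : Cen u T) (e : H' ⟶ H) : Cen (e ≫ u) T := by
  intro Y b g x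
  rw [← Category.assoc]
  exact h Y b g (x ≫ e)

theorem Cen.map {u : H ⟶ G} (v : S' ⟶ S) {T : Over S'} (h : Cen u ((Over.map v).obj T)) :
    Cen (G := Red.bc v G) ((Over.pullback v).map u : Red.bc v H ⟶ Red.bc v G) T := by
  intro Y b g x
  obtain ⟨g, rfl⟩ := (BcPts.bcEquiv v Y G).surjective g
  obtain ⟨x, rfl⟩ := (BcPts.bcEquiv v Y H).surjective x
  rw [← BcPts.bcEquiv_comp, ← BcPts.bcEquiv_mul, ← BcPts.bcEquiv_mul, h _ ((Over.map v).map b)]

theorem Cen.of_map {u : H ⟶ G} (v : S' ⟶ S) {T : Over S} (t : T ⟶ Over.mk v)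
    (h : Cen (G := Red.bc v G) ((Over.pullback v).map u : Red.bc v H ⟶ Red.bc v G) (Over.mk t.left)) : Cen u T := by
  intro Y b g x
  let b'' : Over.mk (b ≫ t).left ⟶ Over.mk t.left := Over.homMk b.left (by simp)
  have h1 := h _ b'' (BcPts.bcEquiv v _ G ((BcPts.overIso (b ≫ t)).hom ≫ g))
    (BcPts.bcEquiv v _ H ((BcPts.overIso (b ≫ t)).hom ≫ x))
  rw [← BcPts.bcEquiv_comp, ← BcPts.bcEquiv_mul, ← BcPts.bcEquiv_mul] at h1
  have h2 := (BcPts.bcEquiv v _ G).injective h1
  rw [Category.assoc, ← MonObj.comp_mul, ← MonObj.comp_mul] at h2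
  exact (cancel_epi _).mp h2

/-- The base change of a morphism of `S`-schemes along a flat morphism with sufficiently large range. -/
theorem exists_epi {T V : Over S} [Flat V.hom] (hV : Set.range T.hom ⊆ Set.range V.hom) :
    ∃ (Z : Over S) (p : Z ⟶ T) (_ : Z ⟶ V), Epi p := by
  have h1 : Surjective (pullback.fst T.hom V.hom) := by
    refine ⟨fun y => ?_⟩
    obtain ⟨z, hz⟩ := hV ⟨y, rfl⟩
    obtain ⟨w, hw, -⟩ := Scheme.Pullback.exists_preimage_pullback y z hz.symm
    exact ⟨w, hw⟩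
  have h3 : Epi (pullback.fst T.hom V.hom) := Flat.epi_of_flat_of_surjective _
  let π : Over.mk (pullback.fst T.hom V.hom ≫ T.hom) ⟶ T := Over.homMk (pullback.fst T.hom V.hom) rfl
  refine ⟨_, π, Over.homMk (pullback.snd T.hom V.hom) pullback.condition.symm, ?_⟩
  have : Epi π.left := h3
  exact Over.epi_of_epi_left _

theorem exists_epi' {T V : Over S} (v : V ⟶ T) [Flat v.left] [Surjective v.left] {T' : Over S} (t : T' ⟶ T) :
    ∃ (Z : Over S) (p : Z ⟶ T') (_ : Z ⟶ V), Epi p := by
  have h3 : Epi (pullback.fst t.left v.left) := Flat.epi_of_flat_of_surjective _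
  let π : Over.mk (pullback.fst t.left v.left ≫ T'.hom) ⟶ T' := Over.homMk (pullback.fst t.left v.left) rfl
  refine ⟨_, π, Over.homMk (pullback.snd t.left v.left) ?_, ?_⟩
  · change pullback.snd t.left v.left ≫ V.hom = pullback.fst t.left v.left ≫ T'.hom
    rw [← Over.w v, ← Over.w t, ← Category.assoc, ← Category.assoc, pullback.condition]
  · have : Epi π.left := h3
    exact Over.epi_of_epi_left _

theorem range_subset {T T' : Over S} (t : T' ⟶ T) : Set.range T'.hom ⊆ Set.range T.hom := by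
  rintro _ ⟨y, rfl⟩
  rw [← Over.w t]
  exact ⟨t.left y, rfl⟩

/-- Flat descent of centrality. -/
theorem Cen.of_range {u : H ⟶ G} {T V : Over S} [Flat V.hom] (hV : Set.range T.hom ⊆ Set.range V.hom)
    (h : Cen u V) : Cen u T := by
  intro Y b g x
  obtain ⟨Z, p, q, hp⟩ := exists_epi (T := Y) (V := V) ((range_subset b).trans hV)
  rw [← cancel_epi p, MonObj.comp_mul, MonObj.comp_mul, ← Category.assoc]
  exact h Z q _ _

theorem Cen.of_surjective {u : H ⟶ G} {T V : Over S} (v : V ⟶ T) [Flat v.left] [Surjective v.left]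
    (h : Cen u V) : Cen u T := by
  intro Y b g x
  obtain ⟨Z, p, q, hp⟩ := exists_epi' v b
  rw [← cancel_epi p, MonObj.comp_mul, MonObj.comp_mul, ← Category.assoc]
  exact h Z q _ _

omit [GrpObj G] in
/-- Flat descent of agreement. -/
theorem eqz_of_range {a b : H ⟶ G} {T V : Over S} [Flat V.hom] (hV : Set.range T.hom ⊆ Set.range V.hom)
    (h : Eqz a b V) : Eqz a b T := by
  intro Y t x
  obtain ⟨Z, p, q, hp⟩ := exists_epi (T := Y) (V := V) ((range_subset t).trans hV)
  rw [← cancel_epi p, ← Category.assoc, ← Category.assoc]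
  exact h Z q _

omit [GrpObj G] in
theorem eqz_of_surjective {a b : H ⟶ G} {T V : Over S} (v : V ⟶ T) [Flat v.left] [Surjective v.left]
    (h : Eqz a b V) : Eqz a b T := by
  intro Y t x
  obtain ⟨Z, p, q, hp⟩ := exists_epi' v t
  rw [← cancel_epi p, ← Category.assoc, ← Category.assoc]
  exact h Z q _

/-- Centrality over a base change, in terms of the base change of the homomorphism. -/
theorem cen_mk_iff (v : S' ⟶ S) (u : H ⟶ G) :
    Cen u (Over.mk v) ↔ ∀ (X : Over S') (g : X ⟶ Red.bc v G) (h : X ⟶ Red.bc v H),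
      g * (h ≫ (Over.pullback v).map u) = (h ≫ (Over.pullback v).map u) * g := by
  constructor
  · intro h X g x
    have h1 : Cen (G := Red.bc v G) ((Over.pullback v).map u : Red.bc v H ⟶ Red.bc v G) (Over.mk (𝟙 S')) :=
      Cen.map v (h.comp (Over.homMk (V := Over.mk v) (𝟙 S' : ((Over.map v).obj (Over.mk (𝟙 S'))).left ⟶ S') (by simp)))
    exact h1 X (Over.homMk X.hom (by simp)) g x
  · intro h
    refine Cen.of_map v (𝟙 _) fun X _ g x => h X g x

omit [GrpObj G] in
theorem eqz_mk_iff (v : S' ⟶ S) (a b : H ⟶ G) :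
    Eqz a b (Over.mk v) ↔ (Over.pullback v).map a = (Over.pullback v).map b := by
  constructor
  · intro h
    have h1 : Eqz ((Over.pullback v).map a) ((Over.pullback v).map b) (Over.mk (𝟙 S')) :=
      Eqz.map v (h.comp (Over.homMk (V := Over.mk v) (𝟙 S' : ((Over.map v).obj (Over.mk (𝟙 S'))).left ⟶ S') (by simp)))
    have h2 := h1 ((Over.pullback v).obj H) (Over.homMk ((Over.pullback v).obj H).hom (by simp)) (𝟙 _)
    simpa using h2
  · intro h
    refine Eqz.of_map v (𝟙 _) ?_
    rw [h]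
    intro _ _ _
    rfl

end K12.Central
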