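import Groth.Agent.SGA3x.K12.DenseAlg
import Mathlib.RingTheory.Filtration
import Mathlib.RingTheory.LocalProperties.Basic
import Mathlib.RingTheory.Flat.Stability
import Mathlib.RingTheory.TensorProduct.Basic
import Mathlib.LinearAlgebra.DirectSum.Finsupp

/-!
# Families of maps to flat modules which are injective on all fibres

`main`: let `B` be an `R`-algebra, `φ i : B → N i` a family of `R`-linear maps to flat `R`-modules which is jointly
injective after tensoring with the residue fields of `R`; let `A` be an `R`-algebra with `A ⊗ B` noetherian. Then the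
family `A ⊗ B → A ⊗ N i` is jointly injective.
-/

open TensorProduct

namespace K12.DenseBC

section Joint

variable {R : Type*} [CommRing R] {B : Type*} [AddCommGroup B] [Module R B] {ι : Type*} {N : ι → Type*}
  [∀ i, AddCommGroup (N i)] [∀ i, Module R (N i)] (φ : ∀ i, B →ₗ[R] N i)

/-- The family `F ⊗ B → F ⊗ N i` is jointly injective. -/
def Joint (F : Type*) [AddCommGroup F] [Module R F] : Prop :=
  ∀ z : F ⊗[R] B, (∀ i, (φ i).lTensor F z = 0) → z = 0

variable {φ}

theorem Joint.of_retract {F K : Type*} [AddCommGroup F] [Module R F] [AddCommGroup K] [Module R K]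
    (h : Joint φ K) (s : F →ₗ[R] K) (r : K →ₗ[R] F) (hrs : r ∘ₗ s = LinearMap.id) : Joint φ F := by
  intro z hz
  have h1 : s.rTensor B z = 0 := h _ fun i => by
    rw [← LinearMap.comp_apply, LinearMap.lTensor_comp_rTensor, ← LinearMap.rTensor_comp_lTensor,
      LinearMap.comp_apply, hz i, map_zero]
  have h2 : r.rTensor B (s.rTensor B z) = z := by
    rw [← LinearMap.comp_apply, ← LinearMap.rTensor_comp, hrs, LinearMap.rTensor_id, LinearMap.id_apply]
  rw [← h2, h1, map_zero]

theorem Joint.finsupp {F : Type*} [AddCommGroup F] [Module R F] (h : Joint φ F) (Λ : Type*) :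
    Joint φ (Λ →₀ F) := by
  classical
  intro z hz
  have h2 : ∀ l, (Finsupp.lapply l : (Λ →₀ F) →ₗ[R] F).rTensor B z = 0 := fun l => h _ fun i => by
    rw [← LinearMap.comp_apply, LinearMap.lTensor_comp_rTensor, ← LinearMap.rTensor_comp_lTensor,
      LinearMap.comp_apply, hz i, map_zero]
  have h3 : TensorProduct.finsuppLeft R R F B Λ z = 0 := by
    ext l
    have h4 : ∀ y : (Λ →₀ F) ⊗[R] B,
        TensorProduct.finsuppLeft R R F B Λ y l = (Finsupp.lapply l : (Λ →₀ F) →ₗ[R] F).rTensor B y := by
      intro y
      induction y using TensorProduct.induction_on with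
      | zero => simp
      | tmul m f => simp [TensorProduct.finsuppLeft_apply_tmul_apply]
      | add x y hx hy => simp only [map_add, Finsupp.add_apply, hx, hy]
    rw [h4, Finsupp.zero_apply]
    exact h2 l
  exact (LinearEquiv.map_eq_zero_iff _).mp h3

theorem Joint.of_equiv {F K : Type*} [AddCommGroup F] [Module R F] [AddCommGroup K] [Module R K]
    (h : Joint φ F) (e : F ≃ₗ[R] K) : Joint φ K :=
  h.of_retract e.symm.toLinearMap e.toLinearMap (by ext; simp)

/-- Joint injectivity over one extension of the residue field implies it over any other one. -/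
theorem Joint.of_field {k K : Type*} [Field k] [Field K] [Algebra R k] [Algebra R K]
    (hk : RingHom.ker (algebraMap R k) = RingHom.ker (algebraMap R K)) (h : Joint φ k) : Joint φ K := by
  let p : Ideal R := RingHom.ker (algebraMap R k)
  have hp : p.IsPrime := RingHom.ker_isPrime _
  let F := FractionRing (R ⧸ p)
  let a1 : (R ⧸ p) →ₐ[R] k := Ideal.Quotient.liftₐ p (Algebra.ofId R k) (fun a ha => ha)
  have ha1 : Function.Injective a1 := by
    apply (injective_iff_map_eq_zero _).2
    intro x hx
    obtain ⟨x, rfl⟩ := Ideal.Quotient.mk_surjective x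
    exact Ideal.Quotient.eq_zero_iff_mem.2 hx
  let a2 : (R ⧸ p) →ₐ[R] K := Ideal.Quotient.liftₐ p (Algebra.ofId R K) (fun a ha => by
    rw [show p = _ from hk] at ha; exact ha)
  have ha2 : Function.Injective a2 := by
    apply (injective_iff_map_eq_zero _).2
    intro x hx
    obtain ⟨x, rfl⟩ := Ideal.Quotient.mk_surjective x
    refine Ideal.Quotient.eq_zero_iff_mem.2 ?_
    rw [show p = _ from hk]
    exact hx
  let b1 : F →+* k := IsFractionRing.lift (A := R ⧸ p) (K := F) (g := a1.toRingHom) ha1
  let b2 : F →+* K := IsFractionRing.lift (A := R ⧸ p) (K := F) (g := a2.toRingHom) ha2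
  let _ : Algebra F k := b1.toAlgebra
  let _ : Algebra F K := b2.toAlgebra
  have t1 : IsScalarTower R F k := IsScalarTower.of_algebraMap_eq fun r => by
    change _ = b1 (algebraMap R F r)
    rw [IsScalarTower.algebraMap_apply R (R ⧸ p) F, IsFractionRing.lift_algebraMap]
    exact (a1.commutes r).symm
  have t2 : IsScalarTower R F K := IsScalarTower.of_algebraMap_eq fun r => by
    change _ = b2 (algebraMap R F r)
    rw [IsScalarTower.algebraMap_apply R (R ⧸ p) F, IsFractionRing.lift_algebraMap]
    exact (a2.commutes r).symm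
  have hF : Joint φ F := by
    obtain ⟨r, hr⟩ := (Algebra.linearMap F k).exists_leftInverse_of_injective
      (LinearMap.ker_eq_bot.2 (algebraMap F k).injective)
    exact h.of_retract ((Algebra.linearMap F k).restrictScalars R) (r.restrictScalars R) (by
      ext x; exact congr($hr x))
  exact (hF.finsupp _).of_equiv ((Module.Free.chooseBasis F K).repr.restrictScalars R).symm

end Joint

theorem mem_smul_top_iff {R A : Type*} [CommRing R] [CommRing A] [Algebra R A] (I : Ideal A)
    {N : Type*} [AddCommGroup N] [Module R N] (x : A ⊗[R] N) :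
    x ∈ I • (⊤ : Submodule A (A ⊗[R] N)) ↔
      ((I.mkQ).restrictScalars R).rTensor N x = 0 := by
  constructor
  · intro hx
    induction hx using Submodule.smul_induction_on' with
    | smul r hr n hn =>
      clear hn
      induction n using TensorProduct.induction_on with
      | zero => simp
      | tmul m f =>
        rw [TensorProduct.smul_tmul', LinearMap.rTensor_tmul]
        have : (I.mkQ.restrictScalars R) (r • m) = 0 := by
          rw [LinearMap.restrictScalars_apply, Submodule.mkQ_apply, Submodule.Quotient.mk_eq_zero]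
          exact I.mul_mem_right _ hr
        rw [this, TensorProduct.zero_tmul]
      | add x y hx hy => rw [smul_add, map_add, hx, hy, add_zero]
    | add x _ y _ hx hy => rw [map_add, hx, hy, add_zero]
  · intro hx
    have hex : Function.Exact (I.subtype.restrictScalars R) (I.mkQ.restrictScalars R) :=
      LinearMap.exact_subtype_mkQ I
    have h1 := rTensor_exact N hex (Submodule.mkQ_surjective I)
    obtain ⟨y, rfl⟩ := (h1 x).1 hx
    clear hx h1
    induction y using TensorProduct.induction_on with
    | zero => simp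
    | tmul m f =>
      rw [LinearMap.rTensor_tmul]
      have : (I.subtype.restrictScalars R) m ⊗ₜ[R] f = (m : A) • ((1 : A) ⊗ₜ[R] f) := by
        rw [TensorProduct.smul_tmul', smul_eq_mul, mul_one]
        rfl
      rw [this]
      exact Submodule.smul_mem_smul m.2 trivial
    | add x y hx hy => rw [map_add]; exact add_mem hx hy

universe v

/-- **Descent of joint injectivity from the fibres.** -/
theorem main {R A B : Type*} [CommRing R] [CommRing A] [CommRing B] [Algebra R A] [Algebra R B]
    [IsNoetherianRing (A ⊗[R] B)] {ι : Type*} {N : ι → Type*} [∀ i, AddCommGroup (N i)] [∀ i, Module R (N i)]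
    [∀ i, Module.Flat R (N i)] (φ : ∀ i, B →ₗ[R] N i)
    (h : ∀ (p : Ideal R) [p.IsPrime], ∃ (k : Type v) (_ : Field k) (_ : Algebra R k),
      RingHom.ker (algebraMap R k) = p ∧ Joint φ k)
    (t : A ⊗[R] B) (ht : ∀ i, (φ i).lTensor A t = 0) : t = 0 := by
  apply eq_zero_of_localization
  intro P hP
  let q : Ideal A := P.comap (algebraMap A (A ⊗[R] B))
  have hq : q.IsPrime := inferInstance
  let Aq := Localization.AtPrime q
  let m : Ideal Aq := IsLocalRing.maximalIdeal Aq
  let K := Aq ⧸ m
  let _ : Field K := Ideal.Quotient.field m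
  obtain ⟨k, _, _, hk, hJ⟩ := h (q.comap (algebraMap R A))
  have hJK : Joint φ K := by
    refine hJ.of_field (K := K) ?_
    rw [hk]
    ext r
    rw [Ideal.mem_comap, RingHom.mem_ker]
    have e1 : algebraMap R K r = Ideal.Quotient.mk m (algebraMap A Aq (algebraMap R A r)) := by
      rw [← IsScalarTower.algebraMap_apply R A Aq]; rfl
    rw [e1, Ideal.Quotient.eq_zero_iff_mem]
    exact (IsLocalization.AtPrime.to_map_mem_maximal_iff Aq q _).symm
  -- the base change to `Aq`
  let τ : A ⊗[R] B →ₐ[R] Aq ⊗[R] B := Algebra.TensorProduct.map (IsScalarTower.toAlgHom R A Aq) (AlgHom.id R B)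
  have hτN : ∀ i (x : A ⊗[R] B), (φ i).baseChange Aq (τ x) =
      (IsScalarTower.toAlgHom R A Aq).toLinearMap.rTensor (N i) ((φ i).lTensor A x) := by
    intro i x
    induction x using TensorProduct.induction_on with
    | zero => simp
    | tmul m f => simp [τ]
    | add x y hx hy => simp only [map_add, hx, hy]
  have key : ∀ n : ℕ, τ t ∈ m ^ n • (⊤ : Submodule Aq (Aq ⊗[R] B)) := by
    refine DenseAlg.mem_pow_of_isMaximal m (fun i => Aq ⊗[R] N i) (fun i => (φ i).baseChange Aq) ?_ (τ t) ?_
    · intro b hb
      rw [mem_smul_top_iff]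
      apply hJK
      intro i
      have h1 := (mem_smul_top_iff m _).1 (hb i)
      have h2 : ∀ x : Aq ⊗[R] B, (φ i).lTensor K ((m.mkQ.restrictScalars R).rTensor B x) =
          (m.mkQ.restrictScalars R).rTensor (N i) ((φ i).baseChange Aq x) := by
        intro x
        rw [← LinearMap.comp_apply, LinearMap.lTensor_comp_rTensor, ← LinearMap.rTensor_comp_lTensor]
        rfl
      exact (h2 b).trans h1
    · intro i
      rw [hτN, ht i, map_zero]
  -- map to the local ring
  let D := Localization.AtPrime P
  let ψ : Aq →+* D := Localization.localRingHom q P (algebraMap A (A ⊗[R] B)) rfl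
  have hψloc : IsLocalHom ψ := Localization.isLocalHom_localRingHom q P _ rfl
  have hψ : ∀ a : A, ψ (algebraMap A Aq a) = algebraMap (A ⊗[R] B) D (algebraMap A (A ⊗[R] B) a) :=
    fun a => Localization.localRingHom_to_map _ _ _ rfl a
  let f1 : Aq →ₐ[R] D := { ψ with
    commutes' := fun r => by
      change ψ _ = _
      rw [IsScalarTower.algebraMap_apply R A Aq, hψ, ← IsScalarTower.algebraMap_apply R A (A ⊗[R] B)]
      rfl }
  let f2 : B →ₐ[R] D := (IsScalarTower.toAlgHom R (A ⊗[R] B) D).comp Algebra.TensorProduct.includeRight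
  let Ψ : Aq ⊗[R] B →ₐ[R] D := Algebra.TensorProduct.productMap f1 f2
  have hΨ : Ψ.comp τ = IsScalarTower.toAlgHom R (A ⊗[R] B) D := by
    apply Algebra.TensorProduct.ext'
    intro a b
    have e1 : Ψ (τ (a ⊗ₜ[R] b)) = ψ (algebraMap A Aq a) * algebraMap (A ⊗[R] B) D (1 ⊗ₜ b) := by
      simp [Ψ, τ, f1, f2]
    rw [AlgHom.comp_apply, e1, hψ, ← map_mul]
    have e4 : algebraMap A (A ⊗[R] B) a * 1 ⊗ₜ[R] b = a ⊗ₜ[R] b := by
      rw [Algebra.TensorProduct.algebraMap_apply, Algebra.TensorProduct.tmul_mul_tmul, mul_one, one_mul]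
      rfl
    rw [e4]
    rfl
  have hmem : ∀ n : ℕ, ∀ x ∈ m ^ n • (⊤ : Submodule Aq (Aq ⊗[R] B)),
      Ψ x ∈ (IsLocalRing.maximalIdeal D) ^ n := by
    intro n x hx
    induction hx using Submodule.smul_induction_on' with
    | smul r hr y hy =>
      have e2 : Ψ (r • y) = ψ r * Ψ y := by
        clear hy
        induction y using TensorProduct.induction_on with
        | zero => simp
        | tmul m f =>
          rw [TensorProduct.smul_tmul', smul_eq_mul, Algebra.TensorProduct.productMap_apply_tmul,
            Algebra.TensorProduct.productMap_apply_tmul, map_mul, mul_assoc]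
          rfl
        | add x y hx hy => rw [smul_add, map_add, map_add, hx, hy, mul_add]
      rw [e2]
      refine Ideal.mul_mem_right _ _ ?_
      have e3 : (m ^ n).map ψ ≤ (IsLocalRing.maximalIdeal D) ^ n := by
        rw [Ideal.map_pow]
        exact Ideal.pow_right_mono (((IsLocalRing.local_hom_TFAE ψ).out 0 2).1 hψloc) n
      exact e3 (Ideal.mem_map_of_mem _ hr)
    | add x _ y _ hx hy => rw [map_add]; exact add_mem hx hy
  have hfin : algebraMap (A ⊗[R] B) D t = Ψ (τ t) := congr($hΨ.symm t)
  have : algebraMap (A ⊗[R] B) D t ∈ ⨅ n : ℕ, (IsLocalRing.maximalIdeal D) ^ n := by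
    rw [Ideal.mem_iInf]
    intro n
    rw [hfin]
    exact hmem n _ (key n)
  rw [Ideal.iInf_pow_eq_bot_of_isLocalRing _ (Ideal.IsPrime.ne_top inferInstance)] at this
  exact this

end K12.DenseBC
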