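import Groth.Agent.SGA3x.K12.DenseBC
import Groth.Prelude.Def_MoreMor
import Mathlib.AlgebraicGeometry.Morphisms.Flat
import Mathlib.AlgebraicGeometry.Morphisms.FiniteType
import Mathlib.AlgebraicGeometry.Morphisms.ClosedImmersion
import Mathlib.AlgebraicGeometry.Noetherian
import Mathlib.AlgebraicGeometry.Fiber
import Mathlib.RingTheory.FiniteType

/-!
# Families of flat subschemes, schematically dense in all the fibres

`factors`: `f : X ⟶ S` locally of finite type, `v i : Z i ⟶ X` with `Z i` flat over `S`, schematically dense in all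
fibres of `f`, `g : T ⟶ S` with `T` locally noetherian. If `c : X ×_S T ⟶ W` is such that all the restrictions to
`Z i ×_S T` factor through the closed immersion `j : Y ⟶ W`, then `c` factors through `j`.
-/

set_option autoImplicit false
set_option maxHeartbeats 400000
universe u

open CategoryTheory AlgebraicGeometry Limits TopologicalSpace Opposite TensorProduct

namespace K12.DenseGeo

open DenseBC

section Push

variable {R B : CommRingCat.{u}} (β : R ⟶ B) {ι : Type u} {C : ι → CommRingCat.{u}} (χ : ∀ i, B ⟶ C i)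

/-- Joint injectivity after base change along `α : R ⟶ A`. -/
def CJ {A : CommRingCat.{u}} (α : R ⟶ A) : Prop :=
  letI := β.hom.toAlgebra
  letI := fun i => (χ i).hom.toAlgebra
  letI := fun i => (β ≫ χ i).hom.toAlgebra
  letI := α.hom.toAlgebra
  Joint (R := R) (B := B) (N := fun i => C i) (fun i =>
    ({ (χ i).hom with commutes' := fun _ => rfl } : B →ₐ[R] C i).toLinearMap) A

theorem CJ_iff {A : CommRingCat.{u}} (α : R ⟶ A) {D : CommRingCat.{u}} {δ : B ⟶ D} {γ : A ⟶ D}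
    (hD : IsPushout β α δ γ) {E : ι → CommRingCat.{u}} {δ' : ∀ i, C i ⟶ E i} {γ' : ∀ i, A ⟶ E i}
    (hE : ∀ i, IsPushout (β ≫ χ i) α (δ' i) (γ' i)) (m : ∀ i, D ⟶ E i) (hm1 : ∀ i, δ ≫ m i = χ i ≫ δ' i)
    (hm2 : ∀ i, γ ≫ m i = γ' i) :
    CJ β χ α ↔ ∀ t : D, (∀ i, (m i).hom t = 0) → t = 0 := by
  let i1 := β.hom.toAlgebra
  let i2 := fun i => (χ i).hom.toAlgebra
  let i3 := fun i => (β ≫ χ i).hom.toAlgebra
  let i4 := α.hom.toAlgebra
  let ψ : ∀ i, B →ₐ[R] C i := fun i => { (χ i).hom with commutes' := fun _ => rfl }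
  have h1 := (CommRingCat.isPushout_tensorProduct R A B).flip
  have h2 := fun i => (CommRingCat.isPushout_tensorProduct R A (C i)).flip
  let e := h1.isoIsPushout _ _ hD
  let e' := fun i => (h2 i).isoIsPushout _ _ (hE i)
  have hcomm : ∀ i, e.hom ≫ m i =
      CommRingCat.ofHom (Algebra.TensorProduct.map (AlgHom.id R A) (ψ i)).toRingHom ≫ (e' i).hom := by
    intro i
    apply h1.hom_ext
    · rw [h1.inl_isoIsPushout_hom_assoc _ _ hD, hm1, ← (h2 i).inl_isoIsPushout_hom _ _ (hE i),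
        ← Category.assoc, ← Category.assoc]
      congr 1
    · rw [h1.inr_isoIsPushout_hom_assoc _ _ hD, hm2, ← (h2 i).inr_isoIsPushout_hom _ _ (hE i),
        ← Category.assoc]
      congr 1
      ext a
      refine ((Algebra.TensorProduct.map_tmul (AlgHom.id R A) (ψ i) a 1).trans ?_).symm
      rw [map_one]
      rfl
  have hcomm' : ∀ i (z : A ⊗[R] B), (m i).hom (e.hom.hom z) = (e' i).hom.hom ((ψ i).toLinearMap.lTensor A z) :=
    fun i z => congr($(hcomm i) z)
  constructor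
  · intro h t ht
    obtain ⟨z, rfl⟩ := (ConcreteCategory.bijective_of_isIso e.hom).2 t
    have : z = 0 := h z fun i => by
      apply (ConcreteCategory.bijective_of_isIso (e' i).hom).1
      refine (hcomm' i z).symm.trans ?_
      rw [map_zero]
      exact ht i
    rw [this, map_zero]
  · intro h z hz
    apply (ConcreteCategory.bijective_of_isIso e.hom).1
    rw [map_zero]
    refine h _ fun i => ?_
    rw [hcomm' i z]
    have : (ψ i).toLinearMap.lTensor A z = 0 := hz i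
    rw [this, map_zero]

/-- **Joint injectivity from the fibres**, categorical form. -/
theorem CJ_of_fibres (hflat : ∀ i, (β ≫ χ i).hom.Flat) {A D : CommRingCat.{u}} (α : R ⟶ A) {δ : B ⟶ D} {γ : A ⟶ D}
    (hD : IsPushout β α δ γ) [IsNoetherianRing D]
    (h : ∀ (p : Ideal R) [p.IsPrime], ∃ (k : CommRingCat.{u}) (κ : R ⟶ k), IsField k ∧ RingHom.ker κ.hom = p ∧
      CJ β χ κ) : CJ β χ α := by
  let i1 := β.hom.toAlgebra
  let i2 := fun i => (χ i).hom.toAlgebra
  let i3 := fun i => (β ≫ χ i).hom.toAlgebra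
  let i4 := α.hom.toAlgebra
  have hN : IsNoetherianRing (A ⊗[R] B) := by
    have h1 := (CommRingCat.isPushout_tensorProduct R A B).flip
    let e := h1.isoIsPushout _ _ hD
    exact isNoetherianRing_of_ringEquiv D e.symm.commRingCatIsoToRingEquiv
  have hfl : ∀ i, Module.Flat R (C i) := hflat
  intro z hz
  refine main (R := R) (A := A) (B := B) (N := fun i => C i) _ ?_ z hz
  intro p hp
  obtain ⟨k, κ, hk, hker, hJ⟩ := h p
  let i5 := κ.hom.toAlgebra
  let i6 : Field k := hk.toField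
  exact ⟨k, i6, i5, hker, hJ⟩

end Push

section Spec

/-- The ring map of a point with values in a field. -/
noncomputable def ptMap {S : Scheme.{u}} {K : CommRingCat.{u}} (g : Spec K ⟶ S) (U : S.Opens) (h : ⊤ ≤ g ⁻¹ᵁ U) :
    Γ(S, U) ⟶ K := g.appLE U ⊤ h ≫ (Scheme.ΓSpecIso K).hom

theorem Spec_map_ptMap {S : Scheme.{u}} {K : CommRingCat.{u}} (g : Spec K ⟶ S) {U : S.Opens} (hU : IsAffineOpen U)
    (h : ⊤ ≤ g ⁻¹ᵁ U) : Spec.map (ptMap g U h) ≫ hU.fromSpec = g := by
  rw [ptMap, Spec.map_comp, Category.assoc, IsAffineOpen.SpecMap_appLE_fromSpec g hU (isAffineOpen_top _) h,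
    IsAffineOpen.fromSpec_top, SpecMap_ΓSpecIso_hom, Scheme.toSpecΓ_isoSpec_inv_assoc]

theorem ker_ptMap {S : Scheme.{u}} {K : CommRingCat.{u}} (hK : IsField K) (g : Spec K ⟶ S) {U : S.Opens}
    (hU : IsAffineOpen U) (h : ⊤ ≤ g ⁻¹ᵁ U) (x : Spec K) (p : PrimeSpectrum Γ(S, U))
    (hp : hU.fromSpec p = g x) : RingHom.ker (ptMap g U h).hom = p.asIdeal := by
  have h1 : hU.fromSpec ((Spec.map (ptMap g U h)) x) = hU.fromSpec p := by
    rw [hp, ← Scheme.Hom.comp_apply, Spec_map_ptMap g hU h]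
  have h2 : (Spec.map (ptMap g U h)) x = p := hU.fromSpec.isOpenEmbedding.injective h1
  have h3 : x.asIdeal = ⊥ := by
    let _ := hK.toField
    exact Ideal.eq_bot_of_prime _
  have h4 : ((Spec.map (ptMap g U h)) x).asIdeal = x.asIdeal.comap (ptMap g U h).hom := rfl
  rw [← h2, h4, h3]
  rfl

end Spec


section Main

variable {S X T : Scheme.{u}} (f : X ⟶ S) (g : T ⟶ S) {ι : Type u} {Z : ι → Scheme.{u}} (v : ∀ i, Z i ⟶ X)

/-- The map induced on the base changes. -/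
noncomputable abbrev bcMap (i : ι) : pullback (v i ≫ f) g ⟶ pullback f g :=
  pullback.map (v i ≫ f) g f g (v i) (𝟙 _) (𝟙 _) (Category.comp_id _) ((Category.comp_id _).trans (Category.id_comp _).symm)

theorem bcMap_fst (i : ι) : bcMap f g v i ≫ pullback.fst f g = pullback.fst (v i ≫ f) g ≫ v i :=
  pullback.lift_fst _ _ _

theorem bcMap_snd (i : ι) : bcMap f g v i ≫ pullback.snd f g = pullback.snd (v i ≫ f) g := by
  rw [bcMap, pullback.map, pullback.lift_snd, Category.comp_id]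

variable {US : S.Opens} {UT : T.Opens} {UX : X.Opens} (hUS : IsAffineOpen US) (hUT : IsAffineOpen UT)
  (hUX : IsAffineOpen UX) (hT : UT ≤ g ⁻¹ᵁ US) (hX : UX ≤ f ⁻¹ᵁ US)

/-- The affine opens of the `Z i` over `UX`. -/
abbrev Idx (UX : X.Opens) : Type u := Σ i, {W : (Z i).Opens // IsAffineOpen W ∧ W ≤ (v i) ⁻¹ᵁ UX}

/-- The restriction maps. -/
noncomputable abbrev resMap (w : Idx v UX) : Γ(X, UX) ⟶ Γ(Z w.1, w.2.1) := (v w.1).appLE UX w.2.1 w.2.2.2

/-- The affine open of the base change. -/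
noncomputable abbrev UP (UT : T.Opens) (UX : X.Opens) : (pullback f g).Opens :=
  pullback.fst f g ⁻¹ᵁ UX ⊓ pullback.snd f g ⁻¹ᵁ UT

theorem isPushout_UP (hUS : IsAffineOpen US) (hUT : IsAffineOpen UT)
    (hUX : IsAffineOpen UX) (hT : UT ≤ g ⁻¹ᵁ US) (hX : UX ≤ f ⁻¹ᵁ US) :
    IsPushout (f.appLE US UX hX) (g.appLE US UT hT)
      ((pullback.fst f g).appLE UX (UP f g UT UX) inf_le_left)
      ((pullback.snd f g).appLE UT (UP f g UT UX) inf_le_right) :=
  (isIso_pushoutSection_iff (.of_hasPullback f g) (US := US) (UT := UT) (UX := UX) hT hX rfl).1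
    (isIso_pushoutSection_of_isAffineOpen (.of_hasPullback f g) hT hX rfl hUS hUT hUX)

theorem bcMap_le {i : ι} {W : (Z i).Opens} (hW : W ≤ (v i) ⁻¹ᵁ UX) :
    UP (v i ≫ f) g UT W ≤ bcMap f g v i ⁻¹ᵁ UP f g UT UX := by
  intro z hz
  refine ⟨?_, ?_⟩
  · change (bcMap f g v i ≫ pullback.fst f g) z ∈ UX
    rw [bcMap_fst]
    exact hW hz.1
  · change (bcMap f g v i ≫ pullback.snd f g) z ∈ UT
    rw [bcMap_snd]
    exact hz.2

include hUS hUT hUX in
theorem CJ_iff_local (hT : UT ≤ g ⁻¹ᵁ US) (hX : UX ≤ f ⁻¹ᵁ US) :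
    CJ (f.appLE US UX hX) (resMap v (UX := UX)) (g.appLE US UT hT) ↔
      ∀ t : Γ(pullback f g, UP f g UT UX), (∀ w : Idx v UX,
        ((bcMap f g v w.1).appLE (UP f g UT UX) (UP (v w.1 ≫ f) g UT w.2.1) (bcMap_le f g v w.2.2.2)).hom t = 0) →
      t = 0 := by
  have hcomp : ∀ w : Idx v UX, w.2.1 ≤ (v w.1 ≫ f) ⁻¹ᵁ US := fun w x hx => hX (w.2.2.2 hx)
  have hcomp' : ∀ w : Idx v UX, f.appLE US UX hX ≫ resMap v w = (v w.1 ≫ f).appLE US w.2.1 (hcomp w) := by
    intro w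
    rw [Scheme.Hom.appLE_comp_appLE]
  have hE : ∀ w : Idx v UX, IsPushout (f.appLE US UX hX ≫ resMap v w) (g.appLE US UT hT)
      ((pullback.fst (v w.1 ≫ f) g).appLE w.2.1 (UP (v w.1 ≫ f) g UT w.2.1) inf_le_left)
      ((pullback.snd (v w.1 ≫ f) g).appLE UT (UP (v w.1 ≫ f) g UT w.2.1) inf_le_right) := by
    intro w
    rw [hcomp']
    exact isPushout_UP (v w.1 ≫ f) g hUS hUT w.2.2.1 hT (hcomp w)
  have hm1 : ∀ w : Idx v UX, (pullback.fst f g).appLE UX (UP f g UT UX) inf_le_left ≫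
      (bcMap f g v w.1).appLE (UP f g UT UX) (UP (v w.1 ≫ f) g UT w.2.1) (bcMap_le f g v w.2.2.2) =
      resMap v w ≫ (pullback.fst (v w.1 ≫ f) g).appLE w.2.1 (UP (v w.1 ≫ f) g UT w.2.1) inf_le_left := by
    intro w
    simp only [resMap, Scheme.Hom.appLE_comp_appLE, bcMap_fst]
  have hm2 : ∀ w : Idx v UX, (pullback.snd f g).appLE UT (UP f g UT UX) inf_le_right ≫
      (bcMap f g v w.1).appLE (UP f g UT UX) (UP (v w.1 ≫ f) g UT w.2.1) (bcMap_le f g v w.2.2.2) =
      (pullback.snd (v w.1 ≫ f) g).appLE UT (UP (v w.1 ≫ f) g UT w.2.1) inf_le_right := by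
    intro w
    simp only [Scheme.Hom.appLE_comp_appLE, bcMap_snd]
  exact CJ_iff _ _ _ (isPushout_UP f g hUS hUT hUX hT hX) hE _ hm1 hm2

/-- The fibrewise density. -/
def FibDense : Prop :=
  ∀ (s : S) (V : (f.fiber s).Opens) (t : Γ(f.fiber s, V)), (∀ i, (MoreMor.fiberMap (v i) f s).app V t = 0) → t = 0

variable {f v} in
include hUX in
theorem FibDense.exists_CJ (hb : FibDense f v) (hUS : IsAffineOpen US) (hX : UX ≤ f ⁻¹ᵁ US)
    (p : Ideal Γ(S, US)) [hp : p.IsPrime] :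
    ∃ (k : CommRingCat.{u}) (κ : Γ(S, US) ⟶ k), IsField k ∧ RingHom.ker κ.hom = p ∧
      CJ (f.appLE US UX hX) (resMap v (UX := UX)) κ := by
  let s : S := hUS.fromSpec ⟨p, hp⟩
  have hs : s ∈ US := by
    rw [← SetLike.mem_coe, ← hUS.range_fromSpec]
    exact ⟨_, rfl⟩
  let K := S.residueField s
  let g := S.fromSpecResidueField s
  have hT : ⊤ ≤ g ⁻¹ᵁ US := fun x _ => by
    change g x ∈ US
    rw [show g x = s from Scheme.fromSpecResidueField_apply s x]
    exact hs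
  have hK : IsField K := Semifield.toIsField _
  have hK' : IsField Γ(Spec K, ⊤) :=
    (Scheme.ΓSpecIso K).commRingCatIsoToRingEquiv.toMulEquiv.isField hK
  refine ⟨Γ(Spec K, ⊤), g.appLE US ⊤ hT, hK', ?_, ?_⟩
  · have h1 := ker_ptMap hK g hUS hT (IsLocalRing.closedPoint K) ⟨p, hp⟩
      (Scheme.fromSpecResidueField_apply s _).symm
    rw [ptMap] at h1
    refine Eq.trans ?_ h1
    ext a
    rw [RingHom.mem_ker, RingHom.mem_ker, CommRingCat.hom_comp, RingHom.comp_apply]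
    exact ((map_eq_zero_iff _ (ConcreteCategory.bijective_of_isIso (Scheme.ΓSpecIso K).hom).1)).symm
  · rw [CJ_iff_local f g v hUS (isAffineOpen_top _) hUX hT hX]
    intro t ht
    refine hb s _ t fun i => ?_
    change (bcMap f g v i).app _ t = 0
    apply (pullback (v i ≫ f) g).IsSheaf.section_ext
    intro z hz
    have hz' : (pullback.fst (v i ≫ f) g) z ∈ (v i) ⁻¹ᵁ UX := by
      have h3 : (bcMap f g v i ≫ pullback.fst f g) z ∈ UX := hz.1
      rw [bcMap_fst] at h3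
      exact h3
    obtain ⟨_, ⟨W, hW, rfl⟩, hxW, hWV⟩ :=
      (Z i).isBasis_affineOpens.exists_subset_of_mem_open (a := (pullback.fst (v i ≫ f) g) z)
        (u := (((v i) ⁻¹ᵁ UX : (Z i).Opens) : Set (Z i))) hz' ((v i) ⁻¹ᵁ UX).isOpen
    have hWV' : W ≤ (v i) ⁻¹ᵁ UX := hWV
    refine ⟨UP (v i ≫ f) g ⊤ W, bcMap_le f g v hWV', ⟨hxW, trivial⟩, ?_⟩
    rw [map_zero]
    exact ht ⟨i, W, hW, hWV'⟩

variable {f v} in
/-- **Factorisation through closed immersions.** -/
theorem FibDense.factors [LocallyOfFiniteType f] [IsLocallyNoetherian T] (hb : FibDense f v)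
    (hflat : ∀ i, Flat (v i ≫ f)) {W Y : Scheme.{u}} (j : Y ⟶ W) [IsClosedImmersion j] (c : pullback f g ⟶ W)
    (hc : ∀ i, ∃ l : pullback (v i ≫ f) g ⟶ Y, l ≫ j = bcMap f g v i ≫ c) :
    ∃ l : pullback f g ⟶ Y, l ≫ j = c := by
  let j' : pullback j c ⟶ pullback f g := pullback.snd j c
  suffices H : IsIso j' by
    exact ⟨inv j' ≫ pullback.fst j c, by
      rw [Category.assoc, pullback.condition, IsIso.inv_hom_id_assoc]⟩
  rw [IsClosedImmersion.isIso_iff_ker_eq_bot]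
  -- the local statement
  have loc : ∀ {US : S.Opens} {UT : T.Opens} {UX : X.Opens} (hUS : IsAffineOpen US) (hUT : IsAffineOpen UT)
      (hUX : IsAffineOpen UX) (hT : UT ≤ g ⁻¹ᵁ US) (hX : UX ≤ f ⁻¹ᵁ US) (t : Γ(pullback f g, UP f g UT UX)),
      (j'.app (UP f g UT UX)).hom t = 0 → t = 0 := by
    intro US UT UX hUS hUT hUX hT hX t ht
    have hfl : ∀ w : Idx v UX, (f.appLE US UX hX ≫ resMap v w).hom.Flat := by
      intro w
      rw [Scheme.Hom.appLE_comp_appLE]
      have := hflat w.1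
      exact HasRingHomProperty.appLE (P := @Flat) (v w.1 ≫ f) inferInstance ⟨US, hUS⟩ ⟨w.2.1, w.2.2.1⟩ _
    have hN : IsNoetherianRing Γ(pullback f g, UP f g UT UX) := by
      have hloc : IsLocallyNoetherian (pullback f g) :=
        LocallyOfFiniteType.isLocallyNoetherian (pullback.snd f g)
      have hUP : IsAffineOpen (UP f g UT UX) := by
        have : IsAffine _ := hUS
        have : IsAffine _ := hUT
        have : IsAffine _ := hUX
        exact .of_isIso (Scheme.Hom.isPullback_resLE (.of_hasPullback f g) hT hX rfl).isoPullback.hom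
      exact IsLocallyNoetherian.component_noetherian ⟨_, hUP⟩
    have hCJ := CJ_of_fibres (f.appLE US UX hX) (resMap v (UX := UX)) hfl (g.appLE US UT hT)
      (isPushout_UP f g hUS hUT hUX hT hX) (fun p hp => hb.exists_CJ hUX hUS hX p)
    refine (CJ_iff_local f g v hUS hUT hUX hT hX).1 hCJ t fun w => ?_
    obtain ⟨l, hl⟩ := hc w.1
    let l' : pullback (v w.1 ≫ f) g ⟶ pullback j c := pullback.lift l (bcMap f g v w.1) hl
    have hl' : l' ≫ j' = bcMap f g v w.1 := pullback.lift_snd _ _ _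
    have e1 : (bcMap f g v w.1).appLE (UP f g UT UX) (UP (v w.1 ≫ f) g UT w.2.1) (bcMap_le f g v w.2.2.2) =
        j'.app (UP f g UT UX) ≫ l'.appLE (j' ⁻¹ᵁ UP f g UT UX) (UP (v w.1 ≫ f) g UT w.2.1) (by
          have := bcMap_le f g v (UT := UT) w.2.2.2
          rwa [← hl'] at this) := by
      rw [Scheme.Hom.app_eq_appLE, Scheme.Hom.appLE_comp_appLE]
      congr 1
      exact hl'.symm
    rw [e1, CommRingCat.hom_comp, RingHom.comp_apply, ht, map_zero]
  -- the affine cover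
  let COV := {w : S.affineOpens × T.affineOpens × X.affineOpens //
    w.2.1.1 ≤ g ⁻¹ᵁ w.1.1 ∧ w.2.2.1 ≤ f ⁻¹ᵁ w.1.1}
  have hUP : ∀ w : COV, IsAffineOpen (UP f g w.1.2.1.1 w.1.2.2.1) := by
    rintro ⟨⟨US, UT, UX⟩, hT, hX⟩
    have : IsAffine _ := US.2
    have : IsAffine _ := UT.2
    have : IsAffine _ := UX.2
    exact .of_isIso (Scheme.Hom.isPullback_resLE (.of_hasPullback f g) hT hX rfl).isoPullback.hom
  refine Scheme.IdealSheafData.ext_of_iSup_eq_top (fun w : COV => ⟨_, hUP w⟩) ?_ ?_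
  · rw [eq_top_iff]
    intro z _
    let s : S := f (pullback.fst f g z)
    obtain ⟨_, ⟨US, hUS, rfl⟩, hsU, -⟩ :=
      S.isBasis_affineOpens.exists_subset_of_mem_open (a := s) (u := Set.univ) trivial isOpen_univ
    obtain ⟨_, ⟨UX, hUX, rfl⟩, hxU, hX⟩ :=
      X.isBasis_affineOpens.exists_subset_of_mem_open (a := pullback.fst f g z)
        (u := ((f ⁻¹ᵁ US : X.Opens) : Set X)) hsU (f ⁻¹ᵁ US).isOpen
    have hg : g (pullback.snd f g z) = s := by
      change (pullback.snd f g ≫ g) z = (pullback.fst f g ≫ f) z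
      rw [pullback.condition]
    obtain ⟨_, ⟨UT, hUT, rfl⟩, htU, hT⟩ :=
      T.isBasis_affineOpens.exists_subset_of_mem_open (a := pullback.snd f g z)
        (u := ((g ⁻¹ᵁ US : T.Opens) : Set T)) (by
          change g (pullback.snd f g z) ∈ US
          rw [hg]; exact hsU) (g ⁻¹ᵁ US).isOpen
    rw [Opens.mem_iSup]
    exact ⟨⟨⟨⟨US, hUS⟩, ⟨UT, hUT⟩, ⟨UX, hUX⟩⟩, hT, hX⟩, ⟨hxU, htU⟩⟩
  · rintro ⟨⟨⟨US, hUS⟩, ⟨UT, hUT⟩, ⟨UX, hUX⟩⟩, hT, hX⟩
    rw [Scheme.Hom.ker_apply]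
    exact le_antisymm (fun t ht => loc hUS hUT hUX hT hX t ht) bot_le

end Main

end K12.DenseGeo
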