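import Mathlib.RingTheory.Valuation.LocalSubring
import Mathlib.Algebra.MvPolynomial.Eval
import Mathlib.LinearAlgebra.Dual.Lemmas
import Mathlib.LinearAlgebra.Basis.VectorSpace
import Mathlib.RingTheory.LocalRing.ResidueField.Basic

/-!
# Zariski dense families of points in affine space and specialization

* `dense_ext`: a family of `k`-rational points of affine space which is dense over `k` is dense over any extension of
  `k`;
* `dense_spec`: `A` a local ring, `α : A →+* K` a homomorphism to a field; a family of `A`-valued points of affine space
  whose reductions are dense over the residue field of `A` has dense image in the affine space over `K`.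
-/

set_option autoImplicit false

namespace K12.DenseSpec

open MvPolynomial

variable {I σ : Type*}

/-- Dense families of rational points remain dense over extensions. -/
theorem dense_ext {k K : Type*} [Field k] [Field K] [Algebra k K] (b : I → σ → k)
    (h : ∀ g : MvPolynomial σ k, (∀ i, eval (b i) g = 0) → g = 0) (g : MvPolynomial σ K)
    (hg : ∀ i, eval (fun j => algebraMap k K (b i j)) g = 0) : g = 0 := by
  classical
  ext m
  rw [coeff_zero, ← Module.forall_dual_apply_eq_zero_iff k]
  intro l
  let gl : MvPolynomial σ k := ∑ n ∈ g.support, monomial n (l (coeff n g))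
  have h1 : gl = 0 := by
    refine h gl fun i => ?_
    have h2 := hg i
    rw [eval_eq] at h2
    have h3 := congrArg l h2
    rw [map_zero, map_sum] at h3
    simp only [gl]
    rw [map_sum]
    refine Eq.trans (Finset.sum_congr rfl fun n hn => ?_) h3
    rw [eval_monomial]
    have h4 : (∏ j ∈ n.support, algebraMap k K (b i j) ^ n j) = algebraMap k K (n.prod fun j e => b i j ^ e) := by
      rw [Finsupp.prod, map_prod]
      simp only [map_pow]
    rw [h4, mul_comm (coeff n g), ← Algebra.smul_def, map_smul, smul_eq_mul, mul_comm]
  have h2 := congrArg (coeff m) h1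
  simp only [gl, coeff_sum, coeff_monomial, coeff_zero, Finset.sum_ite_eq'] at h2
  by_cases hm : m ∈ g.support
  · rwa [if_pos hm] at h2
  · rw [notMem_support_iff.mp hm, map_zero]

/-- A nonzero polynomial over the fraction field of a valuation ring has a multiple with integral coefficients, one of
which is `1`. -/
theorem exists_integral {K : Type*} [Field K] (V : ValuationSubring K) (g : MvPolynomial σ K) (hg : g ≠ 0) :
    ∃ (c : K) (g' : MvPolynomial σ V) (m : σ →₀ ℕ), C c * g = map V.subtype g' ∧ coeff m g' = 1 := by
  classical
  obtain ⟨m, hm, hmax⟩ := g.support.exists_max_image (fun n => V.valuation (coeff n g)) (support_nonempty.mpr hg)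
  have hm0 : coeff m g ≠ 0 := mem_support_iff.mp hm
  have h1 : ∀ n, (coeff m g)⁻¹ * coeff n g ∈ V := by
    intro n
    by_cases hn : n ∈ g.support
    · rw [← V.valuation_le_one_iff, map_mul, map_inv₀]
      have h2 : V.valuation (coeff n g) ≤ V.valuation (coeff m g) := hmax n hn
      rw [mul_comm, ← div_eq_mul_inv]
      exact div_le_one_of_le₀ h2 zero_le'
    · rw [notMem_support_iff.mp hn, mul_zero]
      exact V.zero_mem
  let g' : MvPolynomial σ V := ∑ n ∈ g.support, monomial n ⟨_, h1 n⟩
  have h2 : ∀ n, ((coeff n g' : V) : K) = (coeff m g)⁻¹ * coeff n g := by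
    intro n
    simp only [g', coeff_sum, coeff_monomial, Finset.sum_ite_eq']
    by_cases hn : n ∈ g.support
    · rw [if_pos hn]
    · rw [if_neg hn, notMem_support_iff.mp hn, mul_zero]
      rfl
  refine ⟨(coeff m g)⁻¹, g', m, ?_, ?_⟩
  · ext n
    rw [coeff_C_mul, coeff_map]
    exact (h2 n).symm
  · apply Subtype.ext
    rw [h2, inv_mul_cancel₀ hm0]
    rfl

/-- **Dense families of points and specialization.** -/
theorem dense_spec {A : Type*} [CommRing A] [IsLocalRing A] {K : Type*} [Field K] (α : A →+* K) (b : I → σ → A)
    (h : ∀ g : MvPolynomial σ (IsLocalRing.ResidueField A),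
      (∀ i, eval (fun j => IsLocalRing.residue A (b i j)) g = 0) → g = 0)
    (g : MvPolynomial σ K) (hg : ∀ i, eval (fun j => α (b i j)) g = 0) : g = 0 := by
  by_contra hg0
  obtain ⟨V, hV, hloc⟩ := IsLocalRing.exists_factor_valuationRing α
  obtain ⟨c, g', m, hg', hm⟩ := exists_integral V g hg0
  let β : A →+* V := α.codRestrict V.toSubring hV
  have hβ : IsLocalHom β := hloc
  let κ := IsLocalRing.ResidueField V
  let _ : Algebra (IsLocalRing.ResidueField A) κ := (IsLocalRing.ResidueField.map β).toAlgebra
  -- the integral polynomial vanishes at the integral points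
  have h1 : ∀ i, eval (fun j => β (b i j)) g' = 0 := by
    intro i
    apply V.subtype_injective
    rw [map_zero]
    have h2 : V.subtype (eval (fun j => β (b i j)) g') = eval (fun j => α (b i j)) (map V.subtype g') := by
      rw [eval_map, ← eval₂_id]
      exact eval₂_comp_left V.subtype (RingHom.id _) (fun j => β (b i j)) g'
    rw [h2, ← hg', map_mul, hg, mul_zero]
  -- reduce
  have h3 : map (IsLocalRing.residue V) g' = 0 := by
    refine dense_ext (k := IsLocalRing.ResidueField A) (K := κ) (fun i j => IsLocalRing.residue A (b i j)) h _
      fun i => ?_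
    have h4 : eval (fun j => algebraMap (IsLocalRing.ResidueField A) κ (IsLocalRing.residue A (b i j)))
        (map (IsLocalRing.residue V) g') = IsLocalRing.residue V (eval (fun j => β (b i j)) g') := by
      rw [eval_map, ← eval₂_id]
      exact (eval₂_comp_left (IsLocalRing.residue V) (RingHom.id _) (fun j => β (b i j)) g').symm
    rw [h4, h1, map_zero]
  have h5 := congrArg (coeff m) h3
  rw [coeff_map, hm, map_one, coeff_zero] at h5
  exact one_ne_zero h5

end K12.DenseSpec
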