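import Groth.Agent.SGA3x.K12.TrivKer
import Groth.Agent.Sga3.H813.MaxTorDesc

/-!
# Factorisations over a base change

`Fac c f g`: over `c : S' ⟶ S`, the points of `f : X ⟶ Z` are points of `g : Y ⟶ Z`.

* `fac_iff`: this means that the base change of `f` factors through the base change of `g`;
* `Fac.comp`, `fac_bc_iff`: base change;
* `Fac.desc`: descent along a flat quasi-compact surjection, for `g` a monomorphism over `c`;
* `exists_iso`: two monomorphisms which factor through each other.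
-/

set_option autoImplicit false
universe u
open CategoryTheory MonoidalCategory CartesianMonoidalCategory MonObj GrpObj AlgebraicGeometry Limits
open Groth.Agent

namespace K12.FibFac

variable {S S' S'' : Scheme.{u}} {X Y Z : Over S}

/-- Over `c`, the points of `f` are points of `g`. -/
def Fac (c : S' ⟶ S) (f : X ⟶ Z) (g : Y ⟶ Z) : Prop :=
  ∀ (T : Over S) (t : T.left ⟶ S') (_ : t ≫ c = T.hom) (x : T ⟶ X), ∃ y : T ⟶ Y, y ≫ g = x ≫ f

theorem Fac.comp {c : S' ⟶ S} {f : X ⟶ Z} {g : Y ⟶ Z} (h : Fac c f g) (σ : S'' ⟶ S') : Fac (σ ≫ c) f g :=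
  fun T t ht x => h T (t ≫ σ) (by rw [Category.assoc, ht]) x

theorem Fac.of_hom (c : S' ⟶ S) {f : X ⟶ Z} {g : Y ⟶ Z} (a : X ⟶ Y) (ha : a ≫ g = f) : Fac c f g :=
  fun _ _ _ x => ⟨x ≫ a, by rw [Category.assoc, ha]⟩

theorem Fac.trans {c : S' ⟶ S} {W : Over S} {f : X ⟶ Z} {g : Y ⟶ Z} {h : W ⟶ Z} (h₁ : Fac c f g) (h₂ : Fac c g h) :
    Fac c f h := fun T t ht x => by
  obtain ⟨y, hy⟩ := h₁ T t ht x
  obtain ⟨w, hw⟩ := h₂ T t ht y
  exact ⟨w, hw.trans hy⟩

theorem Fac.pre {c : S' ⟶ S} {f : X ⟶ Z} {g : Y ⟶ Z} {X' : Over S} (h : Fac c f g) (e : X' ⟶ X) : Fac c (e ≫ f) g :=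
  fun T t ht x => by
    obtain ⟨y, hy⟩ := h T t ht (x ≫ e)
    exact ⟨y, by rw [hy, Category.assoc]⟩

theorem Fac.of_pre {c : S' ⟶ S} {f : X ⟶ Z} {g : Y ⟶ Z} {X' : Over S} (e : X' ⟶ X) [IsIso e] (h : Fac c (e ≫ f) g) :
    Fac c f g := fun T t ht x => by
  obtain ⟨y, hy⟩ := h T t ht (x ≫ inv e)
  exact ⟨y, by rw [hy, Category.assoc, IsIso.inv_hom_id_assoc]⟩

theorem Fac.post_iso {c : S' ⟶ S} {f : X ⟶ Z} {g : Y ⟶ Z} {Y' : Over S} (h : Fac c f g) (e : Y' ⟶ Y) [IsIso e] :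
    Fac c f (e ≫ g) := fun T t ht x => by
  obtain ⟨y, hy⟩ := h T t ht x
  exact ⟨y ≫ inv e, by rw [Category.assoc, IsIso.inv_hom_id_assoc, hy]⟩

theorem Fac.of_post {c : S' ⟶ S} {f : X ⟶ Z} {g : Y ⟶ Z} {Y' : Over S} (e : Y' ⟶ Y) (h : Fac c f (e ≫ g)) :
    Fac c f g := fun T t ht x => by
  obtain ⟨y, hy⟩ := h T t ht x
  exact ⟨y ≫ e, by rw [Category.assoc, hy]⟩

theorem fac_id_iff {f : X ⟶ Z} {g : Y ⟶ Z} : Fac (𝟙 S) f g ↔ ∃ h : X ⟶ Y, h ≫ g = f := by
  constructor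
  · intro h
    obtain ⟨y, hy⟩ := h X X.hom (Category.comp_id _) (𝟙 X)
    exact ⟨y, hy.trans (Category.id_comp f)⟩
  · rintro ⟨a, ha⟩
    exact Fac.of_hom _ a ha

theorem fac_bc_iff (v : S' ⟶ S) (ρ : S'' ⟶ S') (f : X ⟶ Z) (g : Y ⟶ Z) :
    Fac ρ ((Over.pullback v).map f) ((Over.pullback v).map g) ↔ Fac (ρ ≫ v) f g := by
  let adj := Over.mapPullbackAdj v
  constructor
  · intro h T t ht x
    let T' : Over S' := Over.mk (t ≫ ρ)
    let i : (Over.map v).obj T' ≅ T := Over.isoMk (Iso.refl _) (by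
      change 𝟙 _ ≫ T.hom = (t ≫ ρ) ≫ v
      rw [Category.id_comp, Category.assoc, ht])
    obtain ⟨y', hy'⟩ := h T' t rfl (adj.homEquiv _ _ (i.hom ≫ x))
    refine ⟨i.inv ≫ (adj.homEquiv _ _).symm y', ?_⟩
    rw [Category.assoc, ← Adjunction.homEquiv_naturality_right_symm, hy', Adjunction.homEquiv_naturality_right_symm,
      Equiv.symm_apply_apply, Category.assoc, Iso.inv_hom_id_assoc]
  · intro h T t ht x
    obtain ⟨y, hy⟩ := h ((Over.map v).obj T) t (by rw [← Category.assoc, ht]; rfl) ((adj.homEquiv _ _).symm x)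
    refine ⟨adj.homEquiv _ _ y, ?_⟩
    rw [← Adjunction.homEquiv_naturality_right, hy, Adjunction.homEquiv_naturality_right, Equiv.apply_symm_apply]

/-- The form with the base changes. -/
theorem fac_iff (c : S' ⟶ S) (f : X ⟶ Z) (g : Y ⟶ Z) :
    Fac c f g ↔ ∃ h : (Over.pullback c).obj X ⟶ (Over.pullback c).obj Y,
      h ≫ (Over.pullback c).map g = (Over.pullback c).map f := by
  rw [← fac_id_iff, fac_bc_iff, Category.id_comp]

/-- Descent along a flat quasi-compact surjection. -/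
theorem Fac.desc {c : S' ⟶ S} {f : X ⟶ Z} {g : Y ⟶ Z} (hg : Mono ((Over.pullback c).map g)) (σ : S'' ⟶ S') [Flat σ]
    [Surjective σ] [QuasiCompact σ] (h : Fac (σ ≫ c) f g) : Fac c f g := by
  rw [fac_iff]
  rw [← fac_bc_iff, fac_iff] at h
  obtain ⟨l, hl⟩ := h
  let f' := (Over.pullback c).map f
  let g' := (Over.pullback c).map g
  have hg' : Mono g' := hg
  have hm : Mono (pullback.fst f' g') := inferInstance
  have hm' : Mono ((Over.pullback σ).map (pullback.fst f' g')) := inferInstance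
  have hiso : IsIso ((Over.pullback σ).map (pullback.fst f' g')) := by
    have hpb := (IsPullback.of_hasPullback f' g').map (Over.pullback σ)
    let s := hpb.lift (𝟙 _) l (by rw [Category.id_comp]; exact hl.symm)
    have hs : s ≫ (Over.pullback σ).map (pullback.fst f' g') = 𝟙 _ := hpb.lift_fst _ _ _
    have : IsSplitEpi ((Over.pullback σ).map (pullback.fst f' g')) := ⟨⟨⟨s, hs⟩⟩⟩
    exact isIso_of_mono_of_isSplitEpi _
  have hi : IsIso (pullback.fst f' g') := Sga3.H813.MaxTorDesc.isIso_of_bc σ _ hiso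
  exact ⟨inv (pullback.fst f' g') ≫ pullback.snd f' g', by
    rw [Category.assoc, ← pullback.condition, IsIso.inv_hom_id_assoc]⟩

/-- Two monomorphisms which factor through each other. -/
theorem exists_iso {C : Type*} [Category C] {X Y Z : C} (f : X ⟶ Z) (g : Y ⟶ Z) [Mono f] [Mono g]
    (h₁ : ∃ a : X ⟶ Y, a ≫ g = f) (h₂ : ∃ b : Y ⟶ X, b ≫ f = g) : ∃ e : X ≅ Y, e.hom ≫ g = f := by
  obtain ⟨a, ha⟩ := h₁
  obtain ⟨b, hb⟩ := h₂
  refine ⟨⟨a, b, ?_, ?_⟩, ha⟩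
  · rw [← cancel_mono f, Category.assoc, hb, ha, Category.id_comp]
  · rw [← cancel_mono g, Category.assoc, ha, hb, Category.id_comp]

end K12.FibFac
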