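import Groth.Agent.SGA3x.K12.FibTrait
import Groth.Agent.AlgSt.K735.DvrSpec
import Groth.Agent.SGA3.K207.SubTorMain

/-!
# Specialisation of the condition "`Φ` is a monomorphism with torsion `M`"

`S = Spec A` noetherian, `q > 1` invertible in `A`, `Φ : D(ℤ^r) ⟶ G`, `M k ⟶ G` a coherent family of subgroups of
multiplicative type killed by `q ^ k`.

* `Cond`: over `c : S' ⟶ S`, `Φ` is a monomorphism and `M k` is the image of `D((ℤ/q^k)^r)`;
* `Cond.comp`, `Cond.desc`, `cond_bc_iff`: base change and descent;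
* `main`: if the condition holds at `t` it holds at every specialisation `s` of `t`.
-/

set_option autoImplicit false
universe u
open CategoryTheory MonoidalCategory CartesianMonoidalCategory MonObj GrpObj AlgebraicGeometry Limits
open Groth.Agent

namespace K12.FibSpec

open K211.TorsQ FibFac FibTrait TrivKer NormKit

variable {S S' S'' : Scheme.{u}} {r : ℕ} {G : Over S} [GrpObj G]

/-- Over `c`, `Φ` is a monomorphism and `M k` is the image of `D((ℤ/q^k)^r)`. -/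
def Cond (Φ : Red.DS S (Fin r → ℤ) ⟶ G) (q : ℕ) (M : ℕ → Over S) (m : ∀ k, M k ⟶ G) {S' : Scheme.{u}}
    (c : S' ⟶ S) : Prop :=
  Mono ((Over.pullback c).map Φ) ∧ ∀ k, Fac c (Red.DSmap S (cz r (q ^ k)) ≫ Φ) (m k) ∧
    Fac c (m k) (Red.DSmap S (cz r (q ^ k)) ≫ Φ)

theorem mono_DSmap (S : Scheme.{u}) {M N : Type} [AddCommGroup M] [AddCommGroup N] (φ : M →+ N)
    (hφ : Function.Surjective φ) : Mono (Red.DSmap S φ) := by
  have := K7.DSProp.mono_DSmap_left (S := S) φ hφ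
  exact (Over.forget _).mono_of_mono_map this

omit [GrpObj G] in
theorem mono_tors {Φ : Red.DS S (Fin r → ℤ) ⟶ G} {c : S' ⟶ S} (h : Mono ((Over.pullback c).map Φ)) (n : ℕ) :
    Mono ((Over.pullback c).map (Red.DSmap S (cz r n) ≫ Φ)) := by
  have h1 := mono_DSmap S (cz r n) (cz_surjective r n)
  rw [Functor.map_comp]
  exact mono_comp _ _

variable {Φ : Red.DS S (Fin r → ℤ) ⟶ G} {q : ℕ} {M : ℕ → Over S} {m : ∀ k, M k ⟶ G}

omit [GrpObj G] in
/-- The form with isomorphisms. -/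
theorem cond_iff (hm : ∀ k, Mono (m k)) (c : S' ⟶ S) :
    Cond Φ q M m c ↔ Mono ((Over.pullback c).map Φ) ∧
      ∀ k, ∃ e : (Over.pullback c).obj (Red.DS S (Fin r → ZMod (q ^ k))) ≅ (Over.pullback c).obj (M k),
        e.hom ≫ (Over.pullback c).map (m k) = (Over.pullback c).map (Red.DSmap S (cz r (q ^ k)) ≫ Φ) := by
  constructor
  · rintro ⟨h, h2⟩
    refine ⟨h, fun k => ?_⟩
    have h3 := mono_tors h (q ^ k)
    have h4 : Mono ((Over.pullback c).map (m k)) := inferInstance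
    exact exists_iso _ _ ((fac_iff c _ _).1 (h2 k).1) ((fac_iff c _ _).1 (h2 k).2)
  · rintro ⟨h, h2⟩
    refine ⟨h, fun k => ?_⟩
    obtain ⟨e, he⟩ := h2 k
    exact ⟨(fac_iff c _ _).2 ⟨e.hom, he⟩, (fac_iff c _ _).2 ⟨e.inv, by rw [← he, Iso.inv_hom_id_assoc]⟩⟩

theorem Cond.comp [IsMonHom Φ] {c : S' ⟶ S} (h : Cond Φ q M m c) (σ : S'' ⟶ S') : Cond Φ q M m (σ ≫ c) :=
  ⟨(trivOver_iff_mono _ _).1 (((trivOver_iff_mono _ _).2 h.1).comp σ), fun k => ⟨(h.2 k).1.comp σ, (h.2 k).2.comp σ⟩⟩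

theorem Cond.desc [IsMonHom Φ] (hm : ∀ k, Mono (m k)) {c : S' ⟶ S} (σ : S'' ⟶ S') [Flat σ] [Surjective σ]
    [QuasiCompact σ] (h : Cond Φ q M m (σ ≫ c)) : Cond Φ q M m c := by
  obtain ⟨h1, h2⟩ := h
  have h3 : Mono ((Over.pullback c).map Φ) := by
    refine (trivOver_iff_mono c Φ).1 ?_
    have h5 := (trivOver_bc_iff c σ Φ).2 ((trivOver_iff_mono (σ ≫ c) Φ).2 h1)
    have h4 : TrivOver (H := Red.bc c (Red.DS S (Fin r → ℤ))) (G := Red.bc c G) (𝟙 S') ((Over.pullback c).map Φ) :=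
      TrivOver.of_range σ (by rw [Set.range_eq_univ.mpr σ.surjective]; exact Set.subset_univ _) h5
    rw [trivOver_bc_iff, Category.id_comp] at h4
    exact h4
  exact ⟨h3, fun k => ⟨(h2 k).1.desc inferInstance σ, (h2 k).2.desc (mono_tors h3 _) σ⟩⟩

/-- The base change of `Φ`. -/
noncomputable def bcΦ (v : S' ⟶ S) (Φ : Red.DS S (Fin r → ℤ) ⟶ G) : Red.DS S' (Fin r → ℤ) ⟶ Red.bc v G :=
  (Sga3B.TorusAlgClosed.dsBcIso v (Fin r → ℤ)).inv.hom.hom ≫ (Over.pullback v).map Φ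

instance (v : S' ⟶ S) (Φ : Red.DS S (Fin r → ℤ) ⟶ G) [IsMonHom Φ] : IsMonHom (bcΦ v Φ) :=
  inferInstanceAs (IsMonHom ((Sga3B.TorusAlgClosed.dsBcIso v (Fin r → ℤ)).inv.hom.hom ≫ (Over.pullback v).map Φ))

omit [GrpObj G] in
theorem map_tors (v : S' ⟶ S) (Φ : Red.DS S (Fin r → ℤ) ⟶ G) (n : ℕ) :
    (Over.pullback v).map (Red.DSmap S (cz r n) ≫ Φ) =
      (Sga3B.TorusAlgClosed.dsBcIso v (Fin r → ZMod n)).hom.hom.hom ≫ Red.DSmap S' (cz r n) ≫ bcΦ v Φ := by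
  have hM : (Sga3B.TorusAlgClosed.dsBcIso v (Fin r → ℤ)).hom.hom.hom ≫
      (Sga3B.TorusAlgClosed.dsBcIso v (Fin r → ℤ)).inv.hom.hom = 𝟙 _ :=
    congrArg (fun k => k.hom.hom) (Sga3B.TorusAlgClosed.dsBcIso v (Fin r → ℤ)).hom_inv_id
  have h1 : (Over.pullback v).map (Red.DSmap S (cz r n)) ≫ (Sga3B.TorusAlgClosed.dsBcIso v (Fin r → ℤ)).hom.hom.hom =
      (Sga3B.TorusAlgClosed.dsBcIso v (Fin r → ZMod n)).hom.hom.hom ≫ Red.DSmap S' (cz r n) :=
    Sga3B.SplitBc264.DSmap_bc v (cz r n)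
  unfold bcΦ
  rw [← reassoc_of% h1, reassoc_of% hM, Functor.map_comp]

theorem cond_bc_iff [IsMonHom Φ] (v : S' ⟶ S) (ρ : S'' ⟶ S') :
    Cond (bcΦ v Φ) q (fun k => Red.bc v (M k)) (fun k => (Over.pullback v).map (m k)) ρ ↔ Cond Φ q M m (ρ ≫ v) := by
  have hi : IsIso (Sga3B.TorusAlgClosed.dsBcIso v (Fin r → ℤ)).inv.hom.hom :=
    inferInstanceAs (IsIso ((Grp.forget _).map (Sga3B.TorusAlgClosed.dsBcIso v (Fin r → ℤ)).inv))
  have hi2 : ∀ n, IsIso (Sga3B.TorusAlgClosed.dsBcIso v (Fin r → ZMod n)).hom.hom.hom := fun n =>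
    inferInstanceAs (IsIso ((Grp.forget _).map (Sga3B.TorusAlgClosed.dsBcIso v (Fin r → ZMod n)).hom))
  have h1 : Mono ((Over.pullback ρ).map (bcΦ v Φ)) ↔ Mono ((Over.pullback (ρ ≫ v)).map Φ) := by
    have h4 := trivOver_iff_mono ρ (bcΦ v Φ)
    have h5 := trivOver_iff_mono (ρ ≫ v) Φ
    have h6 := trivOver_bc_iff v ρ Φ
    rw [← h4, ← h5, ← h6]
    exact ⟨fun h => h.of_iso_comp _, fun h => h.iso_comp _⟩
  have h2 : ∀ k, Fac ρ (Red.DSmap S' (cz r (q ^ k)) ≫ bcΦ v Φ) ((Over.pullback v).map (m k)) ↔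
      Fac (ρ ≫ v) (Red.DSmap S (cz r (q ^ k)) ≫ Φ) (m k) := fun k => by
    rw [← fac_bc_iff, map_tors]
    exact ⟨fun h => h.pre _, fun h => h.of_pre _⟩
  have h3 : ∀ k, Fac ρ ((Over.pullback v).map (m k)) (Red.DSmap S' (cz r (q ^ k)) ≫ bcΦ v Φ) ↔
      Fac (ρ ≫ v) (m k) (Red.DSmap S (cz r (q ^ k)) ≫ Φ) := fun k => by
    rw [← fac_bc_iff, map_tors]
    exact ⟨fun h => h.post_iso _, fun h => h.of_post _⟩
  unfold Cond
  rw [h1]
  simp only [h2, h3]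

/-- **The trait case.** -/
theorem dvr {V : Type u} [CommRing V] [IsDomain V] [IsDiscreteValuationRing V] {q r : ℕ}
    {G : Over (Spec (CommRingCat.of V))} [GrpObj G] [LocallyOfFiniteType G.hom] [QuasiCompact G.hom]
    (hq : 1 < q) (hqu : IsUnit (q : V)) (Φ : Red.DS (Spec (CommRingCat.of V)) (Fin r → ℤ) ⟶ G) [IsMonHom Φ]
    (M : ℕ → Over (Spec (CommRingCat.of V))) (grp : ∀ k, GrpObj (M k)) (m : ∀ k, M k ⟶ G)
    (hm : ∀ k, IsMonHom (m k) ∧ Mono (m k) ∧ SGA3x.IsMultTypeFT (M k))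
    (hpow : ∀ k, (𝟙 (M k) : M k ⟶ M k) ^ (q ^ k) = 1) (hcoh : ∀ j k : ℕ, j ≤ k → ∃ f : M j ⟶ M k, f ≫ m k = m j)
    (h : Cond Φ q M m (Neron.genPt V)) :
    Cond Φ q M m (Spec.map (CommRingCat.ofHom (IsLocalRing.residue V))) := by
  have hmo : ∀ k, Mono (m k) := fun k => (hm k).2.1
  rw [cond_iff hmo] at h
  refine ⟨dvr_mono Φ h.1, fun k => ?_⟩
  obtain ⟨e, he⟩ := dvr_exists_iso hq hqu Φ M grp m hm hpow hcoh h.2 k
  exact ⟨Fac.of_hom _ e.hom he, Fac.of_hom _ e.inv (by rw [← he, Iso.inv_hom_id_assoc])⟩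

theorem exists_factor_of_apply {k : Type u} [Field k] (c : Spec (CommRingCat.of k) ⟶ S) (x : Spec (CommRingCat.of k))
    {t : S} (h : c x = t) : ∃ σ : Spec (CommRingCat.of k) ⟶ Spec (CommRingCat.of (S.residueField t)),
      σ ≫ S.fromSpecResidueField t = c := by
  obtain ⟨s, σ, hσ⟩ := exists_factor c
  have h1 : s = t := by
    rw [← h, ← hσ, Scheme.Hom.comp_apply]
    exact (Scheme.fromSpecResidueField_apply s _).symm
  subst h1
  exact ⟨σ, hσ⟩

/-- **Specialisation of the condition.** -/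
theorem main [IsLocallyNoetherian S] [QuasiCompact G.hom] [LocallyOfFiniteType G.hom] (hq : 1 < q)
    (hn : ∀ s : S, (q : S.residueField s) ≠ 0) (Φ : Red.DS S (Fin r → ℤ) ⟶ G) [IsMonHom Φ]
    (M : ℕ → Over S) (grp : ∀ k, GrpObj (M k)) (m : ∀ k, M k ⟶ G)
    (hm : ∀ k, IsMonHom (m k) ∧ Mono (m k) ∧ SGA3x.IsMultTypeFT (M k))
    (hcoh : ∀ j k : ℕ, j ≤ k → ∃ f : M j ⟶ M k, f ≫ m k = m j ∧
      AlgGrp.IsKernel f ((𝟙 (M k) : M k ⟶ M k) ^ (q ^ j))) {t s : S} (hts : t ⤳ s)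
    (h : Cond Φ q M m (S.fromSpecResidueField t)) : Cond Φ q M m (S.fromSpecResidueField s) := by
  obtain ⟨V, _, _, _, α, κ, h1, h2, h3⟩ := K735.DvrSpec.exists_dvr (𝟙 S) t s hts
  have hgen : κ = Neron.genPt V ≫ α := (Category.comp_id κ).symm.trans h1
  obtain ⟨σ, hσ⟩ := exists_factor_of_apply κ (IsLocalRing.closedPoint (FractionRing V)) (h2 _)
  let c : Spec (CommRingCat.of (IsLocalRing.ResidueField V)) ⟶ Spec (CommRingCat.of V) :=
    Spec.map (CommRingCat.ofHom (IsLocalRing.residue V))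
  obtain ⟨τ, hτ⟩ := exists_factor_of_apply (c ≫ α) (IsLocalRing.closedPoint (IsLocalRing.ResidueField V)) (t := s) (by
    rw [Scheme.Hom.comp_apply, ← h3]
    exact congrArg α (IsLocalRing.PrimeSpectrum.comap_residue V _))
  have hqu : IsUnit (q : V) := by
    by_contra h0
    have h4 : (q : V) ∈ IsLocalRing.maximalIdeal V := (IsLocalRing.mem_maximalIdeal _).2 h0
    refine NormEt.natCast_ne_zero_of hn (c ≫ α) ?_
    rw [← map_natCast (IsLocalRing.residue V)]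
    exact (IsLocalRing.residue_eq_zero_iff _).2 h4
  have hlft : LocallyOfFiniteType (Red.bc α G).hom := inferInstanceAs (LocallyOfFiniteType (pullback.snd G.hom α))
  have hqc : QuasiCompact (Red.bc α G).hom := inferInstanceAs (QuasiCompact (pullback.snd G.hom α))
  have hmo : ∀ k, Mono (m k) := fun k => (hm k).2.1
  have hmm : ∀ k, IsMonHom (m k) := fun k => (hm k).1
  have h4 : Cond (bcΦ α Φ) q (fun k => Red.bc α (M k)) (fun k => (Over.pullback α).map (m k)) (Neron.genPt V) := by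
    rw [cond_bc_iff, ← hgen, ← hσ]
    exact h.comp σ
  have h5 := dvr (G := Red.bc α G) hq hqu (bcΦ α Φ) (fun k => Red.bc α (M k)) (fun k => inferInstance)
    (fun k => (Over.pullback α).map (m k))
    (fun k => ⟨inferInstance, inferInstance, K21.MultLoc.isMultTypeFT_bc α (hm k).2.2⟩)
    (fun k => by
      have h6 := K207.SubTor.bc_pow α (𝟙 (M k)) (q ^ k)
      rw [pow_of_coh (m k) (hcoh k k le_rfl), CategoryTheory.Functor.map_id] at h6
      exact h6.symm.trans (Functor.map_one _))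
    (fun j k hjk => by
      obtain ⟨f, hf, -⟩ := hcoh j k hjk
      exact ⟨(Over.pullback α).map f, by rw [← Functor.map_comp, hf]⟩) h4
  rw [cond_bc_iff] at h5
  change Cond Φ q M m (c ≫ α) at h5
  rw [← hτ] at h5
  exact h5.desc hmo τ

/-- **Specialisation of the condition**, with isomorphisms. -/
theorem main_iso [IsLocallyNoetherian S] [QuasiCompact G.hom] [LocallyOfFiniteType G.hom] (hq : 1 < q)
    (hn : ∀ s : S, (q : S.residueField s) ≠ 0) (Φ : Red.DS S (Fin r → ℤ) ⟶ G) [IsMonHom Φ]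
    (M : ℕ → Over S) (grp : ∀ k, GrpObj (M k)) (m : ∀ k, M k ⟶ G)
    (hm : ∀ k, IsMonHom (m k) ∧ Mono (m k) ∧ SGA3x.IsMultTypeFT (M k))
    (hcoh : ∀ j k : ℕ, j ≤ k → ∃ f : M j ⟶ M k, f ≫ m k = m j ∧
      AlgGrp.IsKernel f ((𝟙 (M k) : M k ⟶ M k) ^ (q ^ j))) {t s : S} (hts : t ⤳ s)
    (h₁ : Mono ((Over.pullback (S.fromSpecResidueField t)).map Φ))
    (h₂ : ∀ k, ∃ e : Red.bc (S.fromSpecResidueField t) (Red.DS S (Fin r → ZMod (q ^ k))) ≅
        Red.bc (S.fromSpecResidueField t) (M k), e.hom ≫ (Over.pullback (S.fromSpecResidueField t)).map (m k) =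
          (Over.pullback (S.fromSpecResidueField t)).map (Red.DSmap S (cz r (q ^ k)) ≫ Φ)) :
    Mono ((Over.pullback (S.fromSpecResidueField s)).map Φ) ∧
      ∀ k, ∃ e : Red.bc (S.fromSpecResidueField s) (Red.DS S (Fin r → ZMod (q ^ k))) ≅
        Red.bc (S.fromSpecResidueField s) (M k), e.hom ≫ (Over.pullback (S.fromSpecResidueField s)).map (m k) =
          (Over.pullback (S.fromSpecResidueField s)).map (Red.DSmap S (cz r (q ^ k)) ≫ Φ) :=
  (cond_iff (fun k => (hm k).2.1) _).1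
    (main hq hn Φ M grp m hm hcoh hts ((cond_iff (fun k => (hm k).2.1) _).2 ⟨h₁, h₂⟩))

end K12.FibSpec
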