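import Groth.Agent.SGA3x.K12.GenExt
import Groth.Agent.SGA3x.K12.FibFac
import Groth.Agent.SGA3x.K13.HC.Tors
import Groth.Agent.Sga3B.DSRigid
import Groth.Agent.Sga3B.SplitBc264
import Groth.Agent.Sga3.H827.KerLoc

/-!
# A homomorphism from a split torus and a coherent family of torsion groups: the trait case

`V` a discrete valuation ring, `q > 1` invertible in `V`, `Φ : D(ℤ^r) ⟶ G`, `M k ⟶ G` a coherent family of
subgroups of multiplicative type.

* `dvr_exists_iso`: if over the fraction field `M k` is the image of `D((ℤ/q^k)^r)` under `Φ`, this holds over `V`;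
* `dvr_mono`: if `Φ` is a monomorphism over the fraction field, then it is one over the residue field.
-/

set_option autoImplicit false
universe u
open CategoryTheory MonoidalCategory CartesianMonoidalCategory MonObj GrpObj AlgebraicGeometry Limits
open Groth.Agent

namespace K12.FibTrait

open K13.NTorsion K211.TorsQ Groth.Agent.Sga3B.InfConj Groth.Agent.Sga3B.InfConjFam Groth.Agent.Sga3B.DSPts

section general

variable {S : Scheme.{u}}

theorem isTors_id {H : Over S} [GrpObj H] {n : ℕ} (h : (𝟙 H : H ⟶ H) ^ n = 1) : IsTors n (𝟙 H) := by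
  refine ⟨inferInstance, inferInstance, fun X x => ⟨fun _ => ?_, fun _ => ⟨x, Category.comp_id x⟩⟩⟩
  have h1 : x ≫ (𝟙 H : H ⟶ H) ^ n = x ^ n := by rw [MonObj.comp_pow, Category.comp_id]
  rw [← h1, h, MonObj.comp_one]

/-- A group of multiplicative type killed by an invertible integer is finite étale. -/
theorem isFinite_etale {H : Over S} [GrpObj H] {n : ℕ} (h0 : 0 < n) (h : (𝟙 H : H ⟶ H) ^ n = 1)
    (hn : ∀ s : S, (n : S.residueField s) ≠ 0) (hH : SGA3x.IsMultTypeFT H) : IsFinite H.hom ∧ Etale H.hom := by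
  have hfl := K10.MTLoc.flat hH
  have hlfp := K10.MTLoc.locallyOfFinitePresentation hH
  exact ⟨K13.HC.Tors.isFinite h0 (isTors_id h) hH,
    K13.CT.Tors.etale_of_isTors (isTors_id h) (K13.HC.Tors.mul_comm_of_FT hH) hn⟩

theorem pow_DS (n r : ℕ) : (𝟙 (Red.DS S (Fin r → ZMod n)) : Red.DS S (Fin r → ZMod n) ⟶ _) ^ n = 1 := by
  apply (Sga3B.DSPts.dsEquiv _ _).symm.injective
  rw [map_one]
  refine MonoidHom.ext fun m => ?_
  refine (dsChar_pow S n _ m.toAdd).trans ?_
  have h : n • m.toAdd = 0 := by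
    funext i
    simp
  rw [h, ofAdd_zero, map_one, MonoidHom.one_apply]

/-- A morphism whose composite with a monomorphic homomorphism is a homomorphism. -/
theorem isMonHom_of_comp {A B C : Over S} [GrpObj A] [GrpObj B] [GrpObj C] (g : A ⟶ B) (m : B ⟶ C) [Mono m]
    (h1 : IsMonHom m) (h2 : IsMonHom (g ≫ m)) : IsMonHom g := by
  refine K211.Graph.isMonHom_of_mul _ fun T x y => ?_
  rw [← cancel_mono m, MonObj.mul_comp (x ≫ g) (y ≫ g) m, Category.assoc, Category.assoc, Category.assoc]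
  exact MonObj.mul_comp x y (g ≫ m)

/-- The coherence implies that `M k` is killed by `q ^ k`. -/
theorem pow_of_coh {G H : Over S} [GrpObj H] (m : H ⟶ G) [Mono m] {n : ℕ}
    (h : ∃ f : H ⟶ H, f ≫ m = m ∧ AlgGrp.IsKernel f ((𝟙 H : H ⟶ H) ^ n)) : (𝟙 H : H ⟶ H) ^ n = 1 := by
  obtain ⟨f, h1, h2⟩ := h
  have h3 : f = 𝟙 H := by rw [← cancel_mono m, h1, Category.id_comp]
  subst h3
  have := h2.w
  rwa [Category.id_comp] at this

end general

variable {V : Type u} [CommRing V] [IsDomain V] [IsDiscreteValuationRing V] {q r : ℕ}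
  {G : Over (Spec (CommRingCat.of V))} [GrpObj G] [LocallyOfFiniteType G.hom] [QuasiCompact G.hom]

omit [IsDiscreteValuationRing V] [LocallyOfFiniteType G.hom] [QuasiCompact G.hom] [GrpObj G] in
/-- A morphism which is a homomorphism over the generic fibre. -/
theorem isMonHom_of_gen {X Y : Over (Spec (CommRingCat.of V))} [GrpObj X] [GrpObj Y] [Flat X.hom]
    [IsSeparated Y.hom] (g : X ⟶ Y)
    (h : IsMonHom (M := Red.bc (Neron.genPt V) X) (N := Red.bc (Neron.genPt V) Y)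
      ((Over.pullback (Neron.genPt V)).map g)) : IsMonHom g := by
  have hfl : Flat (X ⊗ X).hom := by rw [Over.tensorObj_hom]; infer_instance
  have h1 : (fst X X * snd X X) ≫ g = (fst X X ≫ g) * (snd X X ≫ g) := by
    apply GenExt.hom_ext
    have h2 : ∀ (A B : Over (Spec (CommRingCat.of V))) [GrpObj B] (a b : A ⟶ B),
        (Over.pullback (Neron.genPt V)).map (a * b) =
          (Over.pullback (Neron.genPt V)).map a * (Over.pullback (Neron.genPt V)).map b := fun A B _ a b =>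
      Functor.map_mul (F := Over.pullback (Neron.genPt V)) a b
    rw [Functor.map_comp, h2, h2, Functor.map_comp, Functor.map_comp]
    exact MonObj.mul_comp _ _ _
  refine K211.Graph.isMonHom_of_mul _ fun T x y => ?_
  have h3 := congrArg (fun k => lift x y ≫ k) h1
  simpa only [MonObj.comp_mul, ← Category.assoc, lift_fst, lift_snd] using h3

theorem dvr_exists_iso (hq : 1 < q) (hqu : IsUnit (q : V))
    (Φ : Red.DS (Spec (CommRingCat.of V)) (Fin r → ℤ) ⟶ G) [IsMonHom Φ]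
    (M : ℕ → Over (Spec (CommRingCat.of V))) (grp : ∀ k, GrpObj (M k)) (m : ∀ k, M k ⟶ G)
    (hm : ∀ k, IsMonHom (m k) ∧ Mono (m k) ∧ SGA3x.IsMultTypeFT (M k))
    (hpow : ∀ k, (𝟙 (M k) : M k ⟶ M k) ^ (q ^ k) = 1) (hcoh : ∀ j k : ℕ, j ≤ k → ∃ f : M j ⟶ M k, f ≫ m k = m j)
    (he : ∀ k, ∃ e : (Over.pullback (Neron.genPt V)).obj (Red.DS _ (Fin r → ZMod (q ^ k))) ≅
      (Over.pullback (Neron.genPt V)).obj (M k), e.hom ≫ (Over.pullback (Neron.genPt V)).map (m k) =
        (Over.pullback (Neron.genPt V)).map (Red.DSmap _ (cz r (q ^ k)) ≫ Φ)) (k : ℕ) :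
    ∃ e : Red.DS (Spec (CommRingCat.of V)) (Fin r → ZMod (q ^ k)) ≅ M k,
      e.hom ≫ m k = Red.DSmap _ (cz r (q ^ k)) ≫ Φ := by
  have hq0 : ∀ k, 0 < q ^ k := fun k => pow_pos (by omega) k
  have hne : ∀ k, NeZero (q ^ k) := fun k => ⟨(hq0 k).ne'⟩
  have hn : ∀ k s, ((q ^ k : ℕ) : (Spec (CommRingCat.of V)).residueField s) ≠ 0 := fun k => by
    apply NormTrait.natCast_ne_zero
    rw [Nat.cast_pow]
    exact hqu.pow k
  have hmm : ∀ k, IsMonHom (m k) := fun k => (hm k).1
  have hmo : ∀ k, Mono (m k) := fun k => (hm k).2.1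
  have hMf : ∀ k, IsFinite (M k).hom ∧ Etale (M k).hom := fun k =>
    isFinite_etale (hq0 k) (hpow k) (hn k) (hm k).2.2
  have hDf : ∀ k, IsFinite (Red.DS (Spec (CommRingCat.of V)) (Fin r → ZMod (q ^ k))).hom ∧
      Etale (Red.DS (Spec (CommRingCat.of V)) (Fin r → ZMod (q ^ k))).hom := fun k =>
    isFinite_etale (hq0 k) (pow_DS _ _) (hn k) (K21.MultLoc.isMultTypeFT_DS _
      (Module.Finite.iff_addGroup_fg.1 inferInstance))
  let F := Over.pullback (Neron.genPt V)
  choose e he using he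
  have hg : ∀ k, ∃ g : Red.DS (Spec (CommRingCat.of V)) (Fin r → ZMod (q ^ k)) ⟶ M k, F.map g = (e k).hom := fun k => by
    obtain ⟨h1, h2⟩ := hMf k
    obtain ⟨h3, h4⟩ := hDf k
    exact GenExt.exists_hom (e k).hom
  have hg' : ∀ k, ∃ g : M k ⟶ Red.DS (Spec (CommRingCat.of V)) (Fin r → ZMod (q ^ k)), F.map g = (e k).inv := fun k => by
    obtain ⟨h1, h2⟩ := hMf k
    obtain ⟨h3, h4⟩ := hDf k
    exact GenExt.exists_hom (e k).inv
  choose g hg using hg
  choose g' hg' using hg'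
  have hgg : ∀ k, g k ≫ g' k = 𝟙 _ := fun k => by
    obtain ⟨h1, h2⟩ := hMf k
    obtain ⟨h3, h4⟩ := hDf k
    apply GenExt.hom_ext
    change F.map (g k ≫ g' k) = F.map (𝟙 _)
    rw [F.map_comp, hg, hg', Iso.hom_inv_id, F.map_id]
  have hgg' : ∀ k, g' k ≫ g k = 𝟙 _ := fun k => by
    obtain ⟨h1, h2⟩ := hMf k
    obtain ⟨h3, h4⟩ := hDf k
    apply GenExt.hom_ext
    change F.map (g' k ≫ g k) = F.map (𝟙 _)
    rw [F.map_comp, hg, hg', Iso.inv_hom_id, F.map_id]
  have hgm : ∀ k, IsMonHom (g k) := fun k => by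
    obtain ⟨h1, h2⟩ := hMf k
    obtain ⟨h3, h4⟩ := hDf k
    refine isMonHom_of_gen (g k) ?_
    have h5 : Mono (F.map (m k)) := inferInstance
    have h6 : F.map (g k) ≫ F.map (m k) = F.map (Red.DSmap _ (cz r (q ^ k)) ≫ Φ) := by rw [hg, he]
    have h7 : IsMonHom (Red.DSmap (Spec (CommRingCat.of V)) (cz r (q ^ k))) := isMonHom_DSmap _ _
    refine isMonHom_of_comp (A := Red.bc (Neron.genPt V) _) (B := Red.bc (Neron.genPt V) (M k))
      (C := Red.bc (Neron.genPt V) G) (F.map (g k)) (F.map (m k)) inferInstance ?_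
    rw [h6]
    infer_instance
  let u : ∀ k, Red.DS (Spec (CommRingCat.of V)) (Fin r → ZMod (q ^ k)) ⟶ G := fun k => g k ≫ m k
  have hu : ∀ k, IsMonHom (u k) := fun k => by
    have := hgm k
    infer_instance
  have huF : ∀ k, F.map (u k) = F.map (Red.DSmap _ (cz r (q ^ k))) ≫ F.map Φ := fun k => by
    change F.map (g k ≫ m k) = _
    rw [F.map_comp, hg, ← F.map_comp]
    exact he k
  have hucoh : ∀ j k (h : j ≤ k), Red.DSmap _ (tz r (pow_dvd_pow q h)) ≫ u k = u j := by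
    intro j k h
    obtain ⟨h1, h2⟩ := hMf k
    obtain ⟨h3, h4⟩ := hDf j
    obtain ⟨f, hf⟩ := hcoh j k h
    have h5 : Red.DSmap _ (tz r (pow_dvd_pow q h)) ≫ g k = g j ≫ f := by
      apply GenExt.hom_ext
      change F.map _ = F.map _
      rw [← cancel_mono (F.map (m k)), ← F.map_comp, ← F.map_comp, Category.assoc, Category.assoc, hf]
      change F.map (_ ≫ u k) = F.map (u j)
      rw [F.map_comp, huF, huF, ← Category.assoc, ← F.map_comp, K7.DSProp.DSmap_comp, tz_comp_cz]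
    change _ ≫ g k ≫ m k = g j ≫ m j
    rw [← Category.assoc, h5, Category.assoc, hf]
  obtain ⟨Ψ, hΨ1, hΨ2, hΨ3⟩ := K211.Trait.exists_hom hq hqu (F.map Φ) u hu hucoh (fun k => (huF k).symm)
  have hΨ : Ψ = Φ := K211.Trait.hom_ext_gen Ψ Φ hΨ2
  subst hΨ
  exact ⟨⟨g k, g' k, hgg k, hgg' k⟩, (hΨ3 k).symm⟩

/-- A homomorphism `D(N) ⟶ G` over a noetherian local ring which is trivial over the residue field is trivial. -/
theorem eq_one_of_closed {C : Type u} [CommRing C] [IsLocalRing C] [IsNoetherianRing C] {N : Type} [AddCommGroup N]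
    [AddGroup.FG N] {G : Over (Spec (CommRingCat.of C))} [GrpObj G]
    (u : Red.DS (Spec (CommRingCat.of C)) N ⟶ G) [IsMonHom u]
    (h : (Over.pullback (Spec.map (CommRingCat.ofHom (IsLocalRing.residue C)))).map u = 1) : u = 1 := by
  symm
  have h1 : IsMonHom (1 : Red.DS (Spec (CommRingCat.of C)) N ⟶ G) :=
    K211.Graph.isMonHom_of_mul _ fun T x y => by
      rw [MonObj.comp_one, MonObj.comp_one, MonObj.comp_one, _root_.mul_one]
  apply CentEq.eq_of_local
  · rw [Central.eqz_mk_iff, h]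
    exact Functor.map_one _
  · intro Y _ g x
    rw [MonObj.comp_one, _root_.mul_one, _root_.one_mul]

/-- (After helper547.) The characters detect the trivial homomorphism. -/
lemma eq_zero_of_DSmap_eq_one {k : Type u} [CommRing k] [Nontrivial k] {M N : Type}
    [AddCommGroup M] [AddCommGroup N] (φ : M →+ N)
    (h : Red.DSmap (Spec (CommRingCat.of k)) φ = 1) : φ = 0 := by
  have h1 : charPt (C := k) (MonoidAlgebra.of k (Multiplicative N)) ≫
      Red.DSmap (Spec (CommRingCat.of k)) φ = charPt (C := k) 1 := by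
    rw [h, MonObj.comp_one]
    unfold charPt
    rw [MonoidHom.comp_one]
    exact ((dsEquiv (pt k (MonoidAlgebra k (Multiplicative N))) M).map_one).symm
  rw [Groth.Agent.Sga3.H827.KerLoc.charPt_DSmap] at h1
  have h2 := Sga3B.DSRigid.charPt_injective h1
  ext m
  have h3 := DFunLike.congr_fun h2 (Multiplicative.ofAdd m)
  have h4 : MonoidAlgebra.of k (Multiplicative N) (Multiplicative.ofAdd (φ m)) =
      MonoidAlgebra.of k (Multiplicative N) 1 := by
    rw [map_one]
    exact h3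
  exact Multiplicative.ofAdd.injective (MonoidAlgebra.of_injective h4)

/-- Base change of a homomorphism `D(N) ⟶ D(M) ⟶ G`. -/
theorem map_eq_one_iff {S S' : Scheme.{u}} (f : S' ⟶ S) {M N : Type} [AddCommGroup M] [AddCommGroup N]
    (φ : M →+ N) {G : Over S} [GrpObj G] (Φ : Red.DS S M ⟶ G) [IsMonHom Φ] :
    (Over.pullback f).map (Red.DSmap S φ ≫ Φ) = 1 ↔
      Red.DSmap S' φ ≫ (Sga3B.TorusAlgClosed.dsBcIso f M).inv.hom.hom ≫ (Over.pullback f).map Φ = 1 := by
  let eM := Sga3B.TorusAlgClosed.dsBcIso f M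
  let eN := Sga3B.TorusAlgClosed.dsBcIso f N
  have hM : eM.hom.hom.hom ≫ eM.inv.hom.hom = 𝟙 _ := congrArg (fun k => k.hom.hom) eM.hom_inv_id
  have hN : eN.hom.hom.hom ≫ eN.inv.hom.hom = 𝟙 _ := congrArg (fun k => k.hom.hom) eN.hom_inv_id
  have hN' : eN.inv.hom.hom ≫ eN.hom.hom.hom = 𝟙 _ := congrArg (fun k => k.hom.hom) eN.inv_hom_id
  have h1 : (Over.pullback f).map (Red.DSmap S φ) ≫ eM.hom.hom.hom = eN.hom.hom.hom ≫ Red.DSmap S' φ :=
    Sga3B.SplitBc264.DSmap_bc f φ
  have h2 : (Over.pullback f).map (Red.DSmap S φ ≫ Φ) =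
      eN.hom.hom.hom ≫ Red.DSmap S' φ ≫ eM.inv.hom.hom ≫ (Over.pullback f).map Φ := by
    rw [← reassoc_of% h1, reassoc_of% hM, Functor.map_comp]
  have h3 : Red.DSmap S' φ ≫ eM.inv.hom.hom ≫ (Over.pullback f).map Φ =
      eN.inv.hom.hom ≫ (Over.pullback f).map (Red.DSmap S φ ≫ Φ) := by
    rw [h2, reassoc_of% hN']
  constructor
  · intro h
    rw [h3, h]
    exact MonObj.comp_one _
  · intro h
    rw [h2, h]
    exact MonObj.comp_one _

/-- If the base change of `Φ` is a monomorphism and `D(N) ⟶ D(M) ⟶ G` is trivial, then the base change of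
`D(N) ⟶ D(M)` is trivial. -/
theorem DSmap_eq_one_of_mono {S S' : Scheme.{u}} (f : S' ⟶ S) {M N : Type} [AddCommGroup M] [AddCommGroup N]
    (φ : M →+ N) {G : Over S} [GrpObj G] (Φ : Red.DS S M ⟶ G) [IsMonHom Φ] [hm : Mono ((Over.pullback f).map Φ)]
    (h : Red.DSmap S φ ≫ Φ = 1) : Red.DSmap S' φ = 1 := by
  have h1 := (map_eq_one_iff f φ Φ).1 (by rw [h]; exact Functor.map_one _)
  have hi : IsIso (Sga3B.TorusAlgClosed.dsBcIso f M).inv.hom.hom :=
    inferInstanceAs (IsIso ((Grp.forget _).map (Sga3B.TorusAlgClosed.dsBcIso f M).inv))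
  have him : IsMonHom (Sga3B.TorusAlgClosed.dsBcIso f M).inv.hom.hom := inferInstance
  have hmono : Mono ((Sga3B.TorusAlgClosed.dsBcIso f M).inv.hom.hom ≫ (Over.pullback f).map Φ) := mono_comp _ _
  have h2 : IsMonHom ((Sga3B.TorusAlgClosed.dsBcIso f M).inv.hom.hom ≫ (Over.pullback f).map Φ) := inferInstance
  rw [← cancel_mono ((Sga3B.TorusAlgClosed.dsBcIso f M).inv.hom.hom ≫ (Over.pullback f).map Φ), h1]
  exact (MonObj.one_comp ((Sga3B.TorusAlgClosed.dsBcIso f M).inv.hom.hom ≫ (Over.pullback f).map Φ)).symm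

/-- The kernel of a homomorphism from a diagonalisable group over a field. -/
theorem exists_ker_field {κ : Type u} [Field κ] {M : Type} [AddCommGroup M] [AddGroup.FG M]
    {H : Over (Spec (CommRingCat.of κ))} [GrpObj H] [LocallyOfFiniteType H.hom]
    (J : Red.DS (Spec (CommRingCat.of κ)) M ⟶ H) [IsMonHom J] :
    ∃ N : AddSubgroup M, Red.DSmap (Spec (CommRingCat.of κ)) (QuotientAddGroup.mk' N) ≫ J = 1 ∧
      (N = ⊤ → Mono J) := by
  have h2 : IsSeparated H.hom := K278.GrpField.isSeparated κ H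
  obtain ⟨a, ha, N, hN⟩ := Sga3.H827.KerLoc.exists_local J (⊥ : Ideal κ)
  have ha' : IsUnit a := isUnit_iff_ne_zero.2 fun h0 => ha h0
  have hN' : ∀ (T : Over (Spec (CommRingCat.of κ))) (x : T ⟶ Red.DS (Spec (CommRingCat.of κ)) M),
      x ≫ J = 1 ↔ ∀ n ∈ N, dsChar x (Multiplicative.ofAdd n) = 1 := fun T x =>
    hN T (by
      let _ := Sga3.H827.KerPts.algT T
      exact ha'.map _) x
  refine ⟨N, ?_, ?_⟩
  · rw [hN']
    intro n hn
    have h4 := DFunLike.congr_fun (dsChar_DSmap (QuotientAddGroup.mk' N) (𝟙 (Red.DS (Spec (CommRingCat.of κ)) (M ⧸ N))))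
      (Multiplicative.ofAdd n)
    rw [Category.id_comp] at h4
    rw [h4]
    change dsChar (𝟙 _) (Multiplicative.ofAdd (QuotientAddGroup.mk' N n)) = 1
    have h5 : QuotientAddGroup.mk' N n = 0 := (QuotientAddGroup.eq_zero_iff n).2 hn
    rw [h5, ofAdd_zero, map_one]
  · rintro rfl
    refine TrivKer.mono_of_ker J fun T x hx => ?_
    rw [hN'] at hx
    apply (dsEquiv _ _).symm.injective
    rw [map_one]
    exact MonoidHom.ext fun m => hx m.toAdd (AddSubgroup.mem_top _)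

/-- The kernel over a field-valued point. -/
theorem exists_ker {S : Scheme.{u}} {G : Over S} [GrpObj G] [LocallyOfFiniteType G.hom] {κ : Type u} [Field κ]
    (c : Spec (CommRingCat.of κ) ⟶ S) {M : Type} [AddCommGroup M] [AddGroup.FG M] (Φ : Red.DS S M ⟶ G)
    [IsMonHom Φ] : ∃ N : AddSubgroup M, (Over.pullback c).map (Red.DSmap S (QuotientAddGroup.mk' N) ≫ Φ) = 1 ∧
      (N = ⊤ → Mono ((Over.pullback c).map Φ)) := by
  have h1 : LocallyOfFiniteType (Red.bc c G).hom := inferInstanceAs (LocallyOfFiniteType (pullback.snd G.hom c))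
  have hi : IsMonHom (Sga3B.TorusAlgClosed.dsBcIso c M).inv.hom.hom := inferInstance
  obtain ⟨N, h2, h3⟩ := exists_ker_field (H := Red.bc c G)
    ((Sga3B.TorusAlgClosed.dsBcIso c M).inv.hom.hom ≫ (Over.pullback c).map Φ)
  refine ⟨N, (map_eq_one_iff c _ Φ).2 h2, fun hN => ?_⟩
  have h4 := h3 hN
  have he : (Sga3B.TorusAlgClosed.dsBcIso c M).hom.hom.hom ≫ (Sga3B.TorusAlgClosed.dsBcIso c M).inv.hom.hom = 𝟙 _ :=
    congrArg (fun k => k.hom.hom) (Sga3B.TorusAlgClosed.dsBcIso c M).hom_inv_id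
  have hei : IsIso (Sga3B.TorusAlgClosed.dsBcIso c M).hom.hom.hom :=
    inferInstanceAs (IsIso ((Grp.forget _).map (Sga3B.TorusAlgClosed.dsBcIso c M).hom))
  have h5 : (Over.pullback c).map Φ = (Sga3B.TorusAlgClosed.dsBcIso c M).hom.hom.hom ≫
      (Sga3B.TorusAlgClosed.dsBcIso c M).inv.hom.hom ≫ (Over.pullback c).map Φ := by
    rw [reassoc_of% he]
  rw [h5]
  exact mono_comp _ _

omit [QuasiCompact G.hom] in
/-- A homomorphism `D(ℤ^r) ⟶ G` which is a monomorphism over the fraction field is one over the residue field. -/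
theorem dvr_mono (Φ : Red.DS (Spec (CommRingCat.of V)) (Fin r → ℤ) ⟶ G) [IsMonHom Φ]
    (h : Mono ((Over.pullback (Neron.genPt V)).map Φ)) :
    Mono ((Over.pullback (Spec.map (CommRingCat.ofHom (IsLocalRing.residue V)))).map Φ) := by
  obtain ⟨N, h1, h2⟩ := exists_ker (Spec.map (CommRingCat.ofHom (IsLocalRing.residue V))) Φ
  have hDm : IsMonHom (Red.DSmap (Spec (CommRingCat.of V)) (QuotientAddGroup.mk' N)) := isMonHom_DSmap _ _
  have h6 : Red.DSmap (Spec (CommRingCat.of V)) (QuotientAddGroup.mk' N) ≫ Φ = 1 := eq_one_of_closed _ h1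
  have h7 : QuotientAddGroup.mk' N = 0 :=
    eq_zero_of_DSmap_eq_one _ (DSmap_eq_one_of_mono (Neron.genPt V) _ Φ h6)
  refine h2 ?_
  rw [eq_top_iff]
  intro m _
  rw [← QuotientAddGroup.eq_zero_iff]
  exact DFunLike.congr_fun h7 m

end K12.FibTrait
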