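import Groth.Agent.SGA3x.K12.NormTor
import Groth.Agent.AlgSt.K742.ImmLN
import Groth.Agent.AlgSp.K612.Reduced
import Groth.Agent.AlgSt.K735.DvrSpec
import Groth.Agent.Etbc.H218.DiscreteSplit
import Groth.Agent.S3699
import Groth.Agent.Flat2C.GenericReduced
import Groth.Agent.S2334

/-!
# The torsion of a family of tori over a normal base is finite étale

* `finrank_gamma`: the degree of a finite morphism to the spectrum of a field;
* `exists_fibre`, `subAt`: the torsion points at a field-valued point;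
* `isSeparated`, `generic_of_maximal`, `card_fibre`, `finrank_generic`, `main`: over a normal locally Noetherian
  integral base the reduced subscheme `M` of `n`-torsion points of `E` is finite étale.
-/

set_option autoImplicit false
universe u
open CategoryTheory MonoidalCategory CartesianMonoidalCategory MonObj GrpObj AlgebraicGeometry Limits

namespace K12.NormEt

open K12.NormKit K12.NormTrait K12.NormTor
open Groth.Agent

theorem finrank_gamma {k : Type u} [Field k] {P : Scheme.{u}} (g : P ⟶ Spec (CommRingCat.of k)) [IsFinite g]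
    (z : Spec (CommRingCat.of k)) :
    (letI := (g.appTop.hom.comp (Scheme.ΓSpecIso (CommRingCat.of k)).inv.hom).toAlgebra
     Module.finrank (CommRingCat.of k) Γ(P, ⊤)) = g.finrank z := by
  have hP : IsAffine P := isAffine_of_isAffineHom g
  let φ : CommRingCat.of k ⟶ Γ(P, ⊤) := (Scheme.ΓSpecIso (CommRingCat.of k)).inv ≫ g.appTop
  have h1 : g = P.isoSpec.hom ≫ Spec.map φ := by
    rw [Spec.map_comp, Scheme.isoSpec_hom, ← Category.assoc, ← Scheme.toSpecΓ_naturality, Category.assoc,
      ← SpecMap_ΓSpecIso_hom, ← Spec.map_comp, Iso.inv_hom_id, Spec.map_id, Category.comp_id]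
  have h2 : IsFinite (Spec.map φ) := by
    have : IsFinite (P.isoSpec.hom ≫ Spec.map φ) := by rw [← h1]; infer_instance
    have h3 : Spec.map φ = P.isoSpec.inv ≫ P.isoSpec.hom ≫ Spec.map φ := by rw [Iso.inv_hom_id_assoc]
    rw [h3]
    infer_instance
  let _ : Algebra k Γ(P, ⊤) := φ.hom.toAlgebra
  have h4 : Module.Finite k Γ(P, ⊤) := by
    rw [IsFinite.SpecMap_iff] at h2
    exact h2
  have h5 : g.finrank z = (Spec.map φ).finrank z := by
    have : Flat (Spec.map φ) := by
      rw [Flat.SpecMap_iff]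
      exact (inferInstance : Module.Flat k Γ(P, ⊤))
    conv_lhs => rw [h1]
    exact congrFun (Scheme.Hom.finrank_comp_left_of_isIso P.isoSpec.hom (Spec.map φ)) z
  rw [h5]
  have h6 := Scheme.Hom.finrank_SpecMap_algebraMap k Γ(P, ⊤) z
  refine Eq.trans ?_ h6.symm
  rw [Module.rankAtStalk_eq_finrank_of_free]
  rfl

variable {S : Scheme.{u}} {G : Over S} [GrpObj G] {E : Set G.left} {r n : ℕ}

theorem natCast_ne_zero_of (hn : ∀ s : S, (n : S.residueField s) ≠ 0) {k : Type u} [Field k]
    (c : Spec (CommRingCat.of k) ⟶ S) : (n : k) ≠ 0 := by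
  obtain ⟨s, σ, -⟩ := exists_factor c
  obtain ⟨φ, rfl⟩ := Spec.map_surjective σ
  have h := (map_ne_zero φ.hom).mpr (hn s)
  rwa [map_natCast] at h

/-- The torsion at a field-valued point. -/
theorem exists_fibre [LocallyOfFiniteType G.hom] {k : Type u} [Field k] {c : Spec (CommRingCat.of k) ⟶ S}
    (h : TorAt G E r c) (hn : (n : k) ≠ 0) :
    ∃ (T : Over (Spec (CommRingCat.of k))) (_ : GrpObj T) (j : T ⟶ Red.bc c G)
      (K : Over (Spec (CommRingCat.of k))) (_ : GrpObj K) (κ : K ⟶ T), IsMonHom j ∧ Mono j ∧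
      IsClosedImmersion j.left ∧ Red.IsTorus T ∧ topologicalKrullDim ↥T.left = r ∧ IsMonHom κ ∧
      AlgGrp.IsKernel κ (𝟙 T ^ n : T ⟶ T) ∧ IsClosedImmersion κ.left ∧ Etale K.hom ∧
      Mor2.IsFinLocFreeOfDeg (n ^ r) K.hom ∧ Set.range j.left = pullback.fst G.hom c ⁻¹' E ∧
      Set.range (κ ≫ j).left = pullback.fst G.hom c ⁻¹' PP G E n := by
  obtain ⟨T, _, j, hj, hm, hT, hd, hr⟩ := h
  have h1 : LocallyOfFiniteType (Red.bc c G).hom :=
    inferInstanceAs (LocallyOfFiniteType (pullback.snd G.hom c))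
  obtain ⟨K, _, κ, h2, h3, h4, h5, h6, h7⟩ := exists_kernel hT hd j hn
  refine ⟨T, inferInstance, j, K, inferInstance, κ, hj, hm, isClosedImmersion_torus hT j, hT, hd, h2, h3, h4, h5, h6,
    hr, ?_⟩
  rw [h7, preimage_PP, hr]

theorem subAt [LocallyOfFiniteType G.hom] {k : Type u} [Field k] {c : Spec (CommRingCat.of k) ⟶ S}
    (h : TorAt G E r c) (hn : (n : k) ≠ 0) : SubAt G (PP G E n) c := by
  obtain ⟨T, _, j, K, _, κ, h1, h2, h3, h4, h5, h6, h7, h8, h9, h10, h11, h12⟩ := exists_fibre h hn
  have hTc := isCommMonObj_torus h4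
  have hκm : Mono κ := (Over.forget _).mono_of_mono_map (inferInstanceAs (Mono κ.left))
  refine ⟨K, inferInstance, κ ≫ j, inferInstance, ?_, K510.TorsGen.isCommMonObj_of_mono κ, h12⟩
  rw [Over.comp_left]
  infer_instance

theorem subAt_fam [LocallyOfFiniteType G.hom] (hfam : TorFam G E r) (hn : ∀ s : S, (n : S.residueField s) ≠ 0)
    (k : Type u) [Field k] (c : Spec (CommRingCat.of k) ⟶ S) : SubAt G (PP G E n) c :=
  subAt (hfam k c) (natCast_ne_zero_of hn c)

section Count

variable {M : Over S} (m : M ⟶ G) [IsImmersion m.left]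

omit [IsImmersion m.left] in
theorem range_map_m (hm : Set.range m.left = PP G E n) {k : Type u} [Field k] (c : Spec (CommRingCat.of k) ⟶ S) :
    Set.range ((Over.pullback c).map m).left = pullback.fst G.hom c ⁻¹' PP G E n := by
  rw [range_map, hm]

omit [GrpObj G] in
theorem isImmersion_map {k : Type u} [Field k] (c : Spec (CommRingCat.of k) ⟶ S) :
    IsImmersion ((Over.pullback c).map m).left :=
  MorphismProperty.of_isPullback (Groth.Agent.Sga3C.ActBase.isPullback_map_left c m).flip inferInstance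

/-- The points of the fibre. -/
theorem exists_equiv [LocallyOfFiniteType G.hom] (hm : Set.range m.left = PP G E n) {k : Type u} [Field k]
    {c : Spec (CommRingCat.of k) ⟶ S} (h : TorAt G E r c) (hn : (n : k) ≠ 0) :
    ∃ K : Over (Spec (CommRingCat.of k)), Etale K.hom ∧ Mor2.IsFinLocFreeOfDeg (n ^ r) K.hom ∧
      Nonempty (↥(pullback M.hom c) ≃ ↥K.left) ∧
      (IsReduced (pullback M.hom c) → ∃ e : pullback M.hom c ≅ K.left, e.hom ≫ K.hom = pullback.snd M.hom c) := by
  obtain ⟨T, _, j, K, _, κ, h1, h2, h3, h4, h5, h6, h7, h8, h9, h10, h11, h12⟩ := exists_fibre h hn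
  have hi := isImmersion_map m c
  have hκj : IsImmersion (κ ≫ j).left := by rw [Over.comp_left]; infer_instance
  have hr : Set.range ((Over.pullback c).map m).left = Set.range (κ ≫ j).left := by
    rw [range_map_m m hm c, h12]
  refine ⟨K, h9, h10, ⟨?_⟩, fun hred => ?_⟩
  · exact (Equiv.ofInjective _ ((Over.pullback c).map m).left.isEmbedding.injective).trans
      ((Equiv.setCongr hr).trans (Equiv.ofInjective _ (κ ≫ j).left.isEmbedding.injective).symm)
  · have hK : IsReduced K.left := K612.Reduced.isReduced_of_etale K.hom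
    have hM : IsReduced ((Over.pullback c).obj M).left := hred
    obtain ⟨e, he⟩ := Ega1.ReducedSub.exists_iso_of_range_eq ((Over.pullback c).map m).left (κ ≫ j).left hr
    refine ⟨e, ?_⟩
    change e.hom ≫ K.hom = ((Over.pullback c).obj M).hom
    rw [← Over.w (κ ≫ j), ← Category.assoc, he, Over.w]

theorem finite_of_etale {k : Type u} [Field k] {X : Scheme.{u}} (f : X ⟶ Spec (CommRingCat.of k)) [IsFinite f] :
    Finite X := by
  let z : Spec (CommRingCat.of k) := IsLocalRing.closedPoint k
  have h := f.finite_preimage_singleton z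
  have h2 : f ⁻¹' {z} = Set.univ := by
    rw [Set.eq_univ_iff_forall]
    intro x
    exact Subsingleton.elim (α := PrimeSpectrum k) _ _
  rw [h2] at h
  exact Set.finite_univ_iff.mp h

end Count

section Main

variable [LocallyOfFiniteType G.hom]

/-- A locally closed subscheme with points in `E` is separated over the base. -/
theorem isSeparated [IsLocallyNoetherian S] (hE : IsLocallyClosed E) (hfam : TorFam G E r) {M : Over S} (m : M ⟶ G)
    [IsImmersion m.left] (hm : Set.range m.left ⊆ E) : IsSeparated M.hom := by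
  have hM : LocallyOfFiniteType M.hom := by rw [← Over.w m]; infer_instance
  refine (S2334.result M.hom).2 fun V _ _ _ g₁ g₂ h1 h2 => ?_
  obtain ⟨b, hb⟩ : ∃ b, g₁ ≫ M.hom = b := ⟨_, rfl⟩
  have hb2 : g₂ ≫ M.hom = b := by rw [← h1, hb]
  have hw : ∀ g : Spec (CommRingCat.of V) ⟶ M.left, g ≫ M.hom = b → (g ≫ m.left) ≫ G.hom = 𝟙 _ ≫ b := by
    intro g hg
    rw [Category.assoc, Over.w, hg, Category.id_comp]
  let σ : ∀ g : Spec (CommRingCat.of V) ⟶ M.left, g ≫ M.hom = b →
      (𝟙_ (Over (Spec (CommRingCat.of V))) ⟶ Red.bc b G) := fun g hg =>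
    Over.homMk (pullback.lift (g ≫ m.left) (𝟙 _) (hw g hg)) (pullback.lift_snd _ _ _)
  have hσ1 : ∀ g hg, (σ g hg).left ≫ pullback.fst G.hom b = g ≫ m.left := fun g hg => pullback.lift_fst _ _ _
  have hσ2 : ∀ g hg, (σ g hg).left ≫ pullback.snd G.hom b = 𝟙 _ := fun g hg => pullback.lift_snd _ _ _
  have hσ3 : ∀ g hg, Set.range (σ g hg).left ⊆ pullback.fst G.hom b ⁻¹' E := by
    rintro g hg _ ⟨t, rfl⟩
    rw [Set.mem_preimage, ← Scheme.Hom.comp_apply, hσ1 g hg, Scheme.Hom.comp_apply]
    exact hm ⟨_, rfl⟩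
  have hG : LocallyOfFiniteType (Red.bc b G).hom := inferInstanceAs (LocallyOfFiniteType (pullback.snd G.hom b))
  have key := NormTrait.unique (hE.preimage (pullback.fst G.hom b).continuous) (hfam.bc b _ (ge V))
    (hfam.bc b _ (cl V)) (σ g₁ hb) (σ g₂ hb2) (hσ3 g₁ hb) (hσ3 g₂ hb2) (by
      apply pullback.hom_ext
      · rw [Category.assoc, Category.assoc, hσ1 g₁ hb, hσ1 g₂ hb2, ← Category.assoc, ← Category.assoc]
        exact congrArg (fun a => a ≫ m.left) h2
      · rw [Category.assoc, Category.assoc, hσ2 g₁ hb, hσ2 g₂ hb2])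
  rw [← cancel_mono m.left, ← hσ1 g₁ hb, ← hσ1 g₂ hb2, key]

/-- The maximal points of the torsion lie over the generic point. -/
theorem generic_of_maximal [IsLocallyNoetherian S] [IrreducibleSpace S] (hE : IsLocallyClosed E)
    (hfam : TorFam G E r) (hn : ∀ s : S, (n : S.residueField s) ≠ 0) {M : Over S} (m : M ⟶ G) [IsImmersion m.left]
    (hm : Set.range m.left = PP G E n) (x : M.left) (hx : ∀ x' : M.left, x' ⤳ x → x' = x) :
    M.hom x = genericPoint S := by
  have h0 : (𝟙 S : S ⟶ S) (genericPoint S) ⤳ M.hom x := genericPoint_specializes _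
  obtain ⟨V, _, _, _, α, κ, h1, h2, h3⟩ := K735.DvrSpec.exists_dvr (𝟙 S) (genericPoint S) (M.hom x) h0
  have hG : LocallyOfFiniteType (Red.bc α G).hom := inferInstanceAs (LocallyOfFiniteType (pullback.snd G.hom α))
  have hnV : IsUnit (n : V) := by
    have h4 := natCast_ne_zero_of hn (cl V ≫ α)
    rw [← map_natCast (IsLocalRing.residue V)] at h4
    exact (IsLocalRing.residue_ne_zero_iff_isUnit _).mp h4
  have h5 : G.hom (m.left x) = α (IsLocalRing.closedPoint V) := by
    rw [h3, ← Scheme.Hom.comp_apply, Over.w]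
  obtain ⟨y, hy1, hy2⟩ := Scheme.Pullback.exists_preimage_pullback (f := G.hom) (g := α) (m.left x) _ h5
  have hy : y ∈ PP (Red.bc α G) (pullback.fst G.hom α ⁻¹' E) n := by
    rw [← preimage_PP, Set.mem_preimage, hy1, ← hm]
    exact ⟨x, rfl⟩
  obtain ⟨y', h6, h7, h8, h9⟩ := exists_torsion_generization (G := Red.bc α G)
    (hE.preimage (pullback.fst G.hom α).continuous) (hfam.bc α _ (ge V))
    (hfam.bc α _ (cl V)) hnV y hy.1 hy.2
  have h10 : pullback.fst G.hom α y' ∈ PP G E n := by
    have : y' ∈ PP (Red.bc α G) (pullback.fst G.hom α ⁻¹' E) n := ⟨h7, h8⟩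
    rwa [← preimage_PP] at this
  rw [← hm] at h10
  obtain ⟨z, hz⟩ := h10
  have h11 : m.left z ⤳ m.left x := by
    rw [hz, ← hy1]
    exact h6.map (pullback.fst G.hom α).continuous
  have h12 : z = x := hx z (m.left.isEmbedding.isInducing.specializes_iff.mp h11)
  obtain ⟨t, ht⟩ := h9
  have h13 : G.hom (pullback.fst G.hom α y') = α ((Red.bc α G).hom y') := by
    change G.hom (pullback.fst G.hom α y') = α (pullback.snd G.hom α y')
    rw [← Scheme.Hom.comp_apply, ← Scheme.Hom.comp_apply, pullback.condition]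
  have h14 : κ t = α (ge V t) := by
    rw [← Scheme.Hom.comp_apply, ← h1, Category.comp_id]
  rw [← h12, ← Over.w m, Scheme.Hom.comp_apply, hz, h13, ← ht, ← h14, h2]

theorem finite_fibre (hfam : TorFam G E r) (hn : ∀ s : S, (n : S.residueField s) ≠ 0) {M : Over S} (m : M ⟶ G)
    [IsImmersion m.left] (hm : Set.range m.left = PP G E n) (s : S) : (M.hom ⁻¹' {s}).Finite := by
  let c : Spec (CommRingCat.of (S.residueField s)) ⟶ S := S.fromSpecResidueField s
  obtain ⟨K, h1, h2, ⟨e⟩, -⟩ := exists_equiv m hm (hfam _ c) (natCast_ne_zero_of hn c)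
  have h3 : IsFinite K.hom := h2.1.1
  have h4 : Finite K.left := finite_of_etale K.hom
  have h5 : Finite ↥(pullback M.hom c) := Finite.of_equiv _ e.symm
  have h6 : M.hom ⁻¹' {s} = Set.range (pullback.fst M.hom c) := by
    rw [Scheme.Pullback.range_fst]
    congr 1
    exact (Scheme.range_fromSpecResidueField s).symm
  rw [h6]
  exact Set.finite_range _

theorem card_fibre (hfam : TorFam G E r) (hn : ∀ s : S, (n : S.residueField s) ≠ 0) {M : Over S} (m : M ⟶ G)
    [IsImmersion m.left] (hm : Set.range m.left = PP G E n) {k : Type u} [Field k] [IsAlgClosed k]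
    (c : Spec (CommRingCat.of k) ⟶ S) : Nat.card ↥(pullback M.hom c) = n ^ r := by
  obtain ⟨K, h1, h2, ⟨e⟩, -⟩ := exists_equiv m hm (hfam _ c) (natCast_ne_zero_of hn c)
  have h3 : IsFinite K.hom := h2.1.1
  rw [Nat.card_congr e, Etbc.H218.DiscreteSplit.card_eq_finrank K.hom (IsLocalRing.closedPoint k), h2.2]

theorem finrank_generic [IrreducibleSpace S] (hfam : TorFam G E r) (hn : ∀ s : S, (n : S.residueField s) ≠ 0)
    {M : Over S} (m : M ⟶ G) [IsImmersion m.left] [IsReduced M.left] (hm : Set.range m.left = PP G E n) :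
    (letI := (((pullback.snd M.hom (S.fromSpecResidueField (genericPoint S))).appTop).hom.comp
      (Scheme.ΓSpecIso (S.residueField (genericPoint S))).inv.hom).toAlgebra
    Module.finrank (S.residueField (genericPoint S))
      Γ(pullback M.hom (S.fromSpecResidueField (genericPoint S)), ⊤)) = n ^ r := by
  let c : Spec (CommRingCat.of (S.residueField (genericPoint S))) ⟶ S := S.fromSpecResidueField (genericPoint S)
  obtain ⟨K, h1, h2, -, h3⟩ := exists_equiv m hm (hfam _ c) (natCast_ne_zero_of hn c)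
  have h4 : IsReduced (pullback M.hom c) := Groth.Agent.Flat2C.GenericReduced.isReduced_fiber_genericPoint M.hom
  obtain ⟨e, he⟩ := h3 h4
  have h5 : IsFinite K.hom := h2.1.1
  refine (S3699.finrank_congr (pullback.snd M.hom c) K.hom e he).trans ?_
  rw [finrank_gamma K.hom (IsLocalRing.closedPoint _), h2.2]

/-- **The torsion of a family of tori over a normal base is finite étale.** -/
theorem main [IrreducibleSpace S] [IsLocallyNoetherian S] (hdom : ∀ s : S, IsDomain (S.presheaf.stalk s))
    (hnor : ∀ s : S, IsIntegrallyClosed (S.presheaf.stalk s)) [QuasiCompact G.hom] (hE : IsLocallyClosed E)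
    (hfam : TorFam G E r) (hn : ∀ s : S, (n : S.residueField s) ≠ 0) {M : Over S} (m : M ⟶ G)
    [IsImmersion m.left] [IsReduced M.left] (hm : Set.range m.left = PP G E n) :
    IsFinite M.hom ∧ Etale M.hom := by
  have hM : LocallyOfFiniteType M.hom := by rw [← Over.w m]; infer_instance
  have hGn : IsLocallyNoetherian G.left := LocallyOfFiniteType.isLocallyNoetherian G.hom
  have hq : QuasiCompact M.hom := by
    have := K742.LN.quasiCompact_of_isImmersion m.left
    rw [← Over.w m]
    infer_instance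
  have hsep := isSeparated hE hfam m (hm.trans_subset Set.inter_subset_left)
  have hqf : LocallyQuasiFinite M.hom := .of_finite_preimage_singleton M.hom (finite_fibre hfam hn m hm)
  have hmax : ∀ x : M.left, (∀ x' : M.left, x' ⤳ x → x' = x) → M.hom.base x = genericPoint S :=
    fun x hx => generic_of_maximal hE hfam hn m hm x hx
  have hdeg := finrank_generic hfam hn m hm
  have hloc : ∀ y : S, ∃ U : S.Opens, y ∈ U ∧ IsFinite (M.hom ∣_ U) ∧ Etale (M.hom ∣_ U) := fun y =>
    (S3699.result M.hom hmax y (hnor y)).2.mp ((card_fibre hfam hn m hm _).trans hdeg.symm)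
  choose U hU1 hU2 hU3 using hloc
  have htop : iSup U = ⊤ := by
    rw [eq_top_iff]
    intro s _
    exact TopologicalSpace.Opens.mem_iSup.2 ⟨s, hU1 s⟩
  exact ⟨(IsZariskiLocalAtTarget.iff_of_iSup_eq_top (P := @IsFinite) U htop).2 hU2,
    (IsZariskiLocalAtTarget.iff_of_iSup_eq_top (P := @Etale) U htop).2 hU3⟩

end Main

end K12.NormEt
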