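import Groth.Agent.SGA3x.K12.NormGrp
import Groth.Agent.SGA3x.K12.NormEt
import Groth.Agent.S4144
import Groth.Agent.Etcore.SmoothRed
import Groth.Agent.Sga3.H816.TorusDim
import Groth.Agent.Sga3.H832.ClosedLift
import Groth.Agent.Sga3.H816.HomTorOf
import Groth.Agent.PRed.K543.MultSub
import Groth.Agent.AGF.K493.MultSub

/-!
# Subtori over a normal base: the coherent family of torsion groups and the uniqueness

* `exists_dim`, `exists_rank`: the dimension of the fibrewise tori is a constant natural number;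
* `exists_torsion_family`: the coherent family of finite étale groups of multiplicative type;
* `unique`: two subtori with the same underlying set are isomorphic.
-/

set_option autoImplicit false
universe u
open CategoryTheory MonoidalCategory CartesianMonoidalCategory MonObj GrpObj AlgebraicGeometry Limits
open Groth.Agent

namespace K12.NormMain
open NormKit NormTor NormGrp

section Dim

/-- The dimension of a torus over a field is a natural number. -/
theorem exists_dim {k : Type u} [Field k] {T : Over (Spec (CommRingCat.of k))} [GrpObj T] (hT : Red.IsTorus T) :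
    ∃ r : ℕ, topologicalKrullDim ↥T.left = r := by
  have hsm := Sga3B.TorusAlgClosed.smooth_of_isTorus hT
  obtain ⟨r, hr⟩ := Sga3B.TorusAlgClosed.exists_isSplitTorusWith
    (Sga3B.TorusBc.isTorus_bc (Spec.map (CommRingCat.ofHom (algebraMap k (AlgebraicClosure k)))) hT)
  refine ⟨r, ?_⟩
  rw [← Sga3.H816.TorusDim.topologicalKrullDim_of_split hr]
  exact (K106.Dim.topologicalKrullDim_bc_eq (f := T.hom) (AlgebraicClosure k)).symm

end Dim

section Unique

variable {S : Scheme.{u}} {G : Over S} [GrpObj G]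

/-- A monomorphism from a torus to a group locally of finite type over a locally Noetherian scheme is an immersion. -/
theorem isImmersion_of_isTorus [IsLocallyNoetherian S] [LocallyOfFiniteType G.hom] {T : Over S} [GrpObj T]
    (hT : Red.IsTorus T) (j : T ⟶ G) [IsMonHom j] [Mono j] : IsImmersion j.left := by
  have hsm := Sga3B.TorusAlgClosed.smooth_of_isTorus hT
  have haff : IsAffineHom T.hom := Sga3B.TorusAlgClosed.isAffineHom_of_isTorus hT
  have hgi := Sga3B.TorusIrr.geometricallyIrreducible_of_isTorus hT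
  refine S4144.result S T G (Sga3.H832.ClosedLift.unipotentRankZero_of_isTorus hT)
    (Sga3.H832.ClosedLift.hasMaxTorus_of_isTorus hT) ?_ (Or.inr inferInstance) j
  intro s
  exact Sga3.H816.HomTorOf.isConnected_fibre T.hom s

/-- **Uniqueness.** -/
theorem unique [IsReduced S] [IsLocallyNoetherian S] [LocallyOfFiniteType G.hom] {T₁ T₂ : Over S} [GrpObj T₁]
    [GrpObj T₂] (j₁ : T₁ ⟶ G) (j₂ : T₂ ⟶ G) [IsMonHom j₁] [Mono j₁] [IsMonHom j₂] [Mono j₂]
    (h₁ : Red.IsTorus T₁) (h₂ : Red.IsTorus T₂) (h : Set.range j₁.left = Set.range j₂.left) :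
    ∃ φ : T₁ ≅ T₂, φ.hom ≫ j₂ = j₁ := by
  have hi1 := isImmersion_of_isTorus h₁ j₁
  have hi2 := isImmersion_of_isTorus h₂ j₂
  have hs1 := Sga3B.TorusAlgClosed.smooth_of_isTorus h₁
  have hs2 := Sga3B.TorusAlgClosed.smooth_of_isTorus h₂
  have hr1 : IsReduced T₁.left := Groth.Agent.Etcore.SmoothRed.isReduced_of_smooth T₁.hom
  have hr2 : IsReduced T₂.left := Groth.Agent.Etcore.SmoothRed.isReduced_of_smooth T₂.hom
  obtain ⟨e, he⟩ := Ega1.ReducedSub.exists_iso_of_range_eq j₁.left j₂.left h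
  refine ⟨Over.isoMk e ?_, ?_⟩
  · rw [← Over.w j₂, ← Category.assoc, he, Over.w]
  · ext1
    exact he

end Unique

section Torsion

theorem isDomain_stalk (B : CommRingCat.{u}) [IsDomain B] (t : Spec B) :
    IsDomain ((Spec B).presheaf.stalk t) := by
  let _ : Algebra B ((Spec B).presheaf.stalk t) := StructureSheaf.stalkAlgebra B t
  have h1 : IsLocalization.AtPrime ((Spec B).presheaf.stalk t) t.asIdeal :=
    StructureSheaf.IsLocalization.to_stalk B t
  exact IsLocalization.isDomain_of_le_nonZeroDivisors _ (Ideal.primeCompl_le_nonZeroDivisors t.asIdeal)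

theorem isIntegrallyClosed_stalk (B : CommRingCat.{u}) [IsDomain B] [IsIntegrallyClosed B] (t : Spec B) :
    IsIntegrallyClosed ((Spec B).presheaf.stalk t) := by
  let _ : Algebra B ((Spec B).presheaf.stalk t) := StructureSheaf.stalkAlgebra B t
  have h1 : IsLocalization.AtPrime ((Spec B).presheaf.stalk t) t.asIdeal :=
    StructureSheaf.IsLocalization.to_stalk B t
  exact isIntegrallyClosed_of_isLocalization (R := B) _ t.asIdeal.primeCompl
    (Ideal.primeCompl_le_nonZeroDivisors _)

theorem isMultTypeFT_bc {S : Scheme.{u}} {G : Over S} [GrpObj G] [LocallyOfFiniteType G.hom] {E : Set G.left}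
    {r n : ℕ} {M : Over S} [GrpObj M] (m : M ⟶ G) [IsMonHom m] [IsImmersion m.left] [Etale M.hom]
    (hm : Set.range m.left = PP G E n) {k : Type u} [Field k] {c : Spec (CommRingCat.of k) ⟶ S}
    (h : TorAt G E r c) (hn : (n : k) ≠ 0) : SGA3x.IsMultTypeFT (Red.bc c M) := by
  obtain ⟨T, _, j, hj, hjm, hT, hd, hjr⟩ := h
  obtain ⟨g, hg1, hg2, hg3, hg4⟩ := exists_fib_kernel m hm c j hT hd hjr hn
  exact K543.MultSub.isMultTypeFT_of_closed (K493.MultSub.isMultTypeFT_of_isTorus hT) g

variable {A : Type u} [CommRing A] [IsDomain A] [IsNoetherianRing A] [IsIntegrallyClosed A]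
  {G : Over (Spec (CommRingCat.of A))} [GrpObj G] [QuasiCompact G.hom] [LocallyOfFiniteType G.hom]
  {E : Set G.left} {r : ℕ}

/-- **The subgroup of `n`-torsion points.** -/
theorem exists_torsion {n : ℕ} (hn : IsUnit (n : A)) (hE : IsLocallyClosed E) (hfam : TorFam G E r) :
    ∃ (M : Over (Spec (CommRingCat.of A))) (_ : GrpObj M) (m : M ⟶ G), IsMonHom m ∧ IsImmersion m.left ∧
      Etale M.hom ∧ SGA3x.IsMultTypeFT M ∧ Set.range m.left = PP G E n := by
  have hn' : ∀ s, (n : (Spec (CommRingCat.of A)).residueField s) ≠ 0 := NormTrait.natCast_ne_zero hn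
  obtain ⟨Y, i, hi, hY, hr⟩ := Ega1.ReducedSub.exists_reduced_immersion (PP G E n) (isLocallyClosed_PP _ _ hE)
  let M : Over (Spec (CommRingCat.of A)) := Over.mk (i ≫ G.hom)
  let m : M ⟶ G := Over.homMk i
  have hmi : IsImmersion m.left := hi
  have hmr : Set.range m.left = PP G E n := hr
  have hMr : IsReduced M.left := hY
  obtain ⟨hfin, het⟩ := NormEt.main (fun s => isDomain_stalk (CommRingCat.of A) s)
    (fun s => isIntegrallyClosed_stalk (CommRingCat.of A) s) hE hfam hn' m hmr
  obtain ⟨_, hmon, hcomm⟩ := exists_grpObj hfam hn' m hmr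
  refine ⟨M, inferInstance, m, hmon, hmi, het, ?_, hmr⟩
  apply isMultTypeFT_of_finite
  intro s
  exact isMultTypeFT_bc m hmr (hfam _ ((Spec (CommRingCat.of A)).fromSpecResidueField s)) (hn' s)

end Torsion

section Exist

/-- The dimension of the fibrewise tori is a constant natural number. -/
theorem exists_rank {S : Scheme.{u}} [PreconnectedSpace S] [Nonempty S]
    (Ts : ∀ s : S, Over (Spec (S.residueField s))) (grp : ∀ s, GrpObj (Ts s)) (hT : ∀ s, Red.IsTorus (Ts s))
    (hdim : ∀ s : S, ∃ U : S.Opens, s ∈ U ∧ ∀ t, t ∈ U →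
      topologicalKrullDim ↥(Ts t).left = topologicalKrullDim ↥(Ts s).left) :
    ∃ r : ℕ, ∀ s, topologicalKrullDim ↥(Ts s).left = r := by
  have hloc : IsLocallyConstant (fun s : S => topologicalKrullDim ↥(Ts s).left) := by
    rw [IsLocallyConstant.iff_exists_open]
    intro s
    obtain ⟨U, hU, h⟩ := hdim s
    exact ⟨U, U.isOpen, hU, fun t ht => h t ht⟩
  obtain ⟨s₀⟩ := ‹Nonempty S›
  obtain ⟨r, hr⟩ := exists_dim (k := S.residueField s₀) (hT s₀)
  exact ⟨r, fun s => (hloc.apply_eq_of_preconnectedSpace s s₀).trans hr⟩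

/-- The existence of a torus with a given coherent family of torsion subgroups. -/
def Exist : Prop := ∀ (A : Type u) [CommRing A] [IsNoetherianRing A]
    (q : ℕ) (_ : 1 < q) (_ : IsUnit (q : A))
    (G : Over (Spec (CommRingCat.of A))) [GrpObj G] [QuasiCompact G.hom] [LocallyOfFiniteType G.hom]
    (E : Set ↥G.left)
    (Ts : ∀ s : ↥(Spec (CommRingCat.of A)), Over (Spec ((Spec (CommRingCat.of A)).residueField s)))
    (_ : ∀ s, GrpObj (Ts s))
    (js : ∀ s, Ts s ⟶ Red.bc ((Spec (CommRingCat.of A)).fromSpecResidueField s) G)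
    (_ : ∀ s, IsMonHom (js s) ∧ Mono (js s) ∧ Red.IsTorus (Ts s) ∧
      Set.range ((js s).left ≫ Limits.pullback.fst G.hom ((Spec (CommRingCat.of A)).fromSpecResidueField s)).base =
        E ∩ G.hom.base ⁻¹' {s})
    (M : ℕ → Over (Spec (CommRingCat.of A))) (_ : ∀ k, GrpObj (M k)) (m : ∀ k, M k ⟶ G)
    (_ : ∀ k, IsMonHom (m k) ∧ Mono (m k) ∧ SGA3x.IsMultTypeFT (M k))
    (_ : ∀ j k : ℕ, j ≤ k → ∃ f : M j ⟶ M k, f ≫ m k = m j ∧
      AlgGrp.IsKernel f ((𝟙 (M k) : M k ⟶ M k) ^ (q ^ j)))
    (_ : ∀ (s : ↥(Spec (CommRingCat.of A))) (k : ℕ),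
      ∃ g : Red.bc ((Spec (CommRingCat.of A)).fromSpecResidueField s) (M k) ⟶ Ts s,
      g ≫ js s = (Over.pullback ((Spec (CommRingCat.of A)).fromSpecResidueField s)).map (m k) ∧
      AlgGrp.IsKernel g ((𝟙 (Ts s) : Ts s ⟶ Ts s) ^ (q ^ k))),
    ∃ (T : Over (Spec (CommRingCat.of A))) (_ : GrpObj T) (j : T ⟶ G), IsMonHom j ∧ Mono j ∧ Red.IsTorus T ∧
      Set.range j.left.base = E

/-- The preimage form of the trace condition. -/
theorem range_of_point {S : Scheme.{u}} {G : Over S} {E : Set G.left} {s : S}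
    {T : Over (Spec (S.residueField s))} (j : T ⟶ Red.bc (S.fromSpecResidueField s) G)
    (hr : Set.range (j.left ≫ pullback.fst G.hom (S.fromSpecResidueField s)) = E ∩ G.hom ⁻¹' {s}) :
    Set.range j.left = pullback.fst G.hom (S.fromSpecResidueField s) ⁻¹' E := by
  have hinj : Function.Injective (pullback.fst G.hom (S.fromSpecResidueField s)) :=
    (pullback.fst G.hom (S.fromSpecResidueField s)).isEmbedding.injective
  ext x
  constructor
  · rintro ⟨y, rfl⟩
    have : (j.left ≫ pullback.fst G.hom (S.fromSpecResidueField s)) y ∈ E ∩ G.hom ⁻¹' {s} := hr ▸ ⟨y, rfl⟩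
    exact this.1
  · intro hx
    have hx2 : G.hom (pullback.fst G.hom (S.fromSpecResidueField s) x) = s := by
      rw [← Scheme.Hom.comp_apply, pullback.condition, Scheme.Hom.comp_apply]
      exact Scheme.fromSpecResidueField_apply s _
    have : pullback.fst G.hom (S.fromSpecResidueField s) x ∈
        Set.range (j.left ≫ pullback.fst G.hom (S.fromSpecResidueField s)) := by
      rw [hr]
      exact ⟨hx, hx2⟩
    obtain ⟨y, hy⟩ := this
    exact ⟨y, hinj hy⟩

/-- **Subtori over a normal base**, from the existence theorem. -/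
theorem main (hex : Exist.{u}) (A : Type u) [CommRing A] [IsDomain A]
    [IsNoetherianRing A] [IsIntegrallyClosed A] (q : ℕ) (hq : 1 < q) (hqu : IsUnit (q : A))
    (G : Over (Spec (CommRingCat.of A))) [GrpObj G] [QuasiCompact G.hom] [LocallyOfFiniteType G.hom]
    (E : Set ↥G.left) (hE : IsLocallyClosed E)
    (Ts : ∀ s : ↥(Spec (CommRingCat.of A)), Over (Spec ((Spec (CommRingCat.of A)).residueField s)))
    (grp : ∀ s, GrpObj (Ts s))
    (js : ∀ s, Ts s ⟶ Red.bc ((Spec (CommRingCat.of A)).fromSpecResidueField s) G)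
    (hjs : ∀ s, IsMonHom (js s) ∧ Mono (js s) ∧ Red.IsTorus (Ts s) ∧
      Set.range ((js s).left ≫ Limits.pullback.fst G.hom ((Spec (CommRingCat.of A)).fromSpecResidueField s)).base =
        E ∩ G.hom.base ⁻¹' {s})
    (hdim : ∀ s : ↥(Spec (CommRingCat.of A)), ∃ U : (Spec (CommRingCat.of A)).Opens, s ∈ U ∧ ∀ t, t ∈ U →
      topologicalKrullDim ↥(Ts t).left = topologicalKrullDim ↥(Ts s).left) :
    ∃ (T : Over (Spec (CommRingCat.of A))) (_ : GrpObj T) (j : T ⟶ G), IsMonHom j ∧ Mono j ∧ Red.IsTorus T ∧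
      Set.range j.left.base = E := by
  obtain ⟨r, hr⟩ := exists_rank Ts grp (fun s => (hjs s).2.2.1) hdim
  have hfam : TorFam G E r := by
    apply torFam_of_points
    intro s
    obtain ⟨h1, h2, h3, h4⟩ := hjs s
    exact torAt_of_point (js s) h3 (hr s) h4
  have hu : ∀ k : ℕ, IsUnit ((q ^ k : ℕ) : A) := fun k => by
    rw [Nat.cast_pow]
    exact hqu.pow k
  choose M grpM m hm1 hm2 hm3 hm4 hm5 using fun k : ℕ => exists_torsion (hu k) hE hfam
  refine hex A q hq hqu G E Ts grp js hjs M grpM m (fun k => ⟨hm1 k, mono_of_immersion (m k), hm4 k⟩) ?_ ?_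
  · intro j k hjk
    exact exists_coh (pow_dvd_pow q hjk) (m j) (m k) (hm5 j) (hm5 k)
  · intro s k
    obtain ⟨h1, h2, h3, h4⟩ := hjs s
    obtain ⟨g, hg1, -, -, hg4⟩ := exists_fib_kernel (k := (Spec (CommRingCat.of A)).residueField s) (m k) (hm5 k)
      ((Spec (CommRingCat.of A)).fromSpecResidueField s) (js s) h3 (hr s) (range_of_point (js s) h4)
      (NormTrait.natCast_ne_zero (hu k) s)
    exact ⟨g, hg1, hg4⟩

end Exist

end K12.NormMain
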