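import Groth.Agent.Ega3B.NormalBirational
import Groth.Agent.SGA3x.K211.Trait
import Groth.Agent.Dix.GenExtUniq
import Groth.Agent.SGA3x.K12.NormMain
import Mathlib.AlgebraicGeometry.Normalization

/-!
# Extension of morphisms from the generic point of a normal affine scheme

`V` a discrete valuation ring with fraction field `K`, `X` smooth over `V`, `Y` integral over `V`: every
`K`-morphism `X_K ⟶ Y_K` extends.
-/

set_option autoImplicit false
universe u
open CategoryTheory MonoidalCategory CartesianMonoidalCategory MonObj GrpObj AlgebraicGeometry Limits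
open Groth.Agent

namespace K12.GenExt

variable {V : Type u} [CommRing V] [IsDomain V] [IsDiscreteValuationRing V]

variable (V) in
theorem isIso_fromNormalization : IsIso (Neron.genPt V).fromNormalization := by
  have hopen : IsOpenImmersion (Neron.genPt V) := K211.NeutralSec.isOpenImmersion_genPt
  have hgen : Neron.genPt V (genericPoint (Spec (CommRingCat.of (FractionRing V)))) =
      genericPoint (Spec (CommRingCat.of V)) := genericPoint_eq_of_isOpenImmersion _
  refine Ega3B.NormalBirational.isIso_fromNormalization
    (fun y => NormMain.isIntegrallyClosed_stalk (CommRingCat.of V) y) (Neron.genPt V) hgen inferInstance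

theorem exists_hom {X Y : Over (Spec (CommRingCat.of V))} [Smooth X.hom] [IsIntegralHom Y.hom]
    (f : (Over.pullback (Neron.genPt V)).obj X ⟶ (Over.pullback (Neron.genPt V)).obj Y) :
    ∃ g : X ⟶ Y, (Over.pullback (Neron.genPt V)).map g = f := by
  let j := Neron.genPt V
  have hj : IsIso j.fromNormalization := isIso_fromNormalization V
  let p : pullback j X.hom ⟶ X.left := pullback.snd j X.hom
  have hp : IsIso p.fromNormalization := by
    rw [← j.normalizationPullback_snd X.hom]
    infer_instance
  let e : pullback j X.hom ≅ pullback X.hom j := pullbackSymmetry j X.hom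
  let f₁ : pullback j X.hom ⟶ pullback X.hom Y.hom := pullback.lift p (e.hom ≫ f.left ≫ pullback.fst Y.hom j) (by
    have h1 : f.left ≫ pullback.snd Y.hom j = pullback.snd X.hom j := Over.w f
    rw [Category.assoc, Category.assoc, pullback.condition, reassoc_of% h1, pullbackSymmetry_hom_comp_snd_assoc,
      pullback.condition])
  let d : p.normalization ⟶ pullback X.hom Y.hom :=
    p.normalizationDesc f₁ (pullback.fst X.hom Y.hom) (pullback.lift_fst _ _ _).symm
  have hd1 : p.toNormalization ≫ d = f₁ := p.toNormalization_normalizationDesc _ _ _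
  have hd2 : d ≫ pullback.fst X.hom Y.hom = p.fromNormalization := p.normalizationDesc_comp _ _ _
  have h3 : p ≫ inv p.fromNormalization = p.toNormalization := by
    rw [IsIso.comp_inv_eq, p.toNormalization_fromNormalization]
  let g₀ : X.left ⟶ Y.left := inv p.fromNormalization ≫ d ≫ pullback.snd X.hom Y.hom
  have hg₀ : g₀ ≫ Y.hom = X.hom := by
    simp only [g₀, Category.assoc]
    rw [← pullback.condition, reassoc_of% hd2, IsIso.inv_hom_id_assoc]
  refine ⟨Over.homMk g₀ hg₀, ?_⟩
  ext1
  apply pullback.hom_ext
  · refine (pullback.lift_fst _ _ _).trans ?_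
    have h4 : pullback.fst X.hom j = e.inv ≫ p := (pullbackSymmetry_inv_comp_snd _ _).symm
    change pullback.fst X.hom j ≫ g₀ = f.left ≫ pullback.fst Y.hom j
    rw [h4, Category.assoc]
    simp only [g₀]
    rw [reassoc_of% h3, reassoc_of% hd1, pullback.lift_snd, Iso.inv_hom_id_assoc]
  · refine (pullback.lift_snd _ _ _).trans ?_
    exact (Over.w f).symm

omit [IsDiscreteValuationRing V] in
/-- Two extensions agree. -/
theorem hom_ext {X Y : Over (Spec (CommRingCat.of V))} [Flat X.hom] [IsSeparated Y.hom] (g g' : X ⟶ Y)
    (h : (Over.pullback (Neron.genPt V)).map g = (Over.pullback (Neron.genPt V)).map g') : g = g' :=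
  Dix.GenExtUniq.ext_of_genericFibre h

end K12.GenExt
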