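import Groth.Agent.SGA3x.K12.NormKit
import Groth.Agent.AlgGrp.K414.RedNorm
import Groth.Agent.AlgGrp.K402.Tori
import Groth.Agent.Sga3.H820.NeutralOpen
import Groth.Agent.AbVar.K523.DimHom
import Groth.Agent.S3023

/-!
# Neutral components and subtori, over a field

* `image_component`: a closed subgroup `P ⊆ G` of dimension `r` whose trace on a neighbourhood of the unit is
  contained in a subtorus `T` of dimension `r` has the underlying set of `T` as its neutral component.
-/

set_option autoImplicit false
universe u
open CategoryTheory MonoidalCategory CartesianMonoidalCategory MonObj GrpObj AlgebraicGeometry Limits Topology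

namespace K12.NormField

theorem dim_image {X Y : Type u} [TopologicalSpace X] [TopologicalSpace Y] {f : X → Y} (hf : IsEmbedding f)
    (A : Set X) : topologicalKrullDim ↥(f '' A) = topologicalKrullDim ↥A :=
  ((hf.homeomorphImage A).isHomeomorph.topologicalKrullDim_eq).symm

theorem dim_component {k : Type u} [Field k] (P : Over (Spec (CommRingCat.of k))) [GrpObj P]
    [LocallyOfFiniteType P.hom] :
    topologicalKrullDim ↥(connectedComponent (η[P].left (IsLocalRing.closedPoint k))) =
      topologicalKrullDim ↥P.left := by
  obtain ⟨N0, _, i0, _, hcl0, hfl0, hr0⟩ := Groth.Agent.S3023.result k P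
  have h3 : Set.range i0.left = connectedComponent (η[P].left (IsLocalRing.closedPoint k)) :=
    hr0 (IsLocalRing.closedPoint k)
  rw [← K414.RedNorm.dim_eq_of_connectedComponent i0 h3, ← h3]
  exact ((i0.left.isClosedEmbedding.isEmbedding.toHomeomorph).isHomeomorph.topologicalKrullDim_eq).symm

theorem image_component {k : Type u} [Field k] {P G T : Over (Spec (CommRingCat.of k))} [GrpObj P] [GrpObj G]
    [GrpObj T] [LocallyOfFiniteType G.hom] (m : P ⟶ G) [IsMonHom m] [IsClosedImmersion m.left] (j : T ⟶ G)
    [IsMonHom j] [IsClosedImmersion j.left] (hT : Red.IsTorus T) (r : ℕ)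
    (hdT : topologicalKrullDim ↥T.left = r) (hdP : topologicalKrullDim ↥P.left = r) (U : Set G.left)
    (hU : IsOpen U) (hU1 : η[G].left (IsLocalRing.closedPoint k) ∈ U)
    (hsub : ∀ p : P.left, m.left p ∈ U → m.left p ∈ Set.range j.left) :
    m.left '' (connectedComponent (η[P].left (IsLocalRing.closedPoint k))) = Set.range j.left := by
  have hPft : LocallyOfFiniteType P.hom := by rw [← Over.w m]; infer_instance
  have : IrreducibleSpace T.left := K402.Tori.irreducibleSpace hT
  set e := η[P].left (IsLocalRing.closedPoint k) with he
  have hme : m.left e = η[G].left (IsLocalRing.closedPoint k) := by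
    rw [he, ← Scheme.Hom.comp_apply, ← Over.comp_left, IsMonHom.one_hom]
  have hirr : IsPreirreducible (connectedComponent e) :=
    Groth.Agent.Sga3.H820.NeutralOpen.isPreirreducible_connectedComponent P e
  have hrj : IsClosed (Set.range j.left) := j.left.isClosedEmbedding.isClosed_range
  have hsub1 : m.left '' (connectedComponent e) ⊆ Set.range j.left := by
    rintro _ ⟨x, hx, rfl⟩
    by_contra hcon
    obtain ⟨z, -, hz1, hz2⟩ := hirr (m.left ⁻¹' U) (m.left ⁻¹' (Set.range j.left)ᶜ)
      (hU.preimage m.left.continuous) (hrj.isOpen_compl.preimage m.left.continuous)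
      ⟨e, mem_connectedComponent, by rw [Set.mem_preimage, hme]; exact hU1⟩ ⟨x, hx, hcon⟩
    exact hz2 (hsub z hz1)
  refine subset_antisymm hsub1 ?_
  let D : Set T.left := j.left ⁻¹' (m.left '' (connectedComponent e))
  have hcl : IsClosed D := (m.left.isClosedEmbedding.isClosedMap _ isClosed_connectedComponent).preimage
    j.left.continuous
  have hjD : j.left '' D = m.left '' (connectedComponent e) := by
    rw [Set.image_preimage_eq_inter_range]
    exact Set.inter_eq_left.mpr hsub1
  have hdim : topologicalKrullDim ↥D = r := by
    rw [← dim_image j.left.isClosedEmbedding.isEmbedding, hjD, dim_image m.left.isClosedEmbedding.isEmbedding,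
      dim_component, hdP]
  have hD := K523.DimHom.range_eq_univ_of_dim D hcl r hdim hdT
  rintro _ ⟨y, rfl⟩
  have : y ∈ D := hD ▸ Set.mem_univ y
  exact this

end K12.NormField
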