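import Groth.Agent.SGA3x.K12.NormEt
import Groth.Agent.SGA3x.K201.ExtMain
import Groth.Agent.SGA3b.K201.TorsFib
import Groth.Agent.SGA3x.K13.MTHopf
import Groth.Agent.PRed.K543.MultSub
import Groth.Agent.Sga7.H742.Bound

/-!
# The torsion of a family of tori is a coherent family of groups of multiplicative type

* `isMultTypeFT_of_finite`: a finite locally free group with fibres of multiplicative type is of multiplicative type;
* `exists_grpObj`: the reduced subscheme of `n`-torsion points is a subgroup;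
* `exists_fib_kernel`: its fibres are the `n`-torsion subgroups of the tori;
* `exists_coh`: coherence.
-/

set_option autoImplicit false
universe u
open CategoryTheory MonoidalCategory CartesianMonoidalCategory MonObj GrpObj AlgebraicGeometry Limits
open TensorProduct
open Groth.Agent Groth.Agent.Books.AffBridge Groth.Agent.Books.AffBridge2 Groth.Agent.Sga3A Groth.Agent.Sga3B
open SGA3b K10.MTLoc

namespace K12.NormGrp

open K201.TorsFib K201.TorsOrder

/-- **Finite locally free groups with fibres of multiplicative type.** -/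
theorem isMultTypeFT_of_finite {R : Type u} [CommRing R] {M : Over (Spec (CommRingCat.of R))} [GrpObj M]
    [IsFinite M.hom] [Flat M.hom] [LocallyOfFinitePresentation M.hom]
    (hfib : ∀ s : Spec (CommRingCat.of R),
      SGA3x.IsMultTypeFT (Red.bc ((Spec (CommRingCat.of R)).fromSpecResidueField s) M)) :
    SGA3x.IsMultTypeFT M := by
  have hMa : IsAffineHom M.hom := inferInstance
  obtain ⟨A, _, _, ⟨eA⟩⟩ := exists_hopf' hMa (𝟙 (Spec (CommRingCat.of R)))
  obtain ⟨hfl, hfp⟩ := K201.ExtMain.flat_and_fp (G := M) inferInstance inferInstance (𝟙 (Spec (CommRingCat.of R))) eA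
  have hall := K201.ExtMain.allFib hfib (𝟙 (Spec (CommRingCat.of R))) eA
  have hfin : Module.Finite R A := by
    have hiso : IsIso eA.inv.hom.hom.left := by
      have : IsIso eA.inv.hom.hom := ⟨eA.hom.hom.hom, congrArg (fun k => k.hom.hom) eA.inv_hom_id,
        congrArg (fun k => k.hom.hom) eA.hom_inv_id⟩
      exact inferInstanceAs (IsIso ((Over.forget _).map eA.inv.hom.hom))
    have hw : eA.inv.hom.hom.left ≫ pullback.snd M.hom (𝟙 (Spec (CommRingCat.of R))) =
        Spec.map (CommRingCat.ofHom (algebraMap R A)) := Over.w eA.inv.hom.hom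
    have h0 : IsFinite (pullback.snd M.hom (𝟙 (Spec (CommRingCat.of R)))) := inferInstance
    have h1 : IsFinite (Spec.map (CommRingCat.ofHom (algebraMap R A))) := by
      rw [← hw]
      exact (MorphismProperty.cancel_left_of_respectsIso @IsFinite eA.inv.hom.hom.left
        (pullback.snd M.hom (𝟙 _))).mpr h0
    rw [IsFinite.SpecMap_iff] at h1
    exact RingHom.finite_algebraMap.mp h1
  have hA : IsMultType R A := isMultType_of_fibres R A hfp (fun p _ => hall p.ResidueField)
    (fun n _ => inferInstance)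
  exact of_iso (eA.symm ≪≫ BcIso.bcIdIso M) (K13.MTHopf.isMultTypeFT_of_isMultType hA (fun T _ _ => inferInstance))

open K12.NormKit K12.NormTrait K12.NormTor K12.NormEt

section Grp

variable {S : Scheme.{u}} {G : Over S} {E : Set G.left} {r n : ℕ}

/-- Factorization of a morphism from a reduced scheme. -/
theorem exists_hom_of_range {X M : Over S} [IsReduced X.left] (m : M ⟶ G) [IsImmersion m.left] (g : X ⟶ G)
    (h : Set.range g.left ⊆ Set.range m.left) : ∃ g' : X ⟶ M, g' ≫ m = g := by
  obtain ⟨b, hb⟩ := Ega1.ReducedSub.exists_factor_of_range_subset g.left m.left h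
  refine ⟨Over.homMk b ?_, ?_⟩
  · rw [← Over.w m, ← Category.assoc, hb, Over.w]
  · ext1
    exact hb

theorem mono_of_immersion {M : Over S} (m : M ⟶ G) [IsImmersion m.left] : Mono m :=
  (Over.forget _).mono_of_mono_map (inferInstanceAs (Mono m.left))

variable [GrpObj G]

theorem isCommMonObj_of_mono_of {M : Over S} [GrpObj M] (m : M ⟶ G) [IsMonHom m] [Mono m]
    (h : (fst M M ≫ m) * (snd M M ≫ m) = (snd M M ≫ m) * (fst M M ≫ m)) : IsCommMonObj M := by
  apply Groth.Agent.AlgGrp.K408.SemiComm.isCommMonObj_of_mul_comm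
  rw [← cancel_mono m, MonObj.mul_comp, MonObj.mul_comp, h]

/-- The reduced subscheme of `n`-torsion points is a commutative subgroup. -/
theorem exists_grpObj [LocallyOfFiniteType G.hom] [IsReduced S] (hfam : TorFam G E r)
    (hn : ∀ s : S, (n : S.residueField s) ≠ 0) {M : Over S} (m : M ⟶ G) [IsImmersion m.left] [Etale M.hom]
    (hm : Set.range m.left = PP G E n) : ∃ (_ : GrpObj M), IsMonHom m ∧ IsCommMonObj M := by
  have hmono : Mono m := mono_of_immersion m
  have hQ := subAt_fam hfam hn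
  have hM : IsReduced M.left := K612.Reduced.isReduced_of_etale M.hom
  have hMM : IsReduced (M ⊗ M).left := by
    have : Etale (M ⊗ M).hom := by rw [Over.tensorObj_hom]; infer_instance
    exact K612.Reduced.isReduced_of_etale (M ⊗ M).hom
  have h1 : IsReduced (𝟙_ (Over S)).left := inferInstanceAs (IsReduced S)
  have hfst : ∀ (X : Over S) (a : X ⟶ M), Set.range (a ≫ m).left ⊆ PP G E n := by
    intro X a
    rw [← hm, Over.comp_left, Scheme.Hom.comp_base, TopCat.coe_comp]
    exact Set.range_comp_subset_range _ _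
  obtain ⟨_, h⟩ := Sga3C.SubGrp.exists_grpObj_of_mono m
    (by
      have h2 : (m ⊗ₘ m) ≫ μ[G] = (fst M M ≫ m) * (snd M M ≫ m) := by
        rw [Hom.mul_def]
        congr 1
      rw [h2]
      exact exists_hom_of_range m _ (by
        rw [hm]
        exact mul_mem hQ _ _ (hfst _ _) (hfst _ _)))
    (by
      refine exists_hom_of_range m _ ?_
      rw [hm, MonObj.one_eq_one (M := G)]
      exact one_mem hQ _)
    (by
      have h2 : m ≫ ι[G] = m⁻¹ := (Hom.inv_def _).symm
      rw [h2]
      refine exists_hom_of_range m _ ?_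
      rw [hm]
      exact inv_mem hQ _ hm.subset)
  exact ⟨inferInstance, h, isCommMonObj_of_mono_of m (mul_comm_mem hQ _ _ (hfst _ _) (hfst _ _))⟩

/-- The fibres of the torsion are the torsion subgroups of the tori. -/
theorem exists_fib_kernel [LocallyOfFiniteType G.hom] {M : Over S} [GrpObj M] (m : M ⟶ G) [IsMonHom m]
    [IsImmersion m.left] [Etale M.hom] (hm : Set.range m.left = PP G E n) {k : Type u} [Field k]
    (c : Spec (CommRingCat.of k) ⟶ S) {T : Over (Spec (CommRingCat.of k))} [GrpObj T] (j : T ⟶ Red.bc c G)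
    [IsMonHom j] [Mono j] (hT : Red.IsTorus T) (hd : topologicalKrullDim ↥T.left = r)
    (hr : Set.range j.left = pullback.fst G.hom c ⁻¹' E) (hn : (n : k) ≠ 0) :
    ∃ g : Red.bc c M ⟶ T, g ≫ j = (Over.pullback c).map m ∧ IsMonHom g ∧ IsClosedImmersion g.left ∧
      AlgGrp.IsKernel g (𝟙 T ^ n : T ⟶ T) := by
  have h1 : LocallyOfFiniteType (Red.bc c G).hom :=
    inferInstanceAs (LocallyOfFiniteType (pullback.snd G.hom c))
  obtain ⟨K, _, κ, h2, h3, h4, h5, h6, h7⟩ := exists_kernel hT hd j hn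
  have hi := isImmersion_map m c
  have hj := isClosedImmersion_torus hT j
  have hκj : IsImmersion (κ ≫ j).left := by rw [Over.comp_left]; infer_instance
  have hr : Set.range ((Over.pullback c).map m).left = Set.range (κ ≫ j).left := by
    rw [range_map_m m hm c, h7, preimage_PP, hr]
  have hK : IsReduced K.left := K612.Reduced.isReduced_of_etale K.hom
  have hM1 : Etale (Red.bc c M).hom := inferInstanceAs (Etale (pullback.snd M.hom c))
  have hM : IsReduced (Red.bc c M).left := K612.Reduced.isReduced_of_etale (Red.bc c M).hom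
  have hmm : Mono ((Over.pullback c).map m) := mono_of_immersion _
  have hmk : Mono (κ ≫ j) := mono_of_immersion _
  obtain ⟨a, ha⟩ := exists_hom_of_range (κ ≫ j) ((Over.pullback c).map m) hr.subset
  obtain ⟨b, hb⟩ := exists_hom_of_range ((Over.pullback c).map m) (κ ≫ j) hr.symm.subset
  let e : Red.bc c M ≅ K := ⟨a, b, by
    rw [← cancel_mono ((Over.pullback c).map m), Category.assoc, hb, ha, Category.id_comp], by
    rw [← cancel_mono (κ ≫ j), Category.assoc, ha, hb, Category.id_comp]⟩
  have hae : IsIso a.left := by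
    have : IsIso a := ⟨b, e.hom_inv_id, e.inv_hom_id⟩
    exact inferInstanceAs (IsIso ((Over.forget _).map a))
  have hg : (a ≫ κ) ≫ j = (Over.pullback c).map m := by rw [Category.assoc, ha]
  refine ⟨a ≫ κ, hg, ?_, ?_, ?_⟩
  · have : IsMonHom ((a ≫ κ) ≫ j) := by rw [hg]; infer_instance
    exact Sga3C.SubGrp.isMonHom_of_comp_mono (a ≫ κ) j
  · rw [Over.comp_left]
    infer_instance
  · exact IsPullback.of_iso h3 e.symm (Iso.refl _) (Iso.refl _) (Iso.refl _)
      (by change κ ≫ 𝟙 _ = b ≫ a ≫ κ; rw [Category.comp_id, ← Category.assoc]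
          have : b ≫ a = 𝟙 _ := e.inv_hom_id
          rw [this, Category.id_comp])
      (toUnit_unique _ _) (by simp) (by simp)

/-- A morphism from a reduced scheme to the `n`-torsion points is killed by `n`. -/
theorem pow_eq_one {X : Over S} [IsReduced X.left] (g : X ⟶ G) (h : Set.range g.left ⊆ PP G E n) : g ^ n = 1 := by
  have h1 : g ≫ (𝟙 G ^ n : G ⟶ G) = g ^ n := by rw [MonObj.comp_pow, Category.comp_id]
  have h2 : Set.range (g ^ n).left ⊆ Set.range η[G].left := by
    rw [← h1]
    rintro _ ⟨x, rfl⟩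
    rw [Over.comp_left, Scheme.Hom.comp_apply]
    exact (h ⟨x, rfl⟩).2
  obtain ⟨b, hb⟩ := exists_hom_of_range η[G] (g ^ n) h2
  rw [← hb, toUnit_unique b (toUnit X)]
  exact Hom.one_def.symm

theorem PP_mono {a b : ℕ} (h : a ∣ b) : PP G E a ⊆ PP G E b := by
  obtain ⟨c, rfl⟩ := h
  rintro x ⟨hx, t, ht⟩
  refine ⟨hx, t, ?_⟩
  have h1 : (𝟙 G ^ (a * c) : G ⟶ G) = (𝟙 G ^ a : G ⟶ G) ≫ (𝟙 G ^ c : G ⟶ G) := by
    rw [MonObj.comp_pow, Category.comp_id, pow_mul]
  have h2 : η[G] ≫ (𝟙 G ^ c : G ⟶ G) = η[G] := by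
    rw [MonObj.comp_pow, Category.comp_id, MonObj.one_eq_one (M := G), one_pow]
  rw [h1, Over.comp_left, Scheme.Hom.comp_apply, ← ht, ← Scheme.Hom.comp_apply, ← Over.comp_left, h2]

/-- The unit section of an étale group is étale. -/
theorem etale_unit (M : Over S) [GrpObj M] [Etale M.hom] : Etale η[M].left := by
  have h : Etale (η[M].left ≫ M.hom) := by
    rw [Over.w]
    exact inferInstanceAs (Etale (𝟙 S))
  exact Etale.of_comp η[M].left M.hom

/-- **Coherence.** -/
theorem exists_coh {a b : ℕ} (hab : a ∣ b) {M₁ M₂ : Over S} [GrpObj M₁] [GrpObj M₂] (m₁ : M₁ ⟶ G) (m₂ : M₂ ⟶ G)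
    [IsReduced S] [IsMonHom m₁] [IsMonHom m₂] [IsImmersion m₁.left] [IsImmersion m₂.left] [Etale M₁.hom] [Etale M₂.hom]
    (h₁ : Set.range m₁.left = PP G E a) (h₂ : Set.range m₂.left = PP G E b) :
    ∃ f : M₁ ⟶ M₂, f ≫ m₂ = m₁ ∧ AlgGrp.IsKernel f (𝟙 M₂ ^ a : M₂ ⟶ M₂) := by
  have hm1 := mono_of_immersion m₁
  have hm2 := mono_of_immersion m₂
  have hr1 : IsReduced M₁.left := K612.Reduced.isReduced_of_etale M₁.hom
  obtain ⟨f, hf⟩ := exists_hom_of_range m₂ m₁ (by rw [h₁, h₂]; exact PP_mono hab)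
  refine ⟨f, hf, ?_⟩
  obtain ⟨N, ν, hN⟩ := Sga7.H742.Bound.exists_isKernel (𝟙 M₂ ^ a : M₂ ⟶ M₂)
  have hN2 := hN.map (Over.forget _)
  have het : Etale ν.left := MorphismProperty.of_isPullback (P := @Etale) hN2.flip (etale_unit M₂)
  have hNe : Etale N.hom := by rw [← Over.w ν]; infer_instance
  have hr2 : IsReduced N.left := K612.Reduced.isReduced_of_etale N.hom
  have hν : Mono ν := MorphismProperty.of_isPullback (P := MorphismProperty.monomorphisms _) hN.flip
    (show Mono η[M₂] from ⟨fun _ _ _ => toUnit_unique _ _⟩)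
  obtain ⟨φ, hφ⟩ := exists_hom_of_range m₁ (ν ≫ m₂) (by
    rw [h₁]
    rintro _ ⟨y, rfl⟩
    rw [Over.comp_left, Scheme.Hom.comp_apply]
    refine ⟨?_, (toUnit N).left y, ?_⟩
    · have : m₂.left (ν.left y) ∈ PP G E b := h₂ ▸ ⟨_, rfl⟩
      exact this.1
    · rw [pow_hom, ← unit_hom m₂]
      congr 1
      have := congrArg (fun a => a.left y) hN.w
      simp only [Over.comp_left, Scheme.Hom.comp_apply] at this
      exact this.symm)
  have hf1 : f ≫ (𝟙 M₂ ^ a : M₂ ⟶ M₂) = toUnit M₁ ≫ η[M₂] := by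
    rw [← cancel_mono m₂, MonObj.comp_pow, Category.comp_id, MonObj.pow_comp, hf, pow_eq_one m₁ h₁.subset,
      Category.assoc, IsMonHom.one_hom]
    exact Hom.one_def
  let ψ : M₁ ⟶ N := hN.lift f (toUnit M₁) hf1
  have hψ : ψ ≫ ν = f := hN.lift_fst _ _ _
  let e : N ≅ M₁ := ⟨φ, ψ, by
    rw [← cancel_mono ν, Category.assoc, hψ, ← cancel_mono m₂, Category.assoc, hf, hφ, Category.id_comp], by
    rw [← cancel_mono m₁, Category.assoc, hφ, ← Category.assoc, hψ, hf, Category.id_comp]⟩
  exact IsPullback.of_iso hN e (Iso.refl _) (Iso.refl _) (Iso.refl _)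
    (by
      change ν ≫ 𝟙 _ = φ ≫ f
      rw [Category.comp_id, ← cancel_mono m₂, Category.assoc, hf, hφ])
    (toUnit_unique _ _) (by simp) (by simp)

end Grp

end K12.NormGrp
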