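import Groth.Agent.Ega1.ReducedSub
import Groth.Agent.Sga3B.TorusBc
import Groth.Agent.FBase.K106.Dim
import Groth.Agent.Sga3C.ActBase
import Groth.Agent.S3036
import Groth.Prelude.Def_ActBC
import Groth.Prelude.Def_SGA3x

/-!
# Families of fibrewise tori

`TorAt G E r c`: over the field-valued point `c : Spec k ⟶ S`, the preimage of `E ⊆ |G|` in `G_k` is the underlying
set of a subtorus of dimension `r`.

* `TorAt.bc`: extension of the field;
* `TorAt.of_comp`, `TorAt.comp`: base change of `G`;
* `torAt_of_point`: the form with the fibre at a point.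
-/

set_option autoImplicit false
universe u
open CategoryTheory MonoidalCategory CartesianMonoidalCategory MonObj GrpObj AlgebraicGeometry Limits

namespace K12.NormKit

variable {S S' : Scheme.{u}}

/-- The preimage of `E` in the base change along the field-valued point `c` is a subtorus of dimension `r`. -/
def TorAt (G : Over S) [GrpObj G] (E : Set G.left) (r : ℕ) {k : Type u} [Field k]
    (c : Spec (CommRingCat.of k) ⟶ S) : Prop :=
  ∃ (T : Over (Spec (CommRingCat.of k))) (_ : GrpObj T) (j : T ⟶ Red.bc c G), IsMonHom j ∧ Mono j ∧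
    Red.IsTorus T ∧ topologicalKrullDim ↥T.left = r ∧
    Set.range j.left = (pullback.fst G.hom c) ⁻¹' E

/-- The range of a base change. -/
theorem range_map {S S' : Scheme.{u}} (σ : S' ⟶ S) {X Y : Over S} (j : X ⟶ Y) :
    Set.range ((Over.pullback σ).map j).left = (pullback.fst Y.hom σ) ⁻¹' Set.range j.left := by
  have hpb := (Groth.Agent.Sga3C.ActBase.isPullback_map_left σ j).flip
  have h : ((Over.pullback σ).map j).left = hpb.isoPullback.hom ≫ pullback.snd j.left (pullback.fst Y.hom σ) :=
    hpb.isoPullback_hom_snd.symm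
  rw [h, Scheme.Hom.comp_base, TopCat.coe_comp, Set.range_comp, Set.range_eq_univ.mpr hpb.isoPullback.hom.surjective,
    Set.image_univ, Scheme.Pullback.range_snd]

theorem range_comp_iso {X Y Z : Scheme.{u}} (f : X ⟶ Y) (e : Y ⟶ Z) [IsIso e] {W : Scheme.{u}} (p : Z ⟶ W)
    (p' : Y ⟶ W) (h : e ≫ p = p') (E : Set W) (hf : Set.range f = p' ⁻¹' E) : Set.range (f ≫ e) = p ⁻¹' E := by
  rw [Scheme.Hom.comp_base, TopCat.coe_comp, Set.range_comp, hf, ← h]
  ext z
  constructor
  · rintro ⟨y, hy, rfl⟩
    exact hy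
  · intro hz
    obtain ⟨y, rfl⟩ := e.surjective z
    exact ⟨y, hz, rfl⟩

/-- Extension of the field. -/
theorem TorAt.bc {G : Over S} [GrpObj G] {E : Set G.left} {r : ℕ} {k k' : Type u} [Field k] [Field k']
    {c : Spec (CommRingCat.of k) ⟶ S} (h : TorAt G E r c) [LocallyOfFiniteType G.hom]
    (σ : Spec (CommRingCat.of k') ⟶ Spec (CommRingCat.of k))
    {c' : Spec (CommRingCat.of k') ⟶ S} (hc : σ ≫ c = c') : TorAt G E r c' := by
  obtain ⟨T, _, j, hj, hm, hT, hd, hr⟩ := h
  refine ⟨Red.bc σ T, inferInstance, (Over.pullback σ).map j ≫ (ActBC.bcCompIso σ c G hc).hom, inferInstance,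
    inferInstance, Groth.Agent.Sga3B.TorusBc.isTorus_bc σ hT, ?_, ?_⟩
  · obtain ⟨φ, rfl⟩ := Spec.map_surjective σ
    let _ : Algebra k k' := φ.hom.toAlgebra
    rw [← hd]
    have := Groth.Agent.Sga3B.TorusAlgClosed.smooth_of_isTorus hT
    exact K106.Dim.topologicalKrullDim_bc_eq (f := T.hom) k'
  · exact range_comp_iso _ _ _ _ (ActBC.bcCompIso_hom_left_fst σ c G hc) E (by
      rw [range_map, hr]
      rfl)

/-- Base change of the group. -/
theorem TorAt.of_comp {G : Over S} [GrpObj G] {E : Set G.left} {r : ℕ} {k : Type u} [Field k]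
    (g : S' ⟶ S) {c : Spec (CommRingCat.of k) ⟶ S'} {c' : Spec (CommRingCat.of k) ⟶ S} (hc : c ≫ g = c')
    (h : TorAt G E r c') : TorAt (Red.bc g G) ((pullback.fst G.hom g) ⁻¹' E) r c := by
  obtain ⟨T, _, j, hj, hm, hT, hd, hr⟩ := h
  refine ⟨T, inferInstance, j ≫ (ActBC.bcCompIso c g G hc).inv, inferInstance, inferInstance, hT, hd, ?_⟩
  have h1 : (ActBC.bcCompIso c g G hc).inv.left ≫ pullback.fst _ c ≫ pullback.fst G.hom g =
      pullback.fst G.hom c' := by
    rw [← ActBC.bcCompIso_hom_left_fst c g G hc, ← Category.assoc, ← Over.comp_left, Iso.inv_hom_id,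
      Over.id_left, Category.id_comp]
  have : IsIso (ActBC.bcCompIso c g G hc).inv.left := inferInstance
  exact range_comp_iso j.left (ActBC.bcCompIso c g G hc).inv.left _ _ h1 E hr

/-- Every field-valued point factors through a residue field. -/
theorem exists_factor {k : Type u} [Field k] (c : Spec (CommRingCat.of k) ⟶ S) :
    ∃ (s : S) (σ : Spec (CommRingCat.of k) ⟶ Spec (CommRingCat.of (S.residueField s))),
      σ ≫ S.fromSpecResidueField s = c := by
  obtain ⟨⟨s, φ⟩, h⟩ := (Scheme.SpecToEquivOfField k S).symm.surjective c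
  exact ⟨s, Spec.map φ, h⟩

/-- The family of fibrewise tori: the preimage of `E` at every field-valued point is a subtorus of dimension `r`. -/
def TorFam (G : Over S) [GrpObj G] (E : Set G.left) (r : ℕ) : Prop :=
  ∀ (k : Type u) [Field k] (c : Spec (CommRingCat.of k) ⟶ S), TorAt G E r c

theorem TorFam.bc {G : Over S} [GrpObj G] {E : Set G.left} {r : ℕ} (h : TorFam G E r) (g : S' ⟶ S) :
    TorFam (Red.bc g G) ((pullback.fst G.hom g) ⁻¹' E) r := fun k _ c => (h k (c ≫ g)).of_comp g rfl

/-- The form of the condition at the points of the base. -/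
theorem torAt_of_point {G : Over S} [GrpObj G] {E : Set G.left} {r : ℕ} {s : S}
    {T : Over (Spec (S.residueField s))} [GrpObj T] (j : T ⟶ Red.bc (S.fromSpecResidueField s) G) [IsMonHom j]
    [Mono j] (hT : Red.IsTorus T) (hd : topologicalKrullDim ↥T.left = r)
    (hr : Set.range (j.left ≫ pullback.fst G.hom (S.fromSpecResidueField s)) = E ∩ G.hom ⁻¹' {s}) :
    TorAt G E r (k := S.residueField s) (S.fromSpecResidueField s) := by
  refine ⟨T, inferInstance, j, inferInstance, inferInstance, hT, hd, ?_⟩
  have hinj : Function.Injective (pullback.fst G.hom (S.fromSpecResidueField s)) :=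
    (pullback.fst G.hom (S.fromSpecResidueField s)).isEmbedding.injective
  ext x
  constructor
  · rintro ⟨y, rfl⟩
    have : (j.left ≫ pullback.fst G.hom (S.fromSpecResidueField s)) y ∈ E ∩ G.hom ⁻¹' {s} := hr ▸ ⟨y, rfl⟩
    exact this.1
  · intro hx
    have hx2 : G.hom (pullback.fst G.hom (S.fromSpecResidueField s) x) = s := by
      rw [← Scheme.Hom.comp_apply, pullback.condition, Scheme.Hom.comp_apply]
      exact Scheme.fromSpecResidueField_apply s _
    have : pullback.fst G.hom (S.fromSpecResidueField s) x ∈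
        Set.range (j.left ≫ pullback.fst G.hom (S.fromSpecResidueField s)) := by
      rw [hr]
      exact ⟨hx, hx2⟩
    obtain ⟨y, hy⟩ := this
    exact ⟨y, hinj hy⟩

/-- The family from its form at the points. -/
theorem torFam_of_points {G : Over S} [GrpObj G] [LocallyOfFiniteType G.hom] {E : Set G.left} {r : ℕ}
    (h : ∀ s : S, TorAt G E r (k := S.residueField s) (S.fromSpecResidueField s)) : TorFam G E r := by
  intro k _ c
  obtain ⟨s, σ, hσ⟩ := exists_factor c
  exact (h s).bc σ hσ

end K12.NormKit
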