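import Groth.Agent.SGA3x.K12.NormTrait
import Groth.Agent.AlgGrp.K409.TorsTorus
import Groth.Agent.AlgGrp.K404.EtConn
import Groth.Agent.Grpsch.KerMul
import Groth.Agent.Sga3B.BcPts

/-!
# The torsion points of a family of tori

`PP G E n`: the points `x` of `E` with `x ^ n` in the unit section.

* `isLocallyClosed_PP`, `preimage_PP`: it is locally closed and compatible with base change;
* `exists_kernel`, `exists_fibre`: over a field it is the underlying set of the `n`-torsion of a torus, which is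
  finite étale of degree `n ^ r`;
* `mul_mem`, `inv_mem`: it is a subgroup;
* `ext_of_points`, `comm_of_points`.
-/

set_option autoImplicit false
universe u
open CategoryTheory MonoidalCategory CartesianMonoidalCategory MonObj GrpObj AlgebraicGeometry Limits

namespace K12.NormTor

open K12.NormKit K12.NormTrait
open Groth.Agent

section Set

variable {S S' : Scheme.{u}} (G : Over S) [GrpObj G] (E : Set G.left) (n : ℕ)

/-- The `n`-torsion points of `E`. -/
def PP : Set G.left := E ∩ (𝟙 G ^ n : G ⟶ G).left ⁻¹' Set.range η[G].left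

instance isImmersion_unit : IsImmersion η[G].left := by
  have h : IsImmersion (η[G].left ≫ G.hom) := by
    rw [Over.w]
    exact inferInstanceAs (IsImmersion (𝟙 S))
  exact IsImmersion.of_comp η[G].left G.hom

variable {E} in
theorem isLocallyClosed_PP (hE : IsLocallyClosed E) : IsLocallyClosed (PP G E n) :=
  hE.inter ((η[G].left.isLocallyClosed_range).preimage (𝟙 G ^ n : G ⟶ G).left.continuous)

/-- The unit section and base change. -/
theorem range_unit_bc (f : S' ⟶ S) : Set.range η[Red.bc f G].left = pullback.fst G.hom f ⁻¹' Set.range η[G].left := by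
  rw [← range_map f η[G]]
  have h1 : (Over.pullback f).map η[G] = toUnit _ ≫ η[Red.bc f G] := by
    have h2 : (Over.pullback f).map (1 : 𝟙_ (Over S) ⟶ G) = 1 := Functor.map_one _
    rw [← MonObj.one_eq_one (M := G)] at h2
    rw [h2]
    exact Hom.one_def
  have h3 : IsIso (toUnit ((Over.pullback f).obj (𝟙_ (Over S)))).left := by
    have h4 : (toUnit ((Over.pullback f).obj (𝟙_ (Over S)))).left = pullback.snd (𝟙 S) f :=
      (Category.comp_id _).symm.trans (Over.w (toUnit ((Over.pullback f).obj (𝟙_ (Over S)))))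
    rw [h4]
    infer_instance
  rw [h1, Over.comp_left, Scheme.Hom.comp_base, TopCat.coe_comp, Set.range_comp,
    Set.range_eq_univ.mpr (toUnit ((Over.pullback f).obj (𝟙_ (Over S)))).left.surjective, Set.image_univ]

theorem preimage_PP (f : S' ⟶ S) : pullback.fst G.hom f ⁻¹' PP G E n =
    PP (Red.bc f G) (pullback.fst G.hom f ⁻¹' E) n := by
  ext x
  have h1 : pullback.fst G.hom f ((𝟙 (Red.bc f G) ^ n : Red.bc f G ⟶ Red.bc f G).left x) =
      (𝟙 G ^ n : G ⟶ G).left (pullback.fst G.hom f x) := by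
    rw [← K409.TorsTorus.map_pow_one, ← Scheme.Hom.comp_apply, ← Scheme.Hom.comp_apply,
      ActBC.pullback_map_left_fst]
  have h2 : (𝟙 (Red.bc f G) ^ n : Red.bc f G ⟶ Red.bc f G).left x ∈ Set.range η[Red.bc f G].left ↔
      (𝟙 G ^ n : G ⟶ G).left (pullback.fst G.hom f x) ∈ Set.range η[G].left := by
    rw [range_unit_bc, Set.mem_preimage, h1]
  exact and_congr Iff.rfl h2.symm

end Set

theorem exists_preimage {P X Y Z : Scheme.{u}} {fst : P ⟶ X} {snd : P ⟶ Y} {f : X ⟶ Z} {g : Y ⟶ Z}
    (h : IsPullback fst snd f g) (x : X) (y : Y) (hxy : f x = g y) : ∃ p : P, fst p = x ∧ snd p = y := by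
  obtain ⟨z, hz1, hz2⟩ := Scheme.Pullback.exists_preimage_pullback (f := f) (g := g) x y hxy
  refine ⟨h.isoPullback.inv z, ?_, ?_⟩
  · rw [← Scheme.Hom.comp_apply, h.isoPullback_inv_fst, hz1]
  · rw [← Scheme.Hom.comp_apply, h.isoPullback_inv_snd, hz2]

theorem pow_hom {S : Scheme.{u}} {T P : Over S} [GrpObj P] [GrpObj T] (j : T ⟶ P) [IsMonHom j] (n : ℕ) (x : T.left) :
    (𝟙 P ^ n : P ⟶ P).left (j.left x) = j.left ((𝟙 T ^ n : T ⟶ T).left x) := by
  have h : j ≫ (𝟙 P ^ n : P ⟶ P) = (𝟙 T ^ n : T ⟶ T) ≫ j := by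
    rw [MonObj.comp_pow, MonObj.pow_comp, Category.comp_id, Category.id_comp]
  rw [← Scheme.Hom.comp_apply, ← Scheme.Hom.comp_apply, ← Over.comp_left, ← Over.comp_left, h]

theorem unit_hom {S : Scheme.{u}} {T P : Over S} [GrpObj P] [GrpObj T] (j : T ⟶ P) [IsMonHom j]
    (t : ↥(𝟙_ (Over S)).left) : j.left (η[T].left t) = η[P].left t := by
  rw [← Scheme.Hom.comp_apply, ← Over.comp_left, IsMonHom.one_hom]

/-- Torsion points of a subgroup. -/
theorem range_kernel {S : Scheme.{u}} {T P K : Over S} [GrpObj P] [GrpObj T] (j : T ⟶ P) [IsMonHom j] {n : ℕ}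
    (hj : Function.Injective j.left) {κ : K ⟶ T} (hker : AlgGrp.IsKernel κ (𝟙 T ^ n : T ⟶ T)) :
    Set.range (κ ≫ j).left = PP P (Set.range j.left) n := by
  have h2 := hker.map (Over.forget _)
  ext x
  constructor
  · rintro ⟨y, rfl⟩
    rw [Over.comp_left, Scheme.Hom.comp_apply]
    refine ⟨⟨_, rfl⟩, (toUnit K).left y, ?_⟩
    rw [pow_hom, ← unit_hom j]
    congr 1
    have := congrArg (fun a => a.left y) hker.w
    simp only [Over.comp_left, Scheme.Hom.comp_apply] at this
    exact this.symm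
  · rintro ⟨⟨z, rfl⟩, t, ht⟩
    rw [pow_hom, ← unit_hom j] at ht
    obtain ⟨y, hy, -⟩ := exists_preimage h2 z t (hj ht).symm
    refine ⟨y, ?_⟩
    rw [Over.comp_left, Scheme.Hom.comp_apply]
    exact congrArg _ hy

section Field

variable {k : Type u} [Field k] {P T : Over (Spec (CommRingCat.of k))} [GrpObj P] [GrpObj T]

/-- The `n`-torsion of a subtorus. -/
theorem exists_kernel [LocallyOfFiniteType P.hom] (hT : Red.IsTorus T) {r : ℕ}
    (hd : topologicalKrullDim ↥T.left = r) (j : T ⟶ P) [IsMonHom j] [Mono j] {n : ℕ} (hn : (n : k) ≠ 0) :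
    ∃ (K : Over (Spec (CommRingCat.of k))) (_ : GrpObj K) (κ : K ⟶ T), IsMonHom κ ∧
      AlgGrp.IsKernel κ (𝟙 T ^ n : T ⟶ T) ∧ IsClosedImmersion κ.left ∧ Etale K.hom ∧
      Mor2.IsFinLocFreeOfDeg (n ^ r) K.hom ∧ Set.range (κ ≫ j).left = PP P (Set.range j.left) n := by
  have hTc := isCommMonObj_torus hT
  have hTs := Groth.Agent.Sga3B.TorusAlgClosed.smooth_of_isTorus hT
  have hTsep := K278.GrpField.isSeparated k T
  have hn0 : 0 < n := Nat.pos_of_ne_zero (by rintro rfl; exact hn Nat.cast_zero)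
  obtain ⟨K, _, κ, hκ, hker, hcl⟩ := K404.EtConn.exists_kernel (𝟙 T ^ n : T ⟶ T)
  refine ⟨K, inferInstance, κ, hκ, hker, hcl, ?_, K409.TorsTorus.deg_torus hT n hn0 r hd hker, ?_⟩
  · have h1 : Etale (𝟙 T ^ n : T ⟶ T).left := by
      refine Sga7.H751.PowEtale.etale_pow T n fun s => ?_
      exact natCast_ne_zero (R := k) (IsUnit.mk0 _ hn) s
    have h2 := hker.map (Over.forget _)
    have h3 : Etale (toUnit K).left := MorphismProperty.of_isPullback (P := @Etale) h2 h1
    have h4 : (toUnit K).left = K.hom := (Category.comp_id _).symm.trans (Over.w (toUnit K))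
    rwa [h4] at h3
  · have := isClosedImmersion_torus hT j
    exact range_kernel j j.left.isClosedEmbedding.injective hker

end Field

section Law

variable {S : Scheme.{u}} {G : Over S} [GrpObj G]

/-- Two morphisms from a reduced scheme which agree at all points are equal. -/
theorem ext_of_points {X M : Scheme.{u}} [IsReduced X] (f g : X ⟶ M)
    (h : ∀ x : X, X.fromSpecResidueField x ≫ f = X.fromSpecResidueField x ≫ g) : f = g := by
  have h1 : Function.Surjective (equalizer.ι f g) := by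
    intro x
    refine ⟨equalizer.lift (X.fromSpecResidueField x) (h x) (IsLocalRing.closedPoint (X.residueField x)), ?_⟩
    rw [← Scheme.Hom.comp_apply, equalizer.lift_ι]
    exact Scheme.fromSpecResidueField_apply x _
  have h2 : Surjective (equalizer.ι f g) := ⟨h1⟩
  have h3 : IsClosedImmersion (equalizer.ι f g) :=
    IsClosedImmersion.of_isPreimmersion _ (by rw [Set.range_eq_univ.mpr h1]; exact isClosed_univ)
  have h4 := isIso_of_isClosedImmersion_of_surjective (equalizer.ι f g)
  rw [← cancel_epi (equalizer.ι f g), equalizer.condition]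

/-- The set `Q` is a subgroup at the field-valued point `c`. -/
def SubAt (G : Over S) [GrpObj G] (Q : Set G.left) {k : Type u} [Field k] (c : Spec (CommRingCat.of k) ⟶ S) : Prop :=
  ∃ (K : Over (Spec (CommRingCat.of k))) (_ : GrpObj K) (u : K ⟶ Red.bc c G), IsMonHom u ∧ IsImmersion u.left ∧
    IsCommMonObj K ∧ Set.range u.left = pullback.fst G.hom c ⁻¹' Q

/-- The field-valued point under a point of `X`. -/
noncomputable abbrev cAt {X : Over S} (x : X.left) : Spec (CommRingCat.of (X.left.residueField x)) ⟶ S :=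
  X.left.fromSpecResidueField x ≫ X.hom

/-- The field-valued point at a point of `X`. -/
noncomputable def ptAt {X : Over S} (x : X.left) :
    (Over.map (cAt x)).obj (𝟙_ (Over (Spec (CommRingCat.of (X.left.residueField x))))) ⟶ X :=
  Over.homMk (X.left.fromSpecResidueField x) (Category.id_comp _).symm

/-- The point at `x` of a morphism. -/
noncomputable def valAt {X : Over S} (x : X.left) (g : X ⟶ G) :
    𝟙_ (Over (Spec (CommRingCat.of (X.left.residueField x)))) ⟶ Red.bc (cAt x) G :=
  Sga3B.BcPts.bcMulEquiv (cAt x) _ G (ptAt x ≫ g)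

theorem valAt_mul {X : Over S} (x : X.left) (g h : X ⟶ G) : valAt x (g * h) = valAt x g * valAt x h := by
  rw [valAt, MonObj.comp_mul, map_mul]
  rfl

theorem valAt_one {X : Over S} (x : X.left) : valAt x (1 : X ⟶ G) = 1 := by
  rw [valAt, MonObj.comp_one, map_one]

theorem valAt_inv {X : Over S} (x : X.left) (g : X ⟶ G) : valAt x g⁻¹ = (valAt x g)⁻¹ := by
  rw [valAt, GrpObj.comp_inv, map_inv]
  rfl

theorem bcMulEquiv_left_fst {k : Type u} [Field k] (c : Spec (CommRingCat.of k) ⟶ S)
    {T : Over (Spec (CommRingCat.of k))} (g : (Over.map c).obj T ⟶ G) :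
    (Sga3B.BcPts.bcMulEquiv c T G g).left ≫ pullback.fst G.hom c = g.left := by
  change ((Over.mapPullbackAdj c).homEquiv T G g).left ≫ pullback.fst G.hom c = g.left
  rw [Adjunction.homEquiv_unit]
  simp only [Over.comp_left, Category.assoc, Over.pullback_map_left, Over.mapPullbackAdj_unit_app, Over.homMk_left]
  rw [pullback.lift_fst, ← Category.assoc]
  exact (congrArg (fun a => a ≫ g.left) (pullback.lift_fst _ _ _)).trans (Category.id_comp _)

theorem valAt_fst {X : Over S} (x : X.left) (g : X ⟶ G) :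
    (valAt x g).left ≫ pullback.fst G.hom (cAt x) = X.left.fromSpecResidueField x ≫ g.left :=
  bcMulEquiv_left_fst _ _

theorem range_valAt {X : Over S} (x : X.left) (g : X ⟶ G) (Q : Set G.left) :
    Set.range (valAt x g).left ⊆ pullback.fst G.hom (cAt x) ⁻¹' Q ↔ g.left x ∈ Q := by
  have h : ∀ t, pullback.fst G.hom (cAt x) ((valAt x g).left t) = g.left x := by
    intro t
    rw [← Scheme.Hom.comp_apply, valAt_fst, Scheme.Hom.comp_apply]
    congr 1
    exact Scheme.fromSpecResidueField_apply x _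
  constructor
  · intro hs
    have := hs ⟨IsLocalRing.closedPoint (X.left.residueField x), rfl⟩
    rwa [Set.mem_preimage, h] at this
  · rintro hx _ ⟨t, rfl⟩
    rwa [Set.mem_preimage, h]

theorem exists_valAt {X : Over S} (x : X.left) (g : X ⟶ G) {Q : Set G.left} {K : Over (Spec (CommRingCat.of (X.left.residueField x)))}
    (u : K ⟶ Red.bc (cAt x) G) [IsImmersion u.left] (hu : Set.range u.left = pullback.fst G.hom (cAt x) ⁻¹' Q)
    (hg : g.left x ∈ Q) : ∃ g' : 𝟙_ (Over (Spec (CommRingCat.of (X.left.residueField x)))) ⟶ K, g' ≫ u = valAt x g := by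
  have hred : IsReduced (𝟙_ (Over (Spec (CommRingCat.of (X.left.residueField x))))).left :=
    inferInstanceAs (IsReduced (Spec (CommRingCat.of (X.left.residueField x))))
  obtain ⟨b, hb⟩ := Ega1.ReducedSub.exists_factor_of_range_subset (valAt x g).left u.left (by
    rw [hu]
    exact (range_valAt x g Q).mpr hg)
  refine ⟨Over.homMk b ?_, ?_⟩
  · rw [← Over.w u, ← Category.assoc, hb, Over.w]
  · ext1
    exact hb

variable {Q : Set G.left}

theorem mul_mem (hQ : ∀ (k : Type u) [Field k] (c : Spec (CommRingCat.of k) ⟶ S), SubAt G Q c) {X : Over S}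
    (g h : X ⟶ G) (hg : Set.range g.left ⊆ Q) (hh : Set.range h.left ⊆ Q) : Set.range (g * h).left ⊆ Q := by
  rintro _ ⟨x, rfl⟩
  obtain ⟨K, _, u, _, _, _, hu⟩ := hQ _ (cAt x)
  obtain ⟨g', hg'⟩ := exists_valAt x g u hu (hg ⟨x, rfl⟩)
  obtain ⟨h', hh'⟩ := exists_valAt x h u hu (hh ⟨x, rfl⟩)
  rw [← range_valAt x, ← hu, valAt_mul, ← hg', ← hh', ← MonObj.mul_comp, Over.comp_left, Scheme.Hom.comp_base,
    TopCat.coe_comp]
  exact Set.range_comp_subset_range _ _

theorem inv_mem (hQ : ∀ (k : Type u) [Field k] (c : Spec (CommRingCat.of k) ⟶ S), SubAt G Q c) {X : Over S}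
    (g : X ⟶ G) (hg : Set.range g.left ⊆ Q) : Set.range (g⁻¹).left ⊆ Q := by
  rintro _ ⟨x, rfl⟩
  obtain ⟨K, _, u, _, _, _, hu⟩ := hQ _ (cAt x)
  obtain ⟨g', hg'⟩ := exists_valAt x g u hu (hg ⟨x, rfl⟩)
  rw [← range_valAt x, ← hu, valAt_inv, ← hg', ← GrpObj.inv_comp, Over.comp_left, Scheme.Hom.comp_base,
    TopCat.coe_comp]
  exact Set.range_comp_subset_range _ _

theorem one_mem (hQ : ∀ (k : Type u) [Field k] (c : Spec (CommRingCat.of k) ⟶ S), SubAt G Q c) (X : Over S) :
    Set.range (1 : X ⟶ G).left ⊆ Q := by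
  rintro _ ⟨x, rfl⟩
  obtain ⟨K, _, u, _, _, _, hu⟩ := hQ _ (cAt x)
  rw [← range_valAt x, ← hu, valAt_one, ← MonObj.one_comp u, Over.comp_left, Scheme.Hom.comp_base,
    TopCat.coe_comp]
  exact Set.range_comp_subset_range _ _

theorem mul_comm_mem (hQ : ∀ (k : Type u) [Field k] (c : Spec (CommRingCat.of k) ⟶ S), SubAt G Q c) {X : Over S}
    [IsReduced X.left] (g h : X ⟶ G) (hg : Set.range g.left ⊆ Q) (hh : Set.range h.left ⊆ Q) : g * h = h * g := by
  ext1
  refine ext_of_points _ _ fun x => ?_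
  obtain ⟨K, _, u, _, _, _, hu⟩ := hQ _ (cAt x)
  obtain ⟨g', hg'⟩ := exists_valAt x g u hu (hg ⟨x, rfl⟩)
  obtain ⟨h', hh'⟩ := exists_valAt x h u hu (hh ⟨x, rfl⟩)
  rw [← valAt_fst, ← valAt_fst, valAt_mul, valAt_mul, ← hg', ← hh', ← MonObj.mul_comp, ← MonObj.mul_comp,
    _root_.mul_comm]

end Law

end K12.NormTor
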