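import Groth.Agent.SGA3x.K12.NormField
import Groth.Agent.AlgGrp.K411.GenClos
import Groth.Agent.AlgGrp.K411.WordDens
import Groth.Agent.Sga3.H778.NeutralOpen
import Groth.Agent.Sga3.H665.ActNeutral
import Groth.Agent.FGA.K278.GrpField
import Groth.Agent.FlatA.FibreDim
import Groth.Agent.AlgGrp.K408.SemiComm
import Groth.Agent.AbVar.K510.TorsGen
import Groth.Agent.Sga3B.SplitBc264
import Groth.Agent.S3022
import Groth.Agent.S3025
import Groth.Agent.Sga7.H751.PowEtale

/-!
# Fibrewise tori over a discrete valuation ring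

`V` a discrete valuation ring, `G` a `V`-group of finite type, `E` a locally closed subset of `G` whose traces on
the two fibres are subtori of the same dimension.

* `exists_closure`: there is a flat separated commutative `V`-group `H` with a monomorphism `H ⟶ G` of image `E`
  such that a morphism from a flat scheme to `G` factors through `H` as soon as it does so generically and its
  image lies in `E`.
-/

set_option autoImplicit false
universe u
open CategoryTheory MonoidalCategory CartesianMonoidalCategory MonObj GrpObj AlgebraicGeometry Limits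

namespace K12.NormTrait

open K12.NormKit K12.NormField
open Groth.Agent Groth.Agent.Sga7.H116.L1

/-- An integer invertible on the base does not vanish at its points. -/
theorem natCast_ne_zero {R : Type u} [CommRing R] {n : ℕ} (hn : IsUnit (n : R)) (s : Spec (CommRingCat.of R)) :
    (n : (Spec (CommRingCat.of R)).residueField s) ≠ 0 := by
  obtain ⟨φ, -⟩ := Spec.map_surjective ((Spec (CommRingCat.of R)).fromSpecResidueField s)
  have h := hn.map φ.hom
  rw [map_natCast] at h
  exact h.ne_zero

/-- The dimension of the base change at a field-valued point. -/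
theorem dim_pullback {S X : Scheme.{u}} (f : X ⟶ S) [LocallyOfFiniteType f] {k : Type u} [Field k]
    (c : Spec (CommRingCat.of k) ⟶ S) :
    topologicalKrullDim ↥(pullback f c) =
      topologicalKrullDim ↥(f ⁻¹' {c (IsLocalRing.closedPoint k)} : Set X) := by
  obtain ⟨s, σ, hσ⟩ := exists_factor c
  have hs : c (IsLocalRing.closedPoint k) = s := by
    rw [← hσ, Scheme.Hom.comp_apply]
    exact Scheme.fromSpecResidueField_apply s _
  rw [hs, ← FlatA.FibreDim.topologicalKrullDim_fiber_eq f s]
  change topologicalKrullDim ↥(pullback f c) = topologicalKrullDim ↥(pullback f (S.fromSpecResidueField s))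
  obtain ⟨φ, rfl⟩ := Spec.map_surjective σ
  let _ : Algebra (S.residueField s) k := φ.hom.toAlgebra
  rw [← K106.Dim.topologicalKrullDim_bc_eq (k := S.residueField s) (f := pullback.snd f (S.fromSpecResidueField s)) k]
  let e : pullback (pullback.snd f (S.fromSpecResidueField s)) (Spec.map φ) ≅ pullback f c :=
    pullbackLeftPullbackSndIso f (S.fromSpecResidueField s) (Spec.map φ) ≪≫ pullback.congrHom rfl hσ
  exact (e.hom.homeomorph.isHomeomorph.topologicalKrullDim_eq).symm

section

variable (V : Type u) [CommRing V] [IsDomain V] [IsDiscreteValuationRing V]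

/-- The generic point. -/
noncomputable abbrev ge : Spec (CommRingCat.of (FractionRing V)) ⟶ Spec (CommRingCat.of V) :=
  gen V (FractionRing V)

/-- The closed point. -/
noncomputable abbrev cl : Spec (CommRingCat.of (IsLocalRing.ResidueField V)) ⟶ Spec (CommRingCat.of V) :=
  Spec.map (CommRingCat.ofHom (IsLocalRing.residue V))

theorem cl_apply (x : Spec (CommRingCat.of (IsLocalRing.ResidueField V))) : cl V x = IsLocalRing.closedPoint V := by
  have hx : x = IsLocalRing.closedPoint (IsLocalRing.ResidueField V) :=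
    Subsingleton.elim (α := PrimeSpectrum (IsLocalRing.ResidueField V)) _ _
  rw [hx]
  exact IsLocalRing.comap_closedPoint (IsLocalRing.residue V)

theorem ge_apply (x : Spec (CommRingCat.of (FractionRing V))) : ge V x = (⊥ : PrimeSpectrum V) := by
  have hx : x = (⊥ : PrimeSpectrum (FractionRing V)) :=
    Subsingleton.elim (α := PrimeSpectrum (FractionRing V)) _ _
  rw [hx]
  refine PrimeSpectrum.ext ?_
  change Ideal.comap (algebraMap V (FractionRing V)) ⊥ = ⊥
  rw [← RingHom.ker_eq_comap_bot, (RingHom.injective_iff_ker_eq_bot _).mp (IsFractionRing.injective V (FractionRing V))]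

theorem cases (s : Spec (CommRingCat.of V)) : s ∈ Set.range (ge V) ∨ s ∈ Set.range (cl V) := by
  by_cases h : s.asIdeal = ⊥
  · left
    refine ⟨(⊥ : PrimeSpectrum (FractionRing V)), ?_⟩
    rw [ge_apply]
    exact PrimeSpectrum.ext h.symm
  · right
    refine ⟨IsLocalRing.closedPoint (IsLocalRing.ResidueField V), ?_⟩
    rw [cl_apply]
    refine PrimeSpectrum.ext ?_
    have : s.asIdeal.IsMaximal := s.2.isMaximal h
    exact (IsLocalRing.eq_maximalIdeal this).symm

theorem ge_specializes (s : Spec (CommRingCat.of V)) (x : Spec (CommRingCat.of (FractionRing V))) : ge V x ⤳ s := by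
  rw [ge_apply]
  exact (PrimeSpectrum.le_iff_specializes _ _).mp bot_le

end

/-- A subtorus over a field is a closed subscheme. -/
theorem isClosedImmersion_torus {k : Type u} [Field k] {T P : Over (Spec (CommRingCat.of k))} [GrpObj T] [GrpObj P]
    [LocallyOfFiniteType P.hom] (hT : Red.IsTorus T) (j : T ⟶ P) [IsMonHom j] [Mono j] :
    IsClosedImmersion j.left := by
  have h1 := Groth.Agent.Sga3B.TorusAlgClosed.smooth_of_isTorus hT
  have h2 := K278.GrpField.isSeparated k P
  have h3 : QuasiCompact T.hom := by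
    have := Groth.Agent.Sga3B.TorusAlgClosed.isAffineHom_of_isTorus hT
    infer_instance
  have h4 : QuasiCompact j.left := by
    have : QuasiCompact (j.left ≫ P.hom) := by rw [Over.w]; infer_instance
    exact QuasiCompact.of_comp j.left P.hom
  exact S3036.result k _ _ j

/-- Tori over a field are commutative. -/
theorem isCommMonObj_torus {k : Type u} [Field k] {T : Over (Spec (CommRingCat.of k))} [GrpObj T]
    (hT : Red.IsTorus T) : IsCommMonObj T := by
  let f : Spec (CommRingCat.of (AlgebraicClosure k)) ⟶ Spec (CommRingCat.of k) :=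
    Spec.map (CommRingCat.ofHom (algebraMap k (AlgebraicClosure k)))
  have h1 := Groth.Agent.Sga3B.TorusBc.isTorus_bc f hT
  have h2 : IsCommMonObj (Red.bc f T) := Groth.Agent.AlgGrp.K408.SemiComm.isCommMonObj_of_isTorus h1
  have h3 : Flat f := inferInstance
  have h4 : Surjective f := inferInstance
  exact Groth.Agent.AlgGrp.K408.SemiComm.isCommMonObj_of_bc f h2

section Main

/-- Membership over a field-valued point. -/
theorem mem_range_iff {k : Type u} [Field k] {S : Scheme.{u}} {G N : Over S} (c : Spec (CommRingCat.of k) ⟶ S)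
    (i : N ⟶ G) {E : Set G.left}
    (h : Set.range ((Over.pullback c).map i).left = pullback.fst G.hom c ⁻¹' E) {x : G.left}
    (hx : G.hom x ∈ Set.range c) : x ∈ Set.range i.left ↔ x ∈ E := by
  have : x ∈ Set.range (pullback.fst G.hom c) := by rw [Scheme.Pullback.range_fst]; exact hx
  obtain ⟨x', rfl⟩ := this
  rw [range_map] at h
  exact Set.ext_iff.mp h x'

variable {V : Type u} [CommRing V] [IsDomain V] [IsDiscreteValuationRing V]
  {G N : Over (Spec (CommRingCat.of V))} {E : Set G.left}

theorem exists_generization [Flat N.hom] (y : N.left) : ∃ y' : N.left, y' ⤳ y ∧ N.hom y' ∈ Set.range (ge V) := by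
  let z : Spec (CommRingCat.of (FractionRing V)) := IsLocalRing.closedPoint (FractionRing V)
  obtain ⟨y', h1, h2⟩ := Flat.generalizingMap N.hom (ge_specializes V (N.hom y) z)
  exact ⟨y', h1, z, h2.symm⟩

theorem mem_E [Flat N.hom] (i : N ⟶ G) (hgen : ∀ x : G.left, G.hom x ∈ Set.range (ge V) → (x ∈ Set.range i.left ↔ x ∈ E))
    {U Z : Set G.left} (hZ : IsClosed Z) (hE : E = U ∩ Z) (y : N.left) (hy : i.left y ∈ U) : i.left y ∈ E := by
  obtain ⟨y', h1, h2⟩ := exists_generization y
  have h3 : i.left y' ∈ E := by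
    refine (hgen _ ?_).mp ⟨y', rfl⟩
    rwa [← Scheme.Hom.comp_apply, Over.w]
  rw [hE] at h3 ⊢
  exact ⟨hy, (h1.map i.left.continuous).mem_closed hZ h3.2⟩

variable [GrpObj G] [GrpObj N]

theorem closed_core [LocallyOfFiniteType G.hom] (i : N ⟶ G) [IsMonHom i] [IsClosedImmersion i.left] {r : ℕ}
    (ho : TorAt G E r (cl V)) (hN : topologicalKrullDim ↥(Red.bc (cl V) N).left = r) {U : Set G.left}
    (hU : IsOpen U) (hUE : E ⊆ U) (hmem : ∀ y : N.left, i.left y ∈ U → i.left y ∈ E) :
    ((Over.pullback (cl V)).map i).left '' (pullback.fst N.hom (cl V) ⁻¹' SGA3x.neutralSet N) =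
      pullback.fst G.hom (cl V) ⁻¹' E := by
  obtain ⟨T, _, j, _, _, hT, hd, hr⟩ := ho
  have h1 : LocallyOfFiniteType (Red.bc (cl V) G).hom :=
    inferInstanceAs (LocallyOfFiniteType (pullback.snd G.hom (cl V)))
  have h2 := isClosedImmersion_torus hT j
  have h3 : IsClosedImmersion ((Over.pullback (cl V)).map i).left :=
    MorphismProperty.of_isPullback (Groth.Agent.Sga3C.ActBase.isPullback_map_left (cl V) i).flip inferInstance
  have hmi : IsMonHom ((Over.pullback (cl V)).map i) := inferInstance
  have h4 : ∀ p : (Red.bc (cl V) N).left, pullback.fst G.hom (cl V) (((Over.pullback (cl V)).map i).left p) =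
      i.left (pullback.fst N.hom (cl V) p) := by
    intro p
    rw [← Scheme.Hom.comp_apply, ← Scheme.Hom.comp_apply, ActBC.pullback_map_left_fst]
  have h5 : η[Red.bc (cl V) G].left (IsLocalRing.closedPoint (IsLocalRing.ResidueField V)) ∈ Set.range j.left := by
    refine ⟨η[T].left (IsLocalRing.closedPoint _), ?_⟩
    rw [← Scheme.Hom.comp_apply, ← Over.comp_left, IsMonHom.one_hom]
  have key := image_component ((Over.pullback (cl V)).map i) j hT r hd hN (pullback.fst G.hom (cl V) ⁻¹' U)
    (hU.preimage (pullback.fst G.hom (cl V)).continuous) (by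
      rw [hr] at h5
      exact hUE h5) (by
      intro p hp
      rw [hr]
      rw [Set.mem_preimage, h4] at hp ⊢
      exact hmem _ hp)
  rw [Sga3.H665.ActNeutral.preimage_neutralSet, K278.GrpField.neutralSet_eq, key, hr]

omit [IsDomain V] [IsDiscreteValuationRing V] [GrpObj G] [GrpObj N] in
theorem map_apply {k : Type u} [Field k] (c : Spec (CommRingCat.of k) ⟶ Spec (CommRingCat.of V)) (i : N ⟶ G)
    (p : (Red.bc c N).left) : pullback.fst G.hom c (((Over.pullback c).map i).left p) =
      i.left (pullback.fst N.hom c p) := by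
  rw [← Scheme.Hom.comp_apply, ← Scheme.Hom.comp_apply, ActBC.pullback_map_left_fst]

theorem neutralSet_eq (i : N ⟶ G) [IsMonHom i] [IsClosedImmersion i.left]
    (hgen : ∀ x : G.left, G.hom x ∈ Set.range (ge V) → (x ∈ Set.range i.left ↔ x ∈ E))
    (hconn : ConnectedSpace (Red.bc (ge V) N).left)
    (hcore : ((Over.pullback (cl V)).map i).left '' (pullback.fst N.hom (cl V) ⁻¹' SGA3x.neutralSet N) =
      pullback.fst G.hom (cl V) ⁻¹' E) : SGA3x.neutralSet N = i.left ⁻¹' E := by
  have h3 : IsClosedImmersion ((Over.pullback (cl V)).map i).left :=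
    MorphismProperty.of_isPullback (Groth.Agent.Sga3C.ActBase.isPullback_map_left (cl V) i).flip inferInstance
  ext y
  rcases cases V (N.hom y) with hy | hy
  · have h1 : y ∈ Set.range (pullback.fst N.hom (ge V)) := by rw [Scheme.Pullback.range_fst]; exact hy
    obtain ⟨p, rfl⟩ := h1
    have h2 : p ∈ pullback.fst N.hom (ge V) ⁻¹' SGA3x.neutralSet N := by
      rw [Sga3.H665.ActNeutral.preimage_neutralSet, K278.GrpField.neutralSet_eq]
      have : connectedComponent (η[Red.bc (ge V) N].left (IsLocalRing.closedPoint (FractionRing V))) = Set.univ :=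
        PreconnectedSpace.connectedComponent_eq_univ _
      rw [this]
      trivial
    refine ⟨fun _ => (hgen _ ?_).mp ⟨_, rfl⟩, fun _ => h2⟩
    rwa [← Scheme.Hom.comp_apply, Over.w]
  · have h1 : y ∈ Set.range (pullback.fst N.hom (cl V)) := by rw [Scheme.Pullback.range_fst]; exact hy
    obtain ⟨p, rfl⟩ := h1
    have h4 : ((Over.pullback (cl V)).map i).left p ∈ ((Over.pullback (cl V)).map i).left ''
        (pullback.fst N.hom (cl V) ⁻¹' SGA3x.neutralSet N) ↔ pullback.fst N.hom (cl V) p ∈ SGA3x.neutralSet N := by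
      refine ⟨fun ⟨z, hz, h⟩ => ?_, fun h => ⟨p, h, rfl⟩⟩
      rwa [← ((Over.pullback (cl V)).map i).left.isClosedEmbedding.injective h]
    rw [← h4, hcore, Set.mem_preimage, map_apply]
    rfl

omit [GrpObj G] in
theorem subset_range (i : N ⟶ G)
    (hgen : ∀ x : G.left, G.hom x ∈ Set.range (ge V) → (x ∈ Set.range i.left ↔ x ∈ E))
    (hcore : ((Over.pullback (cl V)).map i).left '' (pullback.fst N.hom (cl V) ⁻¹' SGA3x.neutralSet N) =
      pullback.fst G.hom (cl V) ⁻¹' E) : E ⊆ Set.range i.left := by
  intro x hx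
  rcases cases V (G.hom x) with hy | hy
  · exact (hgen x hy).mpr hx
  · have h1 : x ∈ Set.range (pullback.fst G.hom (cl V)) := by rw [Scheme.Pullback.range_fst]; exact hy
    obtain ⟨p, rfl⟩ := h1
    have h2 : p ∈ pullback.fst G.hom (cl V) ⁻¹' E := hx
    rw [← hcore] at h2
    obtain ⟨z, -, rfl⟩ := h2
    exact ⟨_, (map_apply (cl V) i z).symm⟩

/-- **The closure of the generic torus**: a flat separated commutative group with underlying set `E`. -/
theorem exists_closure (G : Over (Spec (CommRingCat.of V))) [GrpObj G] [LocallyOfFiniteType G.hom]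
    {E : Set G.left} (hE : IsLocallyClosed E) {r : ℕ} (hg : TorAt G E r (ge V)) (ho : TorAt G E r (cl V)) :
    ∃ (H : Over (Spec (CommRingCat.of V))) (_ : GrpObj H) (_ : IsCommMonObj H) (i : H ⟶ G), IsMonHom i ∧ Mono i ∧
      IsImmersion i.left ∧ Flat H.hom ∧ LocallyOfFinitePresentation H.hom ∧ IsSeparated H.hom ∧
      Set.range i.left = E ∧
      ∀ (P : Over (Spec (CommRingCat.of V))) [Flat P.hom] (h : P ⟶ G), Set.range h.left ⊆ E →
        (∃ b : (Over.pullback (ge V)).obj P ⟶ (Over.pullback (ge V)).obj H,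
          b ≫ (Over.pullback (ge V)).map i = (Over.pullback (ge V)).map h) → ∃ h' : P ⟶ H, h' ≫ i = h := by
  obtain ⟨T, _, j, _, _, hT, hd, hr⟩ := hg
  have h1 : LocallyOfFiniteType (Red.bc (ge V) G).hom :=
    inferInstanceAs (LocallyOfFiniteType (pullback.snd G.hom (ge V)))
  have h2 := isClosedImmersion_torus hT j
  obtain ⟨N, _, i, e, _, _, _, _, he⟩ := AlgGrp.K411.GenClos.exists_closure V (FractionRing V) G j
  have hN1 : LocallyOfFiniteType N.hom := by rw [← Over.w i]; infer_instance
  have hN2 : LocallyOfFinitePresentation N.hom := by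
    have : IsLocallyNoetherian (Spec (CommRingCat.of V)) := inferInstance
    infer_instance
  have hirr : IrreducibleSpace T.left := K402.Tori.irreducibleSpace hT
  have hmap : Set.range ((Over.pullback (ge V)).map i).left = pullback.fst G.hom (ge V) ⁻¹' E := by
    rw [← he, ← hr, Over.comp_left, Scheme.Hom.comp_base, TopCat.coe_comp, Set.range_comp,
      Set.range_eq_univ.mpr e.hom.left.surjective, Set.image_univ]
  have hgen : ∀ x : G.left, G.hom x ∈ Set.range (ge V) → (x ∈ Set.range i.left ↔ x ∈ E) :=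
    fun x hx => mem_range_iff (ge V) i hmap hx
  have hconn : ConnectedSpace (Red.bc (ge V) N).left := by
    have : ConnectedSpace T.left := inferInstance
    exact e.inv.left.surjective.connectedSpace e.inv.left.continuous
  have hdN : topologicalKrullDim ↥(Red.bc (ge V) N).left = r := by
    rw [← hd]
    exact e.hom.left.homeomorph.isHomeomorph.topologicalKrullDim_eq
  have hdo : topologicalKrullDim ↥(Red.bc (cl V) N).left = r := by
    rw [← hdN]
    change topologicalKrullDim ↥(pullback N.hom (cl V)) = topologicalKrullDim ↥(pullback N.hom (ge V))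
    rw [dim_pullback, dim_pullback]
    exact (S3022.result _ N).apply_eq_of_preconnectedSpace _ _
  obtain ⟨U, Z, hU, hZ, hUZ⟩ := hE
  have hmem := mem_E i hgen hZ hUZ
  have hUE : E ⊆ U := hUZ ▸ Set.inter_subset_left
  have hcore := closed_core i ho hdo hU hUE hmem
  have hneu := neutralSet_eq i hgen hconn hcore
  have hsub := subset_range i hgen hcore
  have hopen : IsOpen (SGA3x.neutralSet N) := by
    have : SGA3x.neutralSet N = i.left ⁻¹' U := by
      rw [hneu]
      exact subset_antisymm (Set.preimage_mono hUE) fun y hy => hmem y hy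
    rw [this]
    exact hU.preimage i.left.continuous
  obtain ⟨_, hm⟩ := Sga3.H778.NeutralOpen.exists_grpObj N hopen
  let H := Sga3.H778.NeutralOpen.opn N (Sga3.H778.NeutralOpen.neutral N hopen)
  let o : H ⟶ N := Sga3.H778.NeutralOpen.opnι N (Sga3.H778.NeutralOpen.neutral N hopen)
  have ho1 : IsOpenImmersion o.left := inferInstance
  have hHf : Flat H.hom := by rw [← Over.w o]; infer_instance
  have hHp : LocallyOfFinitePresentation H.hom := by rw [← Over.w o]; infer_instance
  have hHs : IsSeparated H.hom := (S3025.result _ H (Sga3.H778.NeutralOpen.isConnected_fibre N hopen)).1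
  have him : Mono i := (Over.forget _).mono_of_mono_map (inferInstanceAs (Mono i.left))
  have hTc := isCommMonObj_torus hT
  have hHc : IsCommMonObj H := by
    have h3 : IsCommMonObj (Red.bc (ge V) H) :=
      K510.TorsGen.isCommMonObj_of_mono ((Over.pullback (ge V)).map o ≫ e.hom)
    exact AlgGrp.K411.WordDens.isCommMonObj_of_dominant (f := ge V) h3
  have hrange : Set.range (o ≫ i).left = E := by
    rw [Over.comp_left, Scheme.Hom.comp_base, TopCat.coe_comp, Set.range_comp]
    have : Set.range o.left = SGA3x.neutralSet N := by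
      change Set.range (Sga3.H778.NeutralOpen.neutral N hopen).ι = _
      rw [Scheme.Opens.range_ι]
      rfl
    rw [this, hneu, Set.image_preimage_eq_inter_range]
    exact Set.inter_eq_left.mpr hsub
  refine ⟨H, inferInstance, hHc, o ≫ i, inferInstance, inferInstance, ?_, hHf, hHp, hHs, hrange, ?_⟩
  · rw [Over.comp_left]
    infer_instance
  · intro P _ h hh ⟨b, hb⟩
    obtain ⟨h', hh'⟩ := (AlgGrp.K411.GenClos.factors_iff_map (ge V) i h).2
      ⟨b ≫ (Over.pullback (ge V)).map o, by rw [Category.assoc, ← Functor.map_comp, hb]⟩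
    obtain ⟨h'', hh''⟩ := Sga3.H778.NeutralOpen.exists_lift (Sga3.H778.NeutralOpen.neutral N hopen) h' (by
      intro t
      change h'.left t ∈ SGA3x.neutralSet N
      rw [hneu, Set.mem_preimage, ← Scheme.Hom.comp_apply, ← Over.comp_left, hh']
      exact hh ⟨t, rfl⟩)
    exact ⟨h'', by rw [← Category.assoc, hh'', hh']⟩

omit [IsDiscreteValuationRing V] in
/-- A morphism from a flat scheme with reduced generic fibre whose image lies in `E` factors through the closure. -/
theorem exists_factor_of_reduced {H G : Over (Spec (CommRingCat.of V))} {E : Set G.left} (i : H ⟶ G)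
    [IsImmersion i.left] (hr : Set.range i.left = E)
    (hfac : ∀ (P : Over (Spec (CommRingCat.of V))) [Flat P.hom] (h : P ⟶ G), Set.range h.left ⊆ E →
        (∃ b : (Over.pullback (ge V)).obj P ⟶ (Over.pullback (ge V)).obj H,
          b ≫ (Over.pullback (ge V)).map i = (Over.pullback (ge V)).map h) → ∃ h' : P ⟶ H, h' ≫ i = h)
    {P : Over (Spec (CommRingCat.of V))} [Flat P.hom] [IsReduced ((Over.pullback (ge V)).obj P).left] (h : P ⟶ G)
    (hh : Set.range h.left ⊆ E) : ∃ h' : P ⟶ H, h' ≫ i = h := by
  refine hfac P h hh ?_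
  have h1 : IsImmersion ((Over.pullback (ge V)).map i).left :=
    MorphismProperty.of_isPullback (Groth.Agent.Sga3C.ActBase.isPullback_map_left (ge V) i).flip inferInstance
  obtain ⟨b, hb⟩ := Ega1.ReducedSub.exists_factor_of_range_subset ((Over.pullback (ge V)).map h).left
    ((Over.pullback (ge V)).map i).left (by
      rw [range_map, range_map, hr]
      exact Set.preimage_mono hh)
  refine ⟨Over.homMk b ?_, ?_⟩
  · rw [← Over.w ((Over.pullback (ge V)).map i), ← Category.assoc, hb, Over.w]
  · ext1
    exact hb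

/-- **Uniqueness of the points over the traits.** -/
theorem unique [LocallyOfFiniteType G.hom] (hE : IsLocallyClosed E) {r : ℕ} (hg : TorAt G E r (ge V))
    (ho : TorAt G E r (cl V)) (g₁ g₂ : 𝟙_ (Over (Spec (CommRingCat.of V))) ⟶ G) (h₁ : Set.range g₁.left ⊆ E)
    (h₂ : Set.range g₂.left ⊆ E) (h : ge V ≫ g₁.left = ge V ≫ g₂.left) : g₁ = g₂ := by
  obtain ⟨H, _, _, i, _, _, _, _, _, _, hr, hfac⟩ := exists_closure G hE hg ho
  have hfl : Flat (𝟙_ (Over (Spec (CommRingCat.of V)))).hom := inferInstanceAs (Flat (𝟙 _))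
  have hred : IsReduced ((Over.pullback (ge V)).obj (𝟙_ (Over (Spec (CommRingCat.of V))))).left := by
    have : IsIso (pullback.snd (𝟙 (Spec (CommRingCat.of V))) (ge V)) := inferInstance
    exact isReduced_of_isOpenImmersion (pullback.snd (𝟙 (Spec (CommRingCat.of V))) (ge V))
  obtain ⟨a₁, rfl⟩ := exists_factor_of_reduced i hr hfac g₁ h₁
  obtain ⟨a₂, rfl⟩ := exists_factor_of_reduced i hr hfac g₂ h₂
  congr 1
  ext1
  have hdom : IsDominant (ge V) := inferInstance
  have hw : a₁.left ≫ H.hom = a₂.left ≫ H.hom := (Over.w a₁).trans (Over.w a₂).symm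
  have hrV : IsReduced (𝟙_ (Over (Spec (CommRingCat.of V)))).left :=
    inferInstanceAs (IsReduced (Spec (CommRingCat.of V)))
  refine ext_of_isDominant_of_isSeparated H.hom hw (ge V) ?_
  rw [← cancel_mono i.left, Category.assoc, Category.assoc]
  exact h

/-- **Torsion points generalize.** -/
theorem exists_torsion_generization [LocallyOfFiniteType G.hom] (hE : IsLocallyClosed E) {r : ℕ}
    (hg : TorAt G E r (ge V)) (ho : TorAt G E r (cl V)) {n : ℕ} (hn : IsUnit (n : V)) (x : G.left) (hx : x ∈ E)
    (hx1 : (𝟙 G ^ n : G ⟶ G).left x ∈ Set.range η[G].left) :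
    ∃ x' : G.left, x' ⤳ x ∧ x' ∈ E ∧ (𝟙 G ^ n : G ⟶ G).left x' ∈ Set.range η[G].left ∧
      G.hom x' ∈ Set.range (ge V) := by
  obtain ⟨H, _, _, i, _, _, _, _, _, _, hr, -⟩ := exists_closure G hE hg ho
  have hinj : Function.Injective i.left := i.left.isEmbedding.injective
  have hpw : i ≫ (𝟙 G ^ n : G ⟶ G) = (𝟙 H ^ n : H ⟶ H) ≫ i := by
    rw [MonObj.comp_pow, MonObj.pow_comp, Category.comp_id, Category.id_comp]
  have hη : ∀ t, η[G].left t = i.left (η[H].left t) := by
    intro t
    rw [← Scheme.Hom.comp_apply, ← Over.comp_left, IsMonHom.one_hom]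
  have hpwl : ∀ y, (𝟙 G ^ n : G ⟶ G).left (i.left y) = i.left ((𝟙 H ^ n : H ⟶ H).left y) := by
    intro y
    rw [← Scheme.Hom.comp_apply, ← Scheme.Hom.comp_apply, ← Over.comp_left, ← Over.comp_left, hpw]
  rw [← hr] at hx
  obtain ⟨y, rfl⟩ := hx
  obtain ⟨t, ht⟩ := hx1
  rw [hpwl, hη] at ht
  have hy := hinj ht
  have het : Etale (𝟙 H ^ n : H ⟶ H).left := by
    refine Sga7.H751.PowEtale.etale_pow H n fun s => ?_
    exact natCast_ne_zero hn s
  obtain ⟨z, hz1, hz2⟩ := Scheme.Pullback.exists_preimage_pullback (f := (𝟙 H ^ n : H ⟶ H).left)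
    (g := η[H].left) y t hy.symm
  let q : pullback (𝟙 H ^ n : H ⟶ H).left η[H].left ⟶ Spec (CommRingCat.of V) :=
    pullback.snd (𝟙 H ^ n : H ⟶ H).left η[H].left
  have hq : Flat q := inferInstanceAs (Flat (pullback.snd (𝟙 H ^ n : H ⟶ H).left η[H].left))
  let k0 : Spec (CommRingCat.of (FractionRing V)) := IsLocalRing.closedPoint (FractionRing V)
  obtain ⟨z', h1, h2⟩ := Flat.generalizingMap q (ge_specializes V (q z) k0)
  have h3 : (𝟙 H ^ n : H ⟶ H).left (pullback.fst (𝟙 H ^ n : H ⟶ H).left η[H].left z') = η[H].left (q z') := by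
    rw [← Scheme.Hom.comp_apply, ← Scheme.Hom.comp_apply, pullback.condition]
  refine ⟨i.left (pullback.fst (𝟙 H ^ n : H ⟶ H).left η[H].left z'), ?_, ?_, ?_, ?_⟩
  · rw [← hz1]
    exact (h1.map (pullback.fst (𝟙 H ^ n : H ⟶ H).left η[H].left).continuous).map i.left.continuous
  · rw [← hr]
    exact ⟨_, rfl⟩
  · rw [hpwl, h3, ← hη]
    exact ⟨_, rfl⟩
  · have h4 : G.hom (i.left (pullback.fst (𝟙 H ^ n : H ⟶ H).left η[H].left z')) = q z' := by
      rw [← Scheme.Hom.comp_apply i.left G.hom, Over.w, ← Over.w (𝟙 H ^ n : H ⟶ H), Scheme.Hom.comp_apply, h3,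
        ← Scheme.Hom.comp_apply, Over.w]
      rfl
    rw [h4, h2]
    exact ⟨k0, rfl⟩

end Main

end K12.NormTrait
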