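import Mathlib.RingTheory.LocalRing.ResidueField.Fiber
import Mathlib.Topology.KrullDimension
import Groth.Agent.Flat2D.FibDimAlg
import Groth.Agent.SGA3x.K12.DenseSpec

/-!
# The dimension of the closure of a family of rational points in a fibre

`B` an `R`-algebra of finite type, `p` a prime of `R`, `ψ i : B →ₐ[R] κ(p)` a family of rational points of the fibre of
`Spec B` over `p`.

* `cl p ψ`: the closure of the family in the fibre, as a subset of `Spec B`; `dim_cl`: its dimension is the Krull
  dimension of the quotient of `κ(p) ⊗ B` by the ideal of the functions vanishing on the family;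
* `exists_of_le_dim`, `le_dim`: the dimension is at least `d` if and only if some `d` elements of `B` take
  Zariski dense values at the points of the family.
-/

set_option autoImplicit false
universe u

open TensorProduct PrimeSpectrum Topology

namespace K12.SecDim

section general

variable {F : Type u} [CommRing F] {K : Type u} [Field K] {I : Type*}

/-- The point of `Spec B` attached to a homomorphism. -/
noncomputable def pnt (f : F →+* K) : PrimeSpectrum F := ⟨RingHom.ker f, RingHom.ker_isPrime f⟩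

variable (f : I → (F →+* K))

/-- the ideal of functions vanishing on the family -/
noncomputable def van : Ideal F := ⨅ i, RingHom.ker (f i)

lemma mem_van (x : F) : x ∈ van f ↔ ∀ i, f i x = 0 := by
  rw [van, Ideal.mem_iInf]
  rfl

/-- functions on the closure of the family -/
abbrev QV : Type u := F ⧸ van f

/-- the restriction of functions to the closure of the family -/
noncomputable def mkV : F →+* QV f := Ideal.Quotient.mk (van f)

lemma mkV_surjective : Function.Surjective (mkV f) := Ideal.Quotient.mk_surjective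

lemma mkV_eq_zero_iff (x : F) : mkV f x = 0 ↔ ∀ i, f i x = 0 :=
  Ideal.Quotient.eq_zero_iff_mem.trans (mem_van f x)

lemma ker_mkV : RingHom.ker (mkV f) = van f := Ideal.mk_ker

lemma closure_range : closure (Set.range fun i => pnt (f i)) = Set.range (comap (mkV f)) := by
  rw [range_comap_of_surjective _ _ (mkV_surjective f), ker_mkV, ← zeroLocus_vanishingIdeal_eq_closure]
  congr 2
  ext x
  rw [mem_vanishingIdeal, van, Ideal.mem_iInf, Set.forall_mem_range]
  rfl

end general

variable {R B : Type u} [CommRing R] [CommRing B] [Algebra R B] (p : PrimeSpectrum R) {I : Type*}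
  (ψ : I → (B →ₐ[R] p.asIdeal.ResidueField))

/-- The closure of the family in the fibre. -/
def cl : Set (PrimeSpectrum B) :=
  comap (algebraMap R B) ⁻¹' {p} ∩ closure (Set.range fun i => pnt (ψ i : B →+* p.asIdeal.ResidueField))

/-- The spectrum of the fibre ring. -/
noncomputable def hFib : PrimeSpectrum (p.asIdeal.Fiber B) → PrimeSpectrum B :=
  fun z => ((preimageHomeomorphFiber R B p).symm z).1

lemma isEmbedding_hFib : IsEmbedding (hFib (B := B) p) :=
  IsEmbedding.subtypeVal.comp (preimageHomeomorphFiber R B p).symm.isEmbedding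

lemma range_hFib : Set.range (hFib (B := B) p) = comap (algebraMap R B) ⁻¹' {p} := by
  change Set.range (Subtype.val ∘ (preimageHomeomorphFiber R B p).symm) = _
  rw [Set.range_comp, (preimageHomeomorphFiber R B p).symm.surjective.range_eq, Set.image_univ, Subtype.range_coe]

/-- The points of the fibre ring. -/
noncomputable def Psi (i : I) : p.asIdeal.Fiber B →ₐ[p.asIdeal.ResidueField] p.asIdeal.ResidueField :=
  Algebra.TensorProduct.lift (AlgHom.id _ _) (ψ i) (fun _ _ => Commute.all _ _)

lemma Psi_tmul (i : I) (c : p.asIdeal.ResidueField) (b : B) : Psi p ψ i (c ⊗ₜ b) = c * ψ i b :=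
  Algebra.TensorProduct.lift_tmul _ _ _ _ _

/-- The points of the fibre ring, as ring homomorphisms. -/
noncomputable def PsiR (i : I) : p.asIdeal.Fiber B →+* p.asIdeal.ResidueField := (Psi p ψ i).toRingHom

lemma hFib_pnt (i : I) : hFib p (pnt (PsiR p ψ i)) = pnt (ψ i : B →+* p.asIdeal.ResidueField) := by
  apply PrimeSpectrum.ext
  ext b
  change (Psi p ψ i) (1 ⊗ₜ b) = 0 ↔ ψ i b = 0
  rw [Psi_tmul, one_mul]

lemma cl_eq_range : cl p ψ = Set.range (hFib p ∘ comap (mkV (PsiR p ψ))) := by
  have h1 : hFib p ⁻¹' closure (Set.range fun i => pnt (ψ i : B →+* p.asIdeal.ResidueField)) =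
      closure (Set.range fun i => pnt (PsiR p ψ i)) := by
    rw [(isEmbedding_hFib (B := B) p).isInducing.closure_eq_preimage_closure_image, ← Set.range_comp]
    congr 2
    refine congrArg Set.range ?_
    funext i
    exact (hFib_pnt p ψ i).symm
  rw [Set.range_comp, ← closure_range, ← h1, Set.image_preimage_eq_inter_range, range_hFib, cl, Set.inter_comm]

/-- **The dimension of the closure of the family in the fibre.** -/
theorem dim_cl : topologicalKrullDim ↥(cl p ψ) = ringKrullDim (QV (PsiR p ψ)) := by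
  have h1 : IsEmbedding (hFib p ∘ comap (mkV (PsiR p ψ))) :=
    (isEmbedding_hFib p).comp (isClosedEmbedding_comap_of_surjective _ _ (mkV_surjective _)).isEmbedding
  rw [← PrimeSpectrum.topologicalKrullDim_eq_ringKrullDim, cl_eq_range]
  exact (IsHomeomorph.topologicalKrullDim_eq _ h1.toHomeomorph.isHomeomorph).symm

/-- elements of `B` as functions on the closure of the family -/
noncomputable def rs (b : B) : QV (PsiR p ψ) := mkV (PsiR p ψ) (1 ⊗ₜ b)

lemma aeval_rs {σ : Type*} (y : σ → B) (g : MvPolynomial σ p.asIdeal.ResidueField) :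
    MvPolynomial.aeval (fun j => rs p ψ (y j)) g =
      mkV (PsiR p ψ) (MvPolynomial.aeval (fun j => (1 : p.asIdeal.ResidueField) ⊗ₜ[R] y j) g) := by
  exact (MvPolynomial.comp_aeval_apply (f := fun j => (1 : p.asIdeal.ResidueField) ⊗ₜ[R] y j)
    (Ideal.Quotient.mkₐ p.asIdeal.ResidueField (van (PsiR p ψ))) g).symm

lemma Psi_aeval {σ : Type*} (i : I) (y : σ → B) (g : MvPolynomial σ p.asIdeal.ResidueField) :
    PsiR p ψ i (MvPolynomial.aeval (fun j => (1 : p.asIdeal.ResidueField) ⊗ₜ[R] y j) g) =
      MvPolynomial.eval (fun j => ψ i (y j)) g := by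
  have h1 := MvPolynomial.comp_aeval_apply (f := fun j => (1 : p.asIdeal.ResidueField) ⊗ₜ[R] y j) (Psi p ψ i) g
  refine h1.trans ?_
  have h2 : (fun j => Psi p ψ i ((1 : p.asIdeal.ResidueField) ⊗ₜ[R] y j)) = fun j => ψ i (y j) := by
    funext j
    rw [Psi_tmul, one_mul]
  rw [h2]
  rfl

lemma aeval_rs_eq_zero_iff {σ : Type*} (y : σ → B) (g : MvPolynomial σ p.asIdeal.ResidueField) :
    MvPolynomial.aeval (fun j => rs p ψ (y j)) g = 0 ↔ ∀ i, MvPolynomial.eval (fun j => ψ i (y j)) g = 0 := by
  rw [aeval_rs, mkV_eq_zero_iff]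
  refine forall_congr' fun i => ?_
  rw [Psi_aeval]

lemma adjoin_rs {r : ℕ} (b : Fin r → B) (hb : Algebra.adjoin R (Set.range b) = ⊤) :
    Algebra.adjoin p.asIdeal.ResidueField (Set.range fun j => rs p ψ (b j)) = ⊤ := by
  rw [eq_top_iff]
  intro z _
  obtain ⟨z, rfl⟩ := mkV_surjective _ z
  have h1 : ∀ c : B, rs p ψ c ∈ Algebra.adjoin p.asIdeal.ResidueField (Set.range fun j => rs p ψ (b j)) := by
    intro c
    have hc : c ∈ Algebra.adjoin R (Set.range b) := hb ▸ Algebra.mem_top
    induction hc using Algebra.adjoin_induction with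
    | mem x hx =>
      obtain ⟨j, rfl⟩ := hx
      exact Algebra.subset_adjoin ⟨j, rfl⟩
    | algebraMap r =>
      have h2 : rs p ψ (algebraMap R B r) = algebraMap p.asIdeal.ResidueField _ (algebraMap R _ r) := by
        change mkV (PsiR p ψ) (1 ⊗ₜ algebraMap R B r) = mkV (PsiR p ψ) (algebraMap R _ r ⊗ₜ 1)
        congr 1
        rw [Algebra.algebraMap_eq_smul_one, ← smul_tmul, ← Algebra.algebraMap_eq_smul_one]
      rw [h2]
      exact Subalgebra.algebraMap_mem _ _
    | add x y _ _ hx hy =>
      have h2 : rs p ψ (x + y) = rs p ψ x + rs p ψ y := by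
        unfold rs
        rw [tmul_add, map_add]
      rw [h2]
      exact add_mem hx hy
    | mul x y _ _ hx hy =>
      have h2 : rs p ψ (x * y) = rs p ψ x * rs p ψ y := by
        unfold rs
        rw [← map_mul, Algebra.TensorProduct.tmul_mul_tmul, one_mul]
      rw [h2]
      exact mul_mem hx hy
  induction z using TensorProduct.induction_on with
  | zero => rw [map_zero]; exact zero_mem _
  | tmul c b' =>
    have h2 : mkV (PsiR p ψ) (c ⊗ₜ b') = c • rs p ψ b' := by
      rw [Algebra.smul_def]
      change mkV (PsiR p ψ) (c ⊗ₜ b') = mkV (PsiR p ψ) (c ⊗ₜ 1) * mkV (PsiR p ψ) (1 ⊗ₜ b')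
      rw [← map_mul, Algebra.TensorProduct.tmul_mul_tmul, one_mul, mul_one]
    rw [h2]
    exact Subalgebra.smul_mem _ (h1 b') _
  | add x y hx hy =>
    rw [map_add]
    exact add_mem (hx trivial) (hy trivial)

/-- **Coordinates with dense values**, from the dimension. -/
theorem exists_of_le_dim {r : ℕ} (b : Fin r → B) (hb : Algebra.adjoin R (Set.range b) = ⊤) {d : ℕ}
    (hd : (d : WithBot ℕ∞) ≤ topologicalKrullDim ↥(cl p ψ)) :
    ∃ y : Fin d → B, ∀ g : MvPolynomial (Fin d) p.asIdeal.ResidueField,
      (∀ i, MvPolynomial.eval (fun j => ψ i (y j)) g = 0) → g = 0 := by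
  rw [dim_cl] at hd
  obtain ⟨Q, e, hQ⟩ := Groth.Agent.Flat2D.FibDimAlg.exists_algebraicIndependent_of_le_ringKrullDim
    (k := p.asIdeal.ResidueField) (fun j => rs p ψ (b j)) (adjoin_rs p ψ b hb) hd
  refine ⟨fun j => b (e j), fun g hg => hQ g ?_⟩
  rw [(aeval_rs_eq_zero_iff p ψ (fun j => b (e j)) g).2 hg]
  exact zero_mem _

/-- **The dimension, from coordinates with dense values.** -/
theorem le_dim [Algebra.FiniteType R B] {d : ℕ} (y : Fin d → B)
    (hy : ∀ g : MvPolynomial (Fin d) p.asIdeal.ResidueField,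
      (∀ i, MvPolynomial.eval (fun j => ψ i (y j)) g = 0) → g = 0) :
    (d : WithBot ℕ∞) ≤ topologicalKrullDim ↥(cl p ψ) := by
  rw [dim_cl]
  have h1 : Algebra.FiniteType p.asIdeal.ResidueField (p.asIdeal.Fiber B) := inferInstance
  have h2 : Algebra.FiniteType p.asIdeal.ResidueField (QV (PsiR p ψ)) :=
    Algebra.FiniteType.of_surjective (Ideal.Quotient.mkₐ p.asIdeal.ResidueField (van (PsiR p ψ)))
      (Ideal.Quotient.mkₐ_surjective _ _)
  let a : MvPolynomial (Fin d) p.asIdeal.ResidueField →ₐ[p.asIdeal.ResidueField] QV (PsiR p ψ) :=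
    MvPolynomial.aeval (fun j => rs p ψ (y j))
  have ha : ∀ g, a g = 0 → g = 0 := fun g hg => hy g ((aeval_rs_eq_zero_iff p ψ y g).1 hg)
  let W : Submonoid (QV (PsiR p ψ)) := (nonZeroDivisors (MvPolynomial (Fin d) p.asIdeal.ResidueField)).map a
  have hW : Disjoint ((⊥ : Ideal (QV (PsiR p ψ))) : Set (QV (PsiR p ψ))) (W : Set (QV (PsiR p ψ))) := by
    rw [Set.disjoint_left]
    rintro _ h0 ⟨g, hg, rfl⟩
    have h3 : g = 0 := ha g h0
    exact nonZeroDivisors.ne_zero hg h3
  obtain ⟨Q, hQ, -, hQW⟩ := Ideal.exists_le_prime_disjoint ⊥ W hW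
  refine Groth.Agent.Flat2D.FibDimAlg.le_ringKrullDim_of_algebraicIndependent (k := p.asIdeal.ResidueField)
    ⟨Q, hQ⟩ (fun j => rs p ψ (y j)) fun g hg => ?_
  by_contra hg0
  exact Set.disjoint_left.mp hQW hg ⟨g, mem_nonZeroDivisors_of_ne_zero hg0, rfl⟩

lemma le_of_forall_nat {x y : WithBot ℕ∞} (h : ∀ d : ℕ, (d : WithBot ℕ∞) ≤ x → (d : WithBot ℕ∞) ≤ y) : x ≤ y := by
  induction x using WithBot.recBotCoe with
  | bot => exact bot_le
  | coe x =>
    induction y using WithBot.recBotCoe with
    | bot =>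
      have h1 := h 0 (by exact_mod_cast zero_le)
      simp at h1
    | coe y =>
      rw [WithBot.coe_le_coe]
      refine ENat.forall_natCast_le_iff_le.mp fun d hd => ?_
      have h1 := h d (by exact_mod_cast hd)
      exact_mod_cast h1

/-- **The dimension of the closure of a family of sections does not drop under generization**, affine case. -/
theorem dim_le [Algebra.FiniteType R B] (p₀ p₁ : PrimeSpectrum R) (φ : I → (B →ₐ[R] Localization.AtPrime p₀.asIdeal))
    (α : Localization.AtPrime p₀.asIdeal →ₐ[R] p₁.asIdeal.ResidueField) :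
    topologicalKrullDim ↥(cl p₀ fun i =>
      (IsScalarTower.toAlgHom R (Localization.AtPrime p₀.asIdeal) p₀.asIdeal.ResidueField).comp (φ i)) ≤
    topologicalKrullDim ↥(cl p₁ fun i => α.comp (φ i)) := by
  refine le_of_forall_nat fun d hd => ?_
  obtain ⟨s, hs⟩ := (inferInstance : Algebra.FiniteType R B).out
  have hb : Algebra.adjoin R (Set.range fun j : Fin s.card => (s.equivFin.symm j : B)) = ⊤ := by
    rw [← hs]
    congr 1
    ext x
    constructor
    · rintro ⟨j, rfl⟩
      exact (s.equivFin.symm j).2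
    · intro hx
      exact ⟨s.equivFin ⟨x, hx⟩, by simp⟩
  obtain ⟨y, hy⟩ := exists_of_le_dim p₀ _ _ hb hd
  refine le_dim p₁ _ y fun g hg => ?_
  exact DenseSpec.dense_spec (α : Localization.AtPrime p₀.asIdeal →+* p₁.asIdeal.ResidueField)
    (fun i j => φ i (y j)) hy g hg

end K12.SecDim
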