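import Groth.Agent.SGA3x.K12.Central
import Groth.Agent.SGA3x.K12.CentNil
import Groth.Agent.SGA3x.K12.Agree
import Groth.Agent.SGA3x.K12.MonoNhd
import Groth.Agent.Sga3A.FibRes
import Groth.Agent.Sga3B.TorusAlgClosed
import Groth.Agent.Localalg.GrpSchComp2

/-!
# Morphisms from a diagonalisable group which agree on the torsion points

`M` finitely generated, `G` a scheme over `Spec C`, `a b : D(M) ⟶ G`.

* `eq_of_torsion`: `G` separated; if `a` and `b` agree on the points of finite order then `a = b`;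
* `eq_of_torsion_of_field`: the same for an arbitrary `G`, if moreover `G` is separated over the residue fields of `C`;
* `torsion_of_local`: `C` noetherian and local; if `a` and `b` agree over the artinian quotients of `C` then they agree
  on the points of finite order.
-/

set_option autoImplicit false
universe u
open CategoryTheory MonoidalCategory CartesianMonoidalCategory MonObj GrpObj AlgebraicGeometry Limits

namespace K12.TorsAgree

open Groth.Agent Groth.Agent.Sga3.H827 Groth.Agent.Sga3B.DSPts Groth.Agent.Sga3B.InfConj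
  Groth.Agent.Sga3B.InfConjFam KerPts Groth.Agent.Sga3A.FibRes Groth.Agent.SGA3x.K5.Clopen Central

variable {S : Scheme.{u}} {M : Type} [AddCommGroup M]

/-- Agreement on the points of finite order. -/
def Tors {H G : Over S} [GrpObj H] (a b : H ⟶ G) : Prop :=
  ∀ (T : Over S) (x : T ⟶ H) (l : ℕ), 0 < l → x ^ l = 1 → x ≫ a = x ≫ b

variable {C : Type u} [CommRing C] {G : Over (Spec (CommRingCat.of C))}
  {a b : Red.DS (Spec (CommRingCat.of C)) M ⟶ G}

lemma charPt_pow {E : Type u} [CommRing E] [Algebra C E] (χ : Multiplicative M →* E) (l : ℕ) :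
    charPt (C := C) (χ ^ l) = charPt χ ^ l := by
  unfold charPt
  rw [← map_pow]
  congr 1
  ext m
  simp

lemma charPt_one {E : Type u} [CommRing E] [Algebra C E] : charPt (C := C) (1 : Multiplicative M →* E) = 1 :=
  MonoNhd.charPt_one

/-- Points of finite order with values in an algebra. -/
lemma Tors.charPt_comp (h : Tors a b) {E : Type u} [CommRing E] [Algebra C E] (χ : Multiplicative M →* E) (l : ℕ)
    (hl : 0 < l) (hχ : ∀ m, χ (m ^ l) = 1) : charPt (C := C) χ ≫ a = charPt (C := C) χ ≫ b := by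
  refine h _ _ l hl ?_
  rw [← charPt_pow]
  have h1 : χ ^ l = 1 := by
    refine MonoidHom.ext fun m => ?_
    rw [MonoidHom.pow_apply, ← map_pow, hχ]
    rfl
  rw [h1, charPt_one]

/-- The points with values in `C[M / M ^ l]`. -/
noncomputable abbrev qPt (C : Type u) [CommRing C] (M : Type) [AddCommGroup M] (l : ℕ) :
    Multiplicative M →* MonoidAlgebra C (Q (Multiplicative M) l) :=
  (MonoidAlgebra.of C (Q (Multiplicative M) l)).comp (qm (Multiplicative M) l)

lemma qPt_pow (l : ℕ) (m : Multiplicative M) : qPt C M l (m ^ l) = 1 := by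
  have h1 : qm (Multiplicative M) l (m ^ l) = 1 := by
    refine ((qm_eq_iff l (n := 1)).2 ?_).trans (map_one _)
    refine ⟨m⁻¹, ?_⟩
    simp
  change MonoidAlgebra.of C _ (qm (Multiplicative M) l (m ^ l)) = 1
  rw [h1, map_one]

/-- `C[M] → C[M / M ^ l]`. -/
noncomputable abbrev qAlg (C : Type u) [CommRing C] (M : Type) [AddCommGroup M] (l : ℕ) :
    MonoidAlgebra C (Multiplicative M) →ₐ[C] MonoidAlgebra C (Q (Multiplicative M) l) :=
  (qma C (Multiplicative M) l : _ →ₐ[C] _)

lemma charPt_qPt (l : ℕ) : charPt (C := C) (qPt C M l) = ptMap (qAlg C M l) ≫ univPt C M := by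
  unfold univPt
  rw [ptMap_charPt]
  congr 1
  ext m
  simp [qPt, qAlg, qma]

/-- **Agreement on the torsion points**, `G` separated. -/
theorem eq_of_torsion [AddGroup.FG M] [IsSeparated G.hom] (h : Tors a b) : a = b := by
  obtain ⟨J, hJ⟩ := MonoNhd.exists_ideal (univPt C M ≫ a) (univPt C M ≫ b)
  have h0 : ∀ j ∈ J, j = 0 := by
    intro j hj
    refine eq_zero_of_qma j fun l hl => ?_
    have h1 := h.charPt_comp (qPt C M l) l hl (qPt_pow l)
    rw [charPt_qPt, Category.assoc, Category.assoc, hJ] at h1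
    have h2 := h1 j hj
    rw [gl_ptMap] at h2
    exact (map_eq_zero_iff _ (gPt_injective C _)).1 h2
  have h1 : univPt C M ≫ a = univPt C M ≫ b := by
    have h2 := (hJ (pt C _) (𝟙 _)).2 (fun j hj => by rw [h0 j hj, map_zero])
    rwa [Category.id_comp, Category.id_comp] at h2
  obtain ⟨t, ht⟩ := exists_eq_comp_charPt (𝟙 (Red.DS (Spec (CommRingCat.of C)) M))
  rw [← Category.id_comp a, ← Category.id_comp b, ht, Category.assoc, Category.assoc, h1]

section map

variable {S S' : Scheme.{u}} {H G : Over S} [GrpObj H] {a b : H ⟶ G}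

theorem Tors.map (h : Tors a b) (v : S' ⟶ S) :
    Tors (H := Red.bc v H) (G := Red.bc v G) ((Over.pullback v).map a) ((Over.pullback v).map b) := by
  intro T x l hl hx
  apply (Sga3B.BcPts.bcEquiv v T G).symm.injective
  rw [Sga3B.BcPts.bcEquiv_symm_comp, Sga3B.BcPts.bcEquiv_symm_comp]
  refine h _ _ l hl ?_
  change ((Sga3B.BcPts.bcMulEquiv v T H).symm x) ^ l = 1
  rw [← map_pow, hx, map_one]

theorem Tors.pre {H' : Over S} [GrpObj H'] (h : Tors a b) (e : H' ⟶ H) [IsMonHom e] : Tors (e ≫ a) (e ≫ b) := by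
  intro T x l hl hx
  rw [← Category.assoc, ← Category.assoc]
  refine h _ _ l hl ?_
  rw [← MonObj.pow_comp, hx, MonObj.one_comp]

end map

/-- **Agreement on the torsion points**, over a field. -/
theorem eqz_of_torsion_of_field [GrpObj G] [AddGroup.FG M] (h : Tors a b) {k : Type u} [Field k] (ρ : C →+* k) :
    Eqz a b (Over.mk (Spec.map (CommRingCat.ofHom ρ))) := by
  let v : Spec (CommRingCat.of k) ⟶ Spec (CommRingCat.of C) := Spec.map (CommRingCat.ofHom ρ)
  let i := (Sga3B.TorusAlgClosed.dsBcIso v M).inv.hom.hom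
  have hi : IsMonHom i := inferInstance
  have hi' : IsIso i := inferInstanceAs (IsIso ((Grp.forget _).map (Sga3B.TorusAlgClosed.dsBcIso v M).inv))
  have hsep : IsSeparated (Red.bc v G).hom := Localalg.GrpSchComp2.isSeparated_hom _
  have h1 : i ≫ (Over.pullback v).map a = i ≫ (Over.pullback v).map b := eq_of_torsion ((h.map v).pre i)
  rw [eqz_mk_iff]
  exact (cancel_epi i).1 h1

lemma finite_Q (M : Type) [CommGroup M] [Group.FG M] {l : ℕ} (hl : 0 < l) : Finite (Q M l) := by
  refine CommGroup.finite_of_fg_isMulTorsion _ ?_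
  intro x
  obtain ⟨m, rfl⟩ := QuotientGroup.mk_surjective x
  rw [isOfFinOrder_iff_pow_eq_one]
  refine ⟨l, hl, ?_⟩
  rw [← QuotientGroup.mk_pow, QuotientGroup.eq_one_iff]
  exact ⟨m, rfl⟩

/-- The infinitesimal neighbourhoods of the closed point. -/
noncomputable abbrev nb (C : Type u) [CommRing C] [IsLocalRing C] (k : ℕ) : Over (Spec (CommRingCat.of C)) :=
  Over.mk (Spec.map (CommRingCat.ofHom (Ideal.Quotient.mk ((IsLocalRing.maximalIdeal C) ^ (k + 1)))))

/-- Morphisms from a finite scheme over a noetherian local ring, agreeing over the artinian quotients. -/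
theorem eq_of_finite [IsLocalRing C] [IsNoetherianRing C] {A : Type u} [CommRing A] [Algebra C A] [Module.Finite C A]
    (a b : pt C A ⟶ G) (h : ∀ k : ℕ, Eqz a b (nb C k)) : a = b := by
  ext1
  refine Agree.eq_of_pow (R := C) a.left b.left fun k => ?_
  let J : Ideal C := (IsLocalRing.maximalIdeal C) ^ (k + 1)
  let J' : Ideal A := J.map (algebraMap C A)
  let ψ : C ⧸ J →+* A ⧸ J' := Ideal.quotientMap J' (algebraMap C A) Ideal.le_comap_map
  let Y : Over (Spec (CommRingCat.of C)) :=
    Over.mk (Spec.map (CommRingCat.ofHom (Ideal.Quotient.mk J')) ≫ (pt C A).hom)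
  let y : Y ⟶ pt C A := Over.homMk (Spec.map (CommRingCat.ofHom (Ideal.Quotient.mk J'))) rfl
  let z : Y ⟶ nb C k := Over.homMk (Spec.map (CommRingCat.ofHom ψ)) (by
    change Spec.map (CommRingCat.ofHom ψ) ≫ Spec.map (CommRingCat.ofHom (Ideal.Quotient.mk J)) =
      Spec.map (CommRingCat.ofHom (Ideal.Quotient.mk J')) ≫ Spec.map (CommRingCat.ofHom (algebraMap C A))
    rw [← Spec.map_comp, ← Spec.map_comp, ← CommRingCat.ofHom_comp, ← CommRingCat.ofHom_comp]
    rfl)
  exact congrArg (fun f => Over.Hom.left f) (h k Y z y)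

/-- **Agreement over the artinian quotients.** -/
theorem tors_of_local [AddGroup.FG M] [IsLocalRing C] [IsNoetherianRing C] (h : ∀ k : ℕ, Eqz a b (nb C k)) :
    Tors a b := by
  intro T x l hl hx
  let Q' : Type := Q (Multiplicative M) l
  let N : Type := Additive Q'
  let φ : M →+ N := MonoidHom.toAdditiveRight (qm (Multiplicative M) l)
  have hfin : Finite Q' := finite_Q (Multiplicative M) hl
  have hfin' : Module.Finite C (MonoidAlgebra C (Multiplicative N)) := inferInstanceAs
    (Module.Finite C (MonoidAlgebra C Q'))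
  have hx' : ∀ m, dsChar x (m ^ l) = 1 := by
    intro m
    have h1 : dsChar x ^ l = 1 := by
      change ((dsEquiv T M).symm x) ^ l = 1
      rw [← map_pow, hx, map_one]
    rw [map_pow, ← MonoidHom.pow_apply, h1]
    rfl
  let χ : Multiplicative N →* Γ(T.left, ⊤) := QuotientGroup.lift _ (dsChar x) (by
    rintro _ ⟨m, rfl⟩
    exact hx' m)
  have h1 : x = dsEquiv T N χ ≫ Red.DSmap _ φ := by
    rw [dsEquiv_DSmap]
    apply (dsEquiv T M).symm.injective
    rw [MulEquiv.symm_apply_apply]
    rfl
  obtain ⟨t, ht⟩ := exists_eq_comp_charPt (dsEquiv T N χ)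
  have h2 : univPt C N ≫ Red.DSmap _ φ ≫ a = univPt C N ≫ Red.DSmap _ φ ≫ b := by
    refine eq_of_finite _ _ fun k T' t' q => ?_
    rw [← Category.assoc, ← Category.assoc, ← Category.assoc, ← Category.assoc]
    exact h k T' t' _
  rw [h1, ht, Category.assoc, Category.assoc, Category.assoc, Category.assoc, h2]

end K12.TorsAgree
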